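import Mathlib

/-!
# Products of conjugates in linear groups: vocabulary
-/

set_option autoImplicit false
set_option linter.unusedSectionVars false
set_option linter.unusedSimpArgs false

namespace CfsgLib.SLCover

open Matrix

variable {F : Type*} [Field F] {ι κ : Type} [Fintype ι] [DecidableEq ι] [Fintype κ] [DecidableEq κ]

/-- Not a scalar matrix. -/
def NonScalar (M : Matrix ι ι F) : Prop := ∀ c : F, M ≠ c • 1

/-- Conjugate by a matrix of determinant one. -/
def SCls (A X : Matrix ι ι F) : Prop := ∃ P : Matrix ι ι F, P.det = 1 ∧ X * P = P * A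

/-- Conjugate. -/
def GCls (A X : Matrix ι ι F) : Prop := ∃ P : Matrix ι ι F, IsUnit P.det ∧ X * P = P * A

/-- No common eigenvector for `c`. -/
def NoCommon (l : List (Matrix ι ι F)) (c : F) : Prop := ∀ w : ι → F, (∀ X ∈ l, X *ᵥ w = c • w) → w = 0

/-- Every non-scalar matrix of the right determinant is a product of `k` conjugates without common eigenvector. -/
def Cov (R : Matrix ι ι F → Matrix ι ι F → Prop) (A : Matrix ι ι F) (k : ℕ) (c : F) : Prop :=
  ∀ B : Matrix ι ι F, NonScalar B → B.det = A.det ^ k →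
    ∃ l : List (Matrix ι ι F), l.length = k ∧ (∀ X ∈ l, R A X) ∧ l.prod = B ∧ NoCommon l c

theorem SCls.refl (A : Matrix ι ι F) : SCls A A := ⟨1, det_one, by simp⟩

theorem GCls.refl (A : Matrix ι ι F) : GCls A A := ⟨1, by simp, by simp⟩

theorem SCls.gcls {A X : Matrix ι ι F} : SCls A X → GCls A X := fun ⟨P, hP, h⟩ => ⟨P, by rw [hP]; exact isUnit_one, h⟩

theorem SCls.trans {A X Y : Matrix ι ι F} : SCls A X → SCls X Y → SCls A Y := by
  rintro ⟨P, hP, h⟩ ⟨Q, hQ, h'⟩
  exact ⟨Q * P, by rw [det_mul, hP, hQ, one_mul], by rw [← Matrix.mul_assoc, h', Matrix.mul_assoc, h, Matrix.mul_assoc]⟩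

theorem SCls.symm {A X : Matrix ι ι F} : SCls A X → SCls X A := by
  rintro ⟨P, hP, h⟩
  have hu : IsUnit P.det := by rw [hP]; exact isUnit_one
  refine ⟨P⁻¹, by rw [det_nonsing_inv, hP, Ring.inverse_one], ?_⟩
  calc A * P⁻¹ = P⁻¹ * (P * A) * P⁻¹ := by rw [← Matrix.mul_assoc P⁻¹, nonsing_inv_mul _ hu, Matrix.one_mul]
    _ = P⁻¹ * X := by rw [← h, Matrix.mul_assoc, Matrix.mul_assoc, mul_nonsing_inv _ hu, Matrix.mul_one]

theorem SCls.det_eq {A X : Matrix ι ι F} : SCls A X → X.det = A.det := by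
  rintro ⟨P, hP, h⟩
  have := congrArg det h
  rwa [det_mul, det_mul, hP, mul_one, one_mul] at this

theorem GCls.det_eq {A X : Matrix ι ι F} : GCls A X → X.det = A.det := by
  rintro ⟨P, hP, h⟩
  have := congrArg det h
  rw [det_mul, det_mul, mul_comm P.det] at this
  exact mul_right_cancel₀ hP.ne_zero this

theorem Cov.gcls {A : Matrix ι ι F} {k : ℕ} {c : F} (h : Cov SCls A k c) : Cov GCls A k c := fun B hB hd => by
  obtain ⟨l, h1, h2, h3, h4⟩ := h B hB hd
  exact ⟨l, h1, fun X hX => (h2 X hX).gcls, h3, h4⟩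

theorem det_prod {A : Matrix ι ι F} {l : List (Matrix ι ι F)} (h : ∀ X ∈ l, X.det = A.det) :
    l.prod.det = A.det ^ l.length := by
  induction l with
  | nil => simp
  | cons X l ih => rw [List.prod_cons, det_mul, h X (by simp), ih fun Y hY => h Y (by simp [hY]), List.length_cons,
      pow_succ']

theorem NonScalar.exists_vec {M : Matrix ι ι F} (h : NonScalar M) : ∃ v : ι → F, ∀ c : F, M *ᵥ v ≠ c • v := by
  classical
  by_contra hcon
  push Not at hcon
  obtain ⟨i₀⟩ : Nonempty ι := by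
    by_contra he
    rw [not_nonempty_iff] at he
    exact h 0 (Subsingleton.elim _ _)
  obtain ⟨c, hc⟩ := hcon (Pi.single i₀ 1)
  refine h c (Matrix.ext_of_mulVec_single fun i => ?_)
  rw [smul_mulVec, one_mulVec]
  rcases eq_or_ne i i₀ with rfl | hi
  · exact hc
  obtain ⟨d, hd⟩ := hcon (Pi.single i 1)
  obtain ⟨e, he⟩ := hcon (Pi.single i₀ 1 + Pi.single i 1)
  rw [mulVec_add, hc, hd] at he
  have e1 := congrFun he i₀
  have e2 := congrFun he i
  simp [hi, Ne.symm hi] at e1 e2
  rw [hd, e2, ← e1]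

theorem indep_of_vec {M : Matrix ι ι F} {v : ι → F} (h : ∀ c : F, M *ᵥ v ≠ c • v) :
    LinearIndependent F ![v, M *ᵥ v] :=
  (LinearIndependent.pair_iff' (fun e => h 0 (by rw [e]; simp))).2 fun c => (h c).symm

/-- A matrix with two prescribed columns. -/
theorem exists_cols {i j : ι} (hij : i ≠ j) {v y : ι → F} (h : LinearIndependent F ![v, y]) :
    ∃ P : Matrix ι ι F, IsUnit P.det ∧ P *ᵥ Pi.single i 1 = v ∧ P *ᵥ Pi.single j 1 = y := by
  classical
  have hs : LinearIndepOn F id (Set.range ![v, y]) := h.linearIndepOn_id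
  let b := Module.Basis.extend hs
  haveI : Fintype (hs.extend (Set.subset_univ (Set.range ![v, y]))) := FiniteDimensional.fintypeBasisIndex b
  have hcard : Fintype.card (hs.extend (Set.subset_univ (Set.range ![v, y]))) = Fintype.card ι := by
    rw [← Module.finrank_eq_card_basis b, Module.finrank_pi]
  have hv : v ∈ hs.extend (Set.subset_univ _) := hs.subset_extend _ ⟨0, rfl⟩
  have hy : y ∈ hs.extend (Set.subset_univ _) := hs.subset_extend _ ⟨1, rfl⟩
  have hne : v ≠ y := fun e => by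
    have := h.injective (a₁ := 0) (a₂ := 1) (by simpa using e)
    exact absurd this (by decide)
  obtain ⟨e₀⟩ : Nonempty (ι ≃ hs.extend (Set.subset_univ (Set.range ![v, y]))) :=
    ⟨Fintype.equivOfCardEq hcard.symm⟩
  let e₁ := e₀.trans (Equiv.swap (e₀ i) ⟨v, hv⟩)
  let e₂ := e₁.trans (Equiv.swap (e₁ j) ⟨y, hy⟩)
  have h1 : e₁ i = ⟨v, hv⟩ := by simp [e₁]
  have h2 : e₂ i = ⟨v, hv⟩ := by
    simp only [e₂, Equiv.trans_apply, h1]
    rw [Equiv.swap_apply_of_ne_of_ne]
    · rw [← h1]; exact fun e => hij (e₁.injective e)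
    · exact fun e => hne (congrArg Subtype.val e)
  have h3 : e₂ j = ⟨y, hy⟩ := by simp [e₂]
  let P : Matrix ι ι F := (Pi.basisFun F ι).toMatrix fun l => b (e₂ l)
  have hP : IsUnit P.det := by
    have hP' : P = (Pi.basisFun F ι).toMatrix (b.reindex e₂.symm) := by
      ext a c; simp [P, Module.Basis.toMatrix_apply]
    rw [hP']
    refine IsUnit.of_mul_eq_one ((b.reindex e₂.symm).toMatrix (Pi.basisFun F ι)).det ?_
    rw [← det_mul, Module.Basis.toMatrix_mul_toMatrix_flip, det_one]
  refine ⟨P, hP, ?_, ?_⟩ <;> funext a <;>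
    simp [P, mulVec_single, Module.Basis.toMatrix_apply, h2, h3, b, Module.Basis.extend_apply_self]

/-- The same with determinant one. -/
theorem exists_cols_det_one {i j k : ι} (hij : i ≠ j) (hki : k ≠ i) (hkj : k ≠ j) {v y : ι → F}
    (h : LinearIndependent F ![v, y]) :
    ∃ P : Matrix ι ι F, P.det = 1 ∧ P *ᵥ Pi.single i 1 = v ∧ P *ᵥ Pi.single j 1 = y := by
  obtain ⟨P, hP, h1, h2⟩ := exists_cols hij h
  obtain ⟨D, hD⟩ : ∃ D : Matrix ι ι F, D = diagonal (Function.update (fun _ => (1 : F)) k P.det⁻¹) := ⟨_, rfl⟩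
  refine ⟨P * D, ?_, ?_, ?_⟩
  · rw [det_mul, hD, det_diagonal, Finset.prod_update_of_mem (Finset.mem_univ k)]
    simp [hP.ne_zero]
  all_goals rw [← mulVec_mulVec, hD, diagonal_mulVec_single]
  · rw [Function.update_of_ne (Ne.symm hki), mul_one, h1]
  · rw [Function.update_of_ne (Ne.symm hkj), mul_one, h2]

/-- Transitivity on independent pairs. -/
theorem exists_move (hι : 3 ≤ Fintype.card ι) {v y u z : ι → F} (h : LinearIndependent F ![v, y])
    (h' : LinearIndependent F ![u, z]) : ∃ P : Matrix ι ι F, P.det = 1 ∧ P *ᵥ v = u ∧ P *ᵥ y = z := by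
  obtain ⟨f⟩ : Nonempty (Fin 3 ↪ ι) := Function.Embedding.nonempty_of_card_le (by simpa using hι)
  have hij : f 0 ≠ f 1 := by simp
  obtain ⟨P, hP, p1, p2⟩ := exists_cols_det_one hij (by simp : f 2 ≠ f 0) (by simp : f 2 ≠ f 1) h
  obtain ⟨Q, hQ, q1, q2⟩ := exists_cols_det_one hij (by simp : f 2 ≠ f 0) (by simp : f 2 ≠ f 1) h'
  have hu : IsUnit P.det := by rw [hP]; exact isUnit_one
  refine ⟨Q * P⁻¹, by rw [det_mul, det_nonsing_inv, hP, hQ, Ring.inverse_one, one_mul], ?_, ?_⟩
  · rw [← p1, mulVec_mulVec, Matrix.mul_assoc, nonsing_inv_mul _ hu, Matrix.mul_one, q1]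
  · rw [← p2, mulVec_mulVec, Matrix.mul_assoc, nonsing_inv_mul _ hu, Matrix.mul_one, q2]

theorem det_smul_one (c : F) : (c • (1 : Matrix ι ι F)).det = c ^ Fintype.card ι := by rw [det_smul, det_one, mul_one]

/-- Renaming the coordinates. -/
theorem SCls.submatrix {A X : Matrix ι ι F} (h : SCls A X) (e : κ ≃ ι) :
    SCls (A.submatrix e e) (X.submatrix e e) := by
  obtain ⟨P, hP, h⟩ := h
  exact ⟨P.submatrix e e, by rw [det_submatrix_equiv_self, hP], by rw [submatrix_mul_equiv, submatrix_mul_equiv, h]⟩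

theorem NonScalar.submatrix {M : Matrix ι ι F} (h : NonScalar M) (e : κ ≃ ι) : NonScalar (M.submatrix e e) := by
  intro c hc
  refine h c ?_
  have := congrArg (fun X : Matrix κ κ F => X.submatrix e.symm e.symm) hc
  simpa [submatrix_submatrix, Matrix.submatrix_smul, submatrix_one_equiv] using this

theorem Cov.submatrix {A : Matrix ι ι F} {k : ℕ} {c : F} (h : Cov SCls A k c) (e : κ ≃ ι) :
    Cov SCls (A.submatrix e e) k c := by
  intro B hB hd
  obtain ⟨l, h1, h2, h3, h4⟩ := h (B.submatrix e.symm e.symm) (hB.submatrix e.symm) (by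
    rw [det_submatrix_equiv_self, hd, det_submatrix_equiv_self])
  refine ⟨l.map fun X => X.submatrix e e, by simp [h1], ?_, ?_, ?_⟩
  · simp only [List.mem_map]
    rintro _ ⟨X, hX, rfl⟩
    exact (h2 X hX).submatrix e
  · have key : ∀ m : List (Matrix ι ι F), (m.map fun X => X.submatrix e e).prod = m.prod.submatrix e e := by
      intro m
      induction m with
      | nil => simp
      | cons X m ih => rw [List.map_cons, List.prod_cons, ih, List.prod_cons, submatrix_mul_equiv]
    rw [key, h3, submatrix_submatrix, Equiv.symm_comp_self, submatrix_id_id]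
  · intro w hw
    have h0 := h4 (w ∘ e.symm) fun X hX => by
      have := hw (X.submatrix e e) (List.mem_map.2 ⟨X, hX, rfl⟩)
      rw [submatrix_mulVec_equiv] at this
      funext i
      simpa using congrFun this (e.symm i)
    funext i
    simpa using congrFun h0 (e i)

end CfsgLib.SLCover
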