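import Cfsg.Agent.Lib.Classical.SLCover.Coprime

/-!
# Products of two classes of two by two matrices
-/

set_option autoImplicit false
set_option linter.unusedSectionVars false
set_option linter.unusedSimpArgs false

namespace CfsgLib.SLCover

open Matrix Polynomial

variable {F : Type*} [Field F] [Fintype F]

theorem two_eq_zero_or_odd : (2 : F) = 0 ∨ (Fintype.card F % 2 = 1 ∧ (2 : F) ≠ 0) := by
  rcases eq_or_ne (2 : F) 0 with h | h
  · exact Or.inl h
  refine Or.inr ⟨FiniteField.odd_card_of_char_ne_two fun hc => h ?_, h⟩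
  haveI := ringChar.of_eq hc
  exact CharTwo.two_eq_zero

theorem exists_sqrt_of_two {a : F} (h : (2 : F) = 0) : ∃ x : F, x * x = a := by
  have hc : ringChar F = 2 := by
    by_contra hc
    exact Ring.two_ne_zero hc h
  obtain ⟨x, hx⟩ := FiniteField.isSquare_of_char_two hc a
  exact ⟨x, hx.symm⟩

/-- A conic with non-degenerate quadratic part has a point. -/
theorem conic {τ D : F} (hτ : τ ^ 2 - 4 * D ≠ 0) (s u N : F) :
    ∃ x z : F, x ^ 2 + τ * x * z + D * z ^ 2 - s * x - u * z + N = 0 := by
  rcases two_eq_zero_or_odd (F := F) with h2 | ⟨hodd, h2⟩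
  · have ht : τ ≠ 0 := fun h => hτ (by rw [h]; linear_combination (-2 * D) * h2)
    obtain ⟨x, hx⟩ := exists_sqrt_of_two (a := -(D * (s / τ) ^ 2 - u * (s / τ) + N)) h2
    refine ⟨x, s / τ, ?_⟩
    have e : τ * x * (s / τ) = s * x := by field_simp
    rw [e]
    linear_combination hx
  · obtain ⟨y, z, hyz⟩ := FiniteField.exists_root_sum_quadratic (f := Polynomial.X ^ 2)
      (g := C (-(τ ^ 2 - 4 * D)) * Polynomial.X ^ 2 + C (-(4 * u - 2 * τ * s)) * Polynomial.X + C (-(s ^ 2 - 4 * N)))
      (degree_X_pow 2) (degree_quadratic (neg_ne_zero.2 hτ)) hodd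
    refine ⟨(s - τ * z + y) / 2, z, ?_⟩
    simp only [eval_add, eval_mul, eval_C, eval_pow, eval_X] at hyz
    field_simp
    linear_combination hyz

/-- No root of the quadratic with the given trace and determinant. -/
def NoRoot (s D : F) : Prop := ∀ x : F, x * x - s * x + D ≠ 0

theorem cyclic_two {M : Matrix (Fin 2) (Fin 2) F} (h : NonScalar M) : Cyclic M := by
  obtain ⟨v, hv⟩ := h.exists_vec
  refine ⟨v, fun W hW hinv => ?_⟩
  have hli := indep_of_vec hv
  have hle : Submodule.span F (Set.range ![v, M *ᵥ v]) ≤ W := by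
    rw [Submodule.span_le]
    rintro _ ⟨i, rfl⟩
    fin_cases i
    · exact hW
    · exact hinv v hW
  have htop : Submodule.span F (Set.range ![v, M *ᵥ v]) = ⊤ := hli.span_eq_top_of_card_eq_finrank (by simp)
  exact top_le_iff.1 (htop ▸ hle)

theorem gcls_two {A X : Matrix (Fin 2) (Fin 2) F} (hA : NonScalar A) (hX : NonScalar X) (ht : A.trace = X.trace)
    (hd : A.det = X.det) : GCls A X :=
  Cyclic.gcls_of_charpoly (cyclic_two hA) (cyclic_two hX) (by rw [charpoly_fin_two, charpoly_fin_two, ht, hd])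

theorem NoRoot.nonScalar {M : Matrix (Fin 2) (Fin 2) F} {s D : F} (h : NoRoot s D) (ht : M.trace = s)
    (hd : M.det = D) : NonScalar M := by
  intro c hc
  refine h c ?_
  rw [← ht, ← hd, hc, trace_fin_two, det_fin_two]
  simp
  ring

theorem nonScalar_of_sep {M : Matrix (Fin 2) (Fin 2) F} (h : M.trace ^ 2 - 4 * M.det ≠ 0) : NonScalar M := by
  intro c hc
  refine h ?_
  rw [hc, trace_fin_two, det_fin_two]
  simp
  ring

/-- A separable matrix is a product of members of two irreducible classes. -/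
theorem prod_two {G T V : Matrix (Fin 2) (Fin 2) F} (hG : G.trace ^ 2 - 4 * G.det ≠ 0)
    (hT : NoRoot T.trace T.det) (hV : NoRoot V.trace V.det) (hd : G.det = T.det * V.det) :
    ∃ T' V' : Matrix (Fin 2) (Fin 2) F, GCls T T' ∧ GCls V V' ∧ T' * V' = G := by
  obtain ⟨G0, hG0⟩ : ∃ G0 : Matrix (Fin 2) (Fin 2) F, G0 = !![0, -G.det; 1, G.trace] := ⟨_, rfl⟩
  have hG0n : NonScalar G0 := fun c hc => by
    have := congrFun (congrFun hc 1) 0
    simp [hG0] at this
  obtain ⟨P, hP, hPG⟩ := (gcls_two hG0n (nonScalar_of_sep hG) (by rw [hG0, trace_fin_two]; simp)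
    (by rw [hG0, det_fin_two]; simp)).exists_conj
  obtain ⟨x, z, hxz⟩ := conic hG T.trace (T.det * V.trace) T.det
  obtain ⟨M, hM⟩ : ∃ M : Matrix (Fin 2) (Fin 2) F,
      M = !![x, z * G.det + x * G.trace - T.det * V.trace; z, T.trace - x] := ⟨_, rfl⟩
  have hMd : M.det = T.det := by
    rw [hM, det_fin_two]; simp; linear_combination -hxz
  have hMt : M.trace = T.trace := by rw [hM, trace_fin_two]; simp
  have hT0 : T.det ≠ 0 := fun h => hT 0 (by simp [h])
  have hMu : IsUnit M.det := by rw [hMd]; exact isUnit_iff_ne_zero.2 hT0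
  have hVd : (M⁻¹ * G0).det = V.det := by
    rw [det_mul, det_nonsing_inv, hMd, Ring.inverse_eq_inv', hG0, det_fin_two_of]
    simp [hd, hT0]
  have hVt : (M⁻¹ * G0).trace = V.trace := by
    rw [inv_def, hMd, Ring.inverse_eq_inv', Matrix.smul_mul, trace_smul, trace_fin_two, hM, adjugate_fin_two, hG0]
    simp [Matrix.mul_apply, Fin.sum_univ_two]
    field_simp
  refine ⟨P * M * P⁻¹, P * (M⁻¹ * G0) * P⁻¹,
    (gcls_two (hT.nonScalar rfl rfl) (hT.nonScalar hMt hMd) hMt.symm hMd.symm).trans (GCls.of_conj _ hP),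
    (gcls_two (hV.nonScalar rfl rfl) (hV.nonScalar hVt hVd) hVt.symm hVd.symm).trans (GCls.of_conj _ hP), ?_⟩
  rw [hPG]
  simp only [Matrix.mul_assoc, nonsing_inv_mul_cancel_left _ _ hP, mul_nonsing_inv_cancel_left _ _ hMu]

/-- Irreducible quadratics with a given constant term avoid any single trace. -/
theorem exists_irred (h4 : 4 ≤ Fintype.card F) {D : F} (hD : D ≠ 0) (e : F) : ∃ s : F, s ≠ e ∧ NoRoot s D := by
  classical
  obtain ⟨E, hE⟩ : ∃ E : Finset F, E = Finset.univ.filter fun x => x ≠ 0 := ⟨_, rfl⟩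
  obtain ⟨img, himg⟩ : ∃ img, img = E.image fun x => x + D / x := ⟨_, rfl⟩
  obtain ⟨S, hS⟩ : ∃ S, S = E.filter fun x => x * x = D := ⟨_, rfl⟩
  have hEcard : E.card + 1 = Fintype.card F := by
    rw [hE, Finset.filter_ne', Finset.card_erase_of_mem (Finset.mem_univ _), Finset.card_univ]
    omega
  have hSE : ∀ x ∈ S, x + D / x ∈ img := fun x hx => by
    rw [himg]; exact Finset.mem_image_of_mem _ (Finset.mem_filter.1 (hS ▸ hx)).1
  have hkey : 2 * img.card ≤ E.card + S.card := by
    have h1 : E.card = ∑ y ∈ img, (E.filter fun x => x + D / x = y).card :=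
      Finset.card_eq_sum_card_fiberwise fun x hx => by rw [himg]; exact Finset.mem_image_of_mem _ hx
    have h2 : S.card = ∑ y ∈ img, (S.filter fun x => x + D / x = y).card :=
      Finset.card_eq_sum_card_fiberwise hSE
    rw [h1, h2, ← Finset.sum_add_distrib, mul_comm, ← smul_eq_mul]
    refine Finset.card_nsmul_le_sum _ _ _ fun y hy => ?_
    obtain ⟨x, hx, rfl⟩ := Finset.mem_image.1 (himg ▸ hy)
    have hx0 : x ≠ 0 := by simpa [hE] using hx
    rcases eq_or_ne (x * x) D with he | he
    · exact Nat.add_le_add (Finset.card_pos.2 ⟨x, by simp [hx]⟩) (Finset.card_pos.2 ⟨x, by simp [hS, hx, he]⟩)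
    · refine le_trans ?_ (Nat.le_add_right _ _)
      have hne : x ≠ D / x := fun h => he (by rw [eq_div_iff hx0] at h; exact h)
      calc 2 = ({x, D / x} : Finset F).card := (Finset.card_pair hne).symm
        _ ≤ _ := Finset.card_le_card fun w hw => by
          simp only [Finset.mem_insert, Finset.mem_singleton] at hw
          rcases hw with rfl | rfl
          · simp [hx]
          · simp [hE, hx0, hD, div_div_cancel₀ hD, add_comm]
  have hS2 : S.card ≤ 2 ∧ ((2 : F) = 0 → S.card ≤ 1) := by
    rcases S.eq_empty_or_nonempty with h | ⟨r, hr⟩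
    · simp [h]
    have hr' : r * r = D := by rw [hS] at hr; exact (Finset.mem_filter.1 hr).2
    have hsub : ∀ x ∈ S, x = r ∨ x = -r := fun x hx => by
      have hx' : x * x = D := by rw [hS] at hx; exact (Finset.mem_filter.1 hx).2
      exact mul_self_eq_mul_self_iff.1 (hx'.trans hr'.symm)
    refine ⟨(Finset.card_le_card (t := {r, -r}) fun x hx => by simpa using hsub x hx).trans Finset.card_le_two,
      fun h2 => (Finset.card_le_card (t := {r}) fun x hx => ?_).trans (by simp)⟩
    rcases hsub x hx with h | h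
    · simp [h]
    · have : -r = r := by linear_combination (-r) * h2
      simp [h, this]
  have hlt : img.card + 1 < Fintype.card F := by
    rcases two_eq_zero_or_odd (F := F) with h2 | ⟨hodd, -⟩
    · have := hS2.2 h2
      omega
    · have := hS2.1
      omega
  obtain ⟨s, hs⟩ : ∃ s, s ∉ insert e img := by
    by_contra hcon
    push Not at hcon
    have := Finset.card_le_card (fun x _ => hcon x : (Finset.univ : Finset F) ⊆ insert e img)
    have := Finset.card_insert_le e img
    simp only [Finset.card_univ] at *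
    omega
  simp only [Finset.mem_insert, not_or] at hs
  refine ⟨s, hs.1, fun x hx => hs.2 ?_⟩
  have hx0 : x ≠ 0 := fun h => hD (by simpa [h] using hx)
  rw [himg]
  refine Finset.mem_image.2 ⟨x, by simp [hE, hx0], ?_⟩
  field_simp
  linear_combination hx

end CfsgLib.SLCover
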