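import Cfsg.Agent.Lib.Classical.SLCover.Split

/-!
# Block triangular matrices with coprime blocks
-/

set_option autoImplicit false
set_option linter.unusedSectionVars false
set_option linter.unusedSimpArgs false

namespace CfsgLib.SLCover

open Matrix Polynomial

variable {F : Type*} [Field F] {ι κ : Type} [Fintype ι] [DecidableEq ι] [Fintype κ] [DecidableEq κ]

theorem isRoot_of_det {T : Matrix ι ι F} {a : F} : T.charpoly.eval a = (a • 1 - T).det := by
  rw [Matrix.eval_charpoly]; congr 1; ext i j; simp [Matrix.scalar_apply, Matrix.diagonal_apply, Matrix.one_apply]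

theorem det_sub_ne {T : Matrix ι ι F} {a : F} (h : T.charpoly.eval a ≠ 0) : IsUnit (T - a • 1).det := by
  rw [isRoot_of_det] at h
  rw [isUnit_iff_ne_zero, show T - a • 1 = -(a • 1 - T) by abel, det_neg]
  exact mul_ne_zero (pow_ne_zero _ (neg_ne_zero.2 one_ne_zero)) h

theorem eval_roots_ne {T : Matrix ι ι F} {l : List F} (h : HasRoots T l) {a : F} (ha : a ∉ l) :
    T.charpoly.eval a ≠ 0 := by
  rw [h, eval_list_prod, Ne, List.prod_eq_zero_iff]
  simp [sub_eq_zero]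
  exact ha

variable [Fintype F]

/-- Coprime lower triangular blocks give a cyclic matrix. -/
theorem cyclic_lower {T₁ : Matrix ι ι F} {T₂ : Matrix κ κ F} (E : Matrix κ ι F) (h₁ : Cyclic T₁) (h₂ : Cyclic T₂)
    {l : List F} (hl : HasRoots T₂ l) (h0 : (0 : F) ∉ l) (hco : ∀ a ∈ l, T₁.charpoly.eval a ≠ 0) :
    Cyclic (fromBlocks T₁ 0 E T₂) := by
  classical
  obtain ⟨x₁, hx₁⟩ := h₁
  obtain ⟨η₀, hη₀⟩ : ∃ η₀ : F → κ → F, ∀ a, (∃ η, η ≠ 0 ∧ η ᵥ* T₂ = a • η) → η₀ a ≠ 0 ∧ η₀ a ᵥ* T₂ = a • η₀ a :=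
    ⟨fun a => if h : ∃ η, η ≠ 0 ∧ η ᵥ* T₂ = a • η then h.choose else 0, fun a ha => by
      simp only [dif_pos ha]; exact ha.choose_spec⟩
  obtain ⟨A, hA⟩ : ∃ A : Finset F, ∀ a, a ∈ A ↔ a ∈ l ∧ ∃ η, η ≠ 0 ∧ η ᵥ* T₂ = a • η :=
    ⟨Finset.univ.filter fun a => a ∈ l ∧ ∃ η, η ≠ 0 ∧ η ᵥ* T₂ = a • η, by simp⟩
  obtain ⟨x₂, hx₂⟩ := exists_avoid (A := A) (M := κ → F) (by
      rw [Fintype.card_coe, ← Finset.card_univ]
      refine Finset.card_lt_card ((Finset.ssubset_iff_of_subset (Finset.subset_univ _)).2 ⟨0, Finset.mem_univ _, ?_⟩)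
      simp [hA, h0])
    (fun a => dotProductBilin F F (η₀ a.1)) (fun a => ((η₀ a.1 ᵥ* E) ᵥ* (a.1 • 1 - T₁)⁻¹) ⬝ᵥ x₁) (fun a => Or.inl fun h' => by
      refine (hη₀ a.1 ((hA _).1 a.2).2).1 (dotProduct_eq_zero _ fun v => ?_)
      exact congrArg (fun f => f v) h')
  refine ⟨Sum.elim x₁ x₂, fun W hW hinv => ?_⟩
  have hmul : ∀ (p : ι → F) (y : κ → F), fromBlocks T₁ 0 E T₂ *ᵥ Sum.elim p y =
      Sum.elim (T₁ *ᵥ p) (E *ᵥ p + T₂ *ᵥ y) := fun p y => by rw [fromBlocks_mulVec]; simp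
  have hproj : ∀ p : ι → F, ∃ y : κ → F, Sum.elim p y ∈ W := by
    obtain ⟨V₁, hV₁⟩ : ∃ V₁ : Submodule F (ι → F), V₁ = W.map (LinearMap.funLeft F F Sum.inl) := ⟨_, rfl⟩
    have htop : V₁ = ⊤ := hx₁ V₁ (hV₁ ▸ ⟨_, hW, by funext i; simp [LinearMap.funLeft]⟩) fun y hy => by
      rw [hV₁] at hy ⊢
      obtain ⟨w, hw, rfl⟩ := hy
      refine ⟨_, hinv w hw, ?_⟩
      conv_lhs => rw [show w = Sum.elim (w ∘ Sum.inl) (w ∘ Sum.inr) from (Sum.elim_comp_inl_inr w).symm, hmul]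
      rfl
    intro p
    obtain ⟨w, hw, rfl⟩ : p ∈ W.map (LinearMap.funLeft F F Sum.inl) := hV₁ ▸ htop ▸ Submodule.mem_top
    exact ⟨w ∘ Sum.inr, by rw [show Sum.elim (LinearMap.funLeft F F Sum.inl w) (w ∘ Sum.inr) = w from Sum.elim_comp_inl_inr w]; exact hw⟩
  obtain ⟨V₂, hV₂⟩ : ∃ V₂ : Submodule F (κ → F), ∀ y, y ∈ V₂ ↔ Sum.elim (0 : ι → F) y ∈ W :=
    ⟨{ carrier := {y | Sum.elim (0 : ι → F) y ∈ W}
       add_mem' := fun {a b} ha hb => by
        show Sum.elim (0 : ι → F) (a + b) ∈ W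
        have := W.add_mem ha hb
        convert this using 1; funext i; rcases i with i | i <;> simp
       zero_mem' := by
        show Sum.elim (0 : ι → F) (0 : κ → F) ∈ W
        convert W.zero_mem using 1; funext i; rcases i with i | i <;> simp
       smul_mem' := fun c a ha => by
        show Sum.elim (0 : ι → F) (c • a) ∈ W
        have := W.smul_mem c ha
        convert this using 1; funext i; rcases i with i | i <;> simp }, fun _ => Iff.rfl⟩
  suffices htop : V₂ = ⊤ by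
    refine Submodule.eq_top_iff'.2 fun w => ?_
    obtain ⟨y, hy⟩ := hproj (w ∘ Sum.inl)
    have := W.add_mem hy ((hV₂ (w ∘ Sum.inr - y)).1 (htop ▸ Submodule.mem_top))
    convert this using 1; funext i; rcases i with i | i <;> simp
  by_contra hne
  obtain ⟨A', hA'⟩ : ∃ A' : Submodule F (κ → F), ∀ η, η ∈ A' ↔ ∀ y ∈ V₂, η ⬝ᵥ y = 0 :=
    ⟨{ carrier := {η | ∀ y ∈ V₂, η ⬝ᵥ y = 0}
       add_mem' := fun ha hb y hy => by rw [add_dotProduct, ha y hy, hb y hy, add_zero]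
       zero_mem' := fun y _ => zero_dotProduct y
       smul_mem' := fun c a ha y hy => by rw [smul_dotProduct, ha y hy, smul_zero] }, fun _ => Iff.rfl⟩
  obtain ⟨η, hη, hηne⟩ : ∃ η ∈ A', η ≠ 0 := by
    obtain ⟨φ, hφ, hV'⟩ := Submodule.exists_le_ker_of_lt_top V₂ (lt_top_iff_ne_top.2 hne)
    have e : ∀ y, φ y = (fun i => φ (Pi.single i 1)) ⬝ᵥ y := fun y => by
      conv_lhs => rw [show y = ∑ i, y i • Pi.single (M := fun _ => F) i 1 from (pi_eq_sum_univ' y)]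
      simp [dotProduct, mul_comm]
    refine ⟨fun i => φ (Pi.single i 1), (hA' _).2 fun y hy => ?_, fun h' => hφ (LinearMap.ext fun y => ?_)⟩
    · rw [← e]; exact hV' hy
    · rw [e, h']; simp
  have hV₂inv : ∀ y ∈ V₂, T₂ *ᵥ y ∈ V₂ := fun y hy => by
    rw [hV₂] at hy ⊢
    have := hinv _ hy
    rw [hmul] at this
    simpa using this
  have hCH : (l.map fun a => T₂ - a • 1).prod = 0 := by
    have := aeval_self_charpoly T₂
    rw [hl, map_list_prod, List.map_map] at this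
    rw [← this]
    congr 1
    refine List.map_congr_left fun a _ => ?_
    simp [Algebra.algebraMap_eq_smul_one]
  obtain ⟨a, ζ, hζ, hζne, hζa⟩ := exists_left_eigen l η hη hηne (fun y hy => (hA' _).2 fun v hv => by
    rw [← dotProduct_mulVec]; exact (hA' y).1 hy _ (hV₂inv v hv)) (by rw [hCH, vecMul_zero])
  have hal : a ∈ l := by
    by_contra hal
    have hu := det_sub_ne (eval_roots_ne hl hal)
    have : ζ ᵥ* (T₂ - a • 1) = 0 := by rw [vecMul_sub, hζa, vecMul_smul, vecMul_one, sub_self]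
    refine hζne ?_
    have h' := congrArg (· ᵥ* (T₂ - a • 1)⁻¹) this
    simp only [vecMul_vecMul, zero_vecMul] at h'
    rwa [mul_nonsing_inv _ hu, vecMul_one] at h'
  have hex : ∃ η, η ≠ 0 ∧ η ᵥ* T₂ = a • η := ⟨ζ, hζne, hζa⟩
  obtain ⟨t, rfl⟩ := left_eigen_line h₂ (hη₀ a hex).1 (hη₀ a hex).2 hζa
  have ht : t ≠ 0 := fun h' => hζne (by simp [h'])
  have hkill : ∀ y ∈ V₂, η₀ a ⬝ᵥ y = 0 := fun y hy => by
    have := (hA' _).1 hζ y hy
    rw [smul_dotProduct, smul_eq_zero] at this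
    exact this.resolve_left ht
  choose g hg using hproj
  have hwd : ∀ p y, Sum.elim p y ∈ W → η₀ a ⬝ᵥ y = η₀ a ⬝ᵥ g p := fun p y hy => by
    rw [← sub_eq_zero, ← dotProduct_sub]
    refine hkill _ ((hV₂ _).2 ?_)
    convert W.sub_mem hy (hg p) using 1
    funext i; rcases i with i | i <;> simp
  obtain ⟨ψ, hψ⟩ : ∃ ψ : ι → F, ∀ p, η₀ a ⬝ᵥ g p = ψ ⬝ᵥ p := by
    refine ⟨fun i => η₀ a ⬝ᵥ g (Pi.single i 1), fun p => ?_⟩
    have := W.sum_mem (fun i (_ : i ∈ Finset.univ) => W.smul_mem (p i) (hg (Pi.single i 1)))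
    rw [← hwd p (∑ i, p i • g (Pi.single i 1)) (by
      convert this using 1
      funext k; rcases k with k | k
      · simp [Finset.sum_apply, Pi.single_apply]
      · simp [Finset.sum_apply])]
    rw [dotProduct_sum, dotProduct]
    exact Finset.sum_congr rfl fun i _ => by rw [dotProduct_smul, smul_eq_mul, mul_comm]
  have hrel : ψ ᵥ* (a • 1 - T₁) = -(η₀ a ᵥ* E) := by
    refine funext fun i => ?_
    have h1 := hinv _ (hg (Pi.single i 1))
    rw [hmul] at h1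
    have h2 := hwd _ _ h1
    rw [dotProduct_add, dotProduct_mulVec, dotProduct_mulVec _ T₂, (hη₀ a hex).2, smul_dotProduct, hψ, hψ,
      dotProduct_mulVec] at h2
    simp only [dotProduct_single, mul_one, smul_eq_mul] at h2
    rw [Matrix.vecMul_sub, Pi.sub_apply, vecMul_smul, vecMul_one, Pi.smul_apply, smul_eq_mul, Pi.neg_apply]
    linear_combination h2
  have hu : IsUnit (a • 1 - T₁).det := by rw [← isRoot_of_det]; exact isUnit_iff_ne_zero.2 (hco a hal)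
  have hψeq : ψ = -((η₀ a ᵥ* E) ᵥ* (a • 1 - T₁)⁻¹) := by
    rw [← neg_vecMul, ← hrel, vecMul_vecMul, mul_nonsing_inv _ hu, vecMul_one]
  refine hx₂ ⟨a, (hA a).2 ⟨hal, hex⟩⟩ ?_
  have h1 := hwd _ _ hW
  rw [hψ, hψeq, neg_dotProduct] at h1
  show η₀ a ⬝ᵥ x₂ + ((η₀ a ᵥ* E) ᵥ* (a • 1 - T₁)⁻¹) ⬝ᵥ x₁ = 0
  linear_combination h1

/-- A simple eigenvalue gives every determinant in the centralizer. -/
theorem fullDet_simple {T : Matrix ι ι F} {b : F} {g : F[X]} (hg : T.charpoly = (Polynomial.X - C b) * g)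
    (hgb : g.eval b ≠ 0) : FullDet T := by
  have hsing : (T - b • 1).det = 0 := by
    have h : T.charpoly.eval b = 0 := by rw [hg]; simp
    rw [isRoot_of_det] at h
    rw [show T - b • 1 = -(b • 1 - T) by abel, det_neg, h, mul_zero]
  obtain ⟨η, hη, hη0⟩ := exists_vecMul_eq_zero_iff.2 hsing
  rw [vecMul_sub, vecMul_smul, vecMul_one, sub_eq_zero] at hη0
  have hpow : ∀ k : ℕ, η ᵥ* T ^ k = b ^ k • η := by
    intro k
    induction k with
    | zero => simp
    | succ k ih => rw [pow_succ, ← vecMul_vecMul, ih, smul_vecMul, hη0, smul_smul, pow_succ]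
  have hgT : η ᵥ* aeval T g = g.eval b • η := by
    rw [aeval_eq_sum_range, eval_eq_sum_range]
    rw [vecMul_sum, Finset.sum_smul]
    exact Finset.sum_congr rfl fun k _ => by rw [vecMul_smul, hpow, smul_smul]
  obtain ⟨i, hi⟩ := Function.ne_iff.1 hη
  obtain ⟨v, hv⟩ : ∃ v, v = aeval T g *ᵥ Pi.single i 1 := ⟨_, rfl⟩
  have hTv : T *ᵥ v = b • v := by
    have h := aeval_self_charpoly T
    rw [hg, map_mul, map_sub, aeval_X, aeval_C, Algebra.algebraMap_eq_smul_one] at h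
    rw [← sub_eq_zero, hv]
    have := congrArg (fun X => X *ᵥ Pi.single (M := fun _ => F) i 1) h
    simp only [← mulVec_mulVec, sub_mulVec, smul_mulVec, one_mulVec, zero_mulVec] at this
    exact this
  have hηv : η ⬝ᵥ v = g.eval b * η i := by
    rw [hv, dotProduct_mulVec, hgT]
    simp
  have hne : η ⬝ᵥ v ≠ 0 := by rw [hηv]; exact mul_ne_zero hgb (by simpa using hi)
  intro t _
  refine ⟨1 + ((t - 1) / (η ⬝ᵥ v)) • Matrix.vecMulVec v η, ?_, ?_⟩
  · rw [← smul_vecMulVec, vecMulVec_eq Unit, det_one_add_replicateCol_mul_replicateRow, dotProduct_smul, smul_eq_mul,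
      div_mul_cancel₀ _ hne]
    ring
  · rw [Matrix.add_mul, Matrix.mul_add, Matrix.one_mul, Matrix.mul_one, Matrix.smul_mul, Matrix.mul_smul, mul_vecMulVec,
      vecMulVec_mul, hTv, hη0, smul_vecMulVec, vecMulVec_smul]

theorem Cyclic.inv {T : Matrix ι ι F} (h : Cyclic T) (hu : IsUnit T.det) : Cyclic T⁻¹ := h.imp fun _ hx => hx.inv hu

end CfsgLib.SLCover
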