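import Cfsg.Agent.Lib.Classical.SLCover.Peel

/-!
# Products of as many conjugates as the dimension
-/

set_option autoImplicit false
set_option linter.unusedSectionVars false
set_option linter.unusedSimpArgs false

namespace CfsgLib.SLCover

open Matrix Polynomial

set_option maxHeartbeats 1000000

variable {F : Type*} [Field F] [Fintype F] {ι κ : Type} [Fintype ι] [DecidableEq ι] [Fintype κ] [DecidableEq κ]

/-- The non-scalar matrices are products. -/
def CovNS (A : Matrix ι ι F) (k : ℕ) : Prop :=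
  ∀ B : Matrix ι ι F, NonScalar B → B.det = A.det ^ k →
    ∃ l : List (Matrix ι ι F), l.length = k ∧ (∀ X ∈ l, SCls A X) ∧ l.prod = B

/-- All matrices are products. -/
def CovAll (A : Matrix ι ι F) (k : ℕ) : Prop :=
  ∀ B : Matrix ι ι F, B.det = A.det ^ k →
    ∃ l : List (Matrix ι ι F), l.length = k ∧ (∀ X ∈ l, SCls A X) ∧ l.prod = B

theorem CovA.covNS {A : Matrix ι ι F} {k : ℕ} (h : CovA A k) : CovNS A k := fun B hB hd => by
  obtain ⟨l, h1, h2, h3, -⟩ := h B hB hd
  exact ⟨l, h1, h2, h3⟩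

theorem CovAll.covNS {A : Matrix ι ι F} {k : ℕ} (h : CovAll A k) : CovNS A k := fun B _ hd => h B hd

/-- One more factor reaches the scalars. -/
theorem CovNS.pad {A : Matrix ι ι F} {k : ℕ} (hn : 3 ≤ Fintype.card ι) (hA : NonScalar A) (hu : IsUnit A.det)
    (h : CovNS A k) : CovAll A (k + 1) := fun B hd => by
  have hBu : IsUnit B.det := by rw [hd]; exact hu.pow _
  obtain ⟨A', hA', hns⟩ := exists_pad hn hA hu hBu
  have hA'u : IsUnit A'.det := by rw [hA'.det_eq]; exact hu
  obtain ⟨l, h1, h2, h3⟩ := h _ hns (by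
    rw [det_mul, det_nonsing_inv, Ring.inverse_eq_inv', hA'.det_eq, hd, pow_succ', ← mul_assoc,
      inv_mul_cancel₀ hu.ne_zero, one_mul])
  refine ⟨A' :: l, by simp [h1], ?_, ?_⟩
  · intro X hX
    rcases List.mem_cons.1 hX with rfl | hX
    · exact hA'
    · exact h2 X hX
  · rw [List.prod_cons, h3, mul_nonsing_inv_cancel_left _ _ hA'u]

theorem CovNS.pad_le {A : Matrix ι ι F} {k k' : ℕ} (hn : 3 ≤ Fintype.card ι) (hA : NonScalar A) (hu : IsUnit A.det)
    (h : CovNS A k) (hk : k < k') : CovAll A k' := by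
  induction k', hk using Nat.le_induction with
  | base => exact h.pad hn hA hu
  | succ j _ ih => exact ih.covNS.pad hn hA hu

theorem CovNS.mono {A : Matrix ι ι F} {k k' : ℕ} (hn : 3 ≤ Fintype.card ι) (hA : NonScalar A) (hu : IsUnit A.det)
    (h : CovNS A k) (hk : k ≤ k') : CovNS A k' := by
  rcases hk.lt_or_eq with hk | rfl
  · exact (h.pad_le hn hA hu hk).covNS
  · exact h

theorem NoEig.covA {A : Matrix ι ι F} {k : ℕ} (hA : NoEig A) (hk : 1 ≤ k) (h : CovNS A k) : CovA A k :=
  fun B hB hd => by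
    obtain ⟨l, h1, h2, h3⟩ := h B hB hd
    refine ⟨l, h1, h2, h3, fun c w hw => ?_⟩
    obtain ⟨X, hX⟩ : ∃ X, X ∈ l := List.exists_mem_of_length_pos (by omega)
    exact (hA.gcls (h2 X hX).gcls).vec (hw X hX)

theorem Two.submatrix {A : Matrix ι ι F} (h : Two A) (e : κ ≃ ι) : Two (A.submatrix e e) := by
  intro c u φ hc
  refine h c (u ∘ e.symm) (φ ∘ e.symm) (Matrix.ext fun i j => ?_)
  have := congrFun (congrFun hc (e.symm i)) (e.symm j)
  simpa [vecMulVec_apply, Matrix.one_apply, e.symm.injective.eq_iff] using this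

theorem CovA.submatrix {A : Matrix ι ι F} {k : ℕ} (h : CovA A k) (e : κ ≃ ι) : CovA (A.submatrix e e) k := by
  intro B hB hd
  obtain ⟨l, h1, h2, h3, h4⟩ := h (B.submatrix e.symm e.symm) (hB.submatrix e.symm) (by
    rw [det_submatrix_equiv_self, hd, det_submatrix_equiv_self])
  refine ⟨l.map fun X => X.submatrix e e, by simp [h1], ?_, ?_, fun c w hw => ?_⟩
  · simp only [List.mem_map]
    rintro _ ⟨X, hX, rfl⟩
    exact (h2 X hX).submatrix e
  · have key : ∀ m : List (Matrix ι ι F), (m.map fun X => X.submatrix e e).prod = m.prod.submatrix e e := by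
      intro m
      induction m with
      | nil => simp
      | cons X m ih => rw [List.map_cons, List.prod_cons, ih, List.prod_cons, submatrix_mul_equiv]
    rw [key, h3, submatrix_submatrix, Equiv.symm_comp_self, submatrix_id_id]
  · have h0 := h4 c (w ∘ e.symm) fun X hX => by
      have := hw (X.submatrix e e) (List.mem_map.2 ⟨X, hX, rfl⟩)
      rw [submatrix_mulVec_equiv] at this
      funext i
      simpa using congrFun this (e.symm i)
    funext i
    simpa using congrFun h0 (e i)

theorem cov_pairable (h4 : 4 ≤ Fintype.card F) (hn : 5 ≤ Fintype.card ι) {A : Matrix ι ι F} (hA : NoEig A) :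
    CovNS A 5 := by
  have hns : NonScalar A := fun c hc => hA c (by
    rw [hc, sub_self]
    haveI : Nonempty ι := Fintype.card_pos_iff.1 (by omega)
    exact det_zero)
  exact fun B hB hd => (pairable_noEig h4 hA hn).cover h4 (by omega) hA.isUnit hns hB hd

/-- The non-scalar matrices, for every class far from the scalars. -/
theorem cov_two (h4 : 4 ≤ Fintype.card F) : ∀ n, 4 ≤ n → ∀ (ι : Type) [Fintype ι] [DecidableEq ι],
    Fintype.card ι = n → ∀ A : Matrix ι ι F, IsUnit A.det → Two A → CovA A n := by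
  intro n hn
  induction n, hn using Nat.le_induction with
  | base =>
    intro ι _ _ hcard A hu hA
    obtain ⟨e⟩ : Nonempty (I4 ≃ ι) := ⟨Fintype.equivOfCardEq (by simp [hcard])⟩
    have h := ((cov_four h4 (A := A.submatrix e e) (by rwa [det_submatrix_equiv_self]) (hA.submatrix e)).1).submatrix e.symm
    simpa [submatrix_submatrix] using h
  | succ n hn ih =>
    intro ι _ _ hcard A hu hA
    by_cases hne : NoEig A
    · exact hne.covA (by omega) ((cov_pairable h4 (by omega) hne).mono (by omega) hA.nonScalar hu (by omega))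
    obtain ⟨e⟩ : Nonempty (Fin 1 ⊕ Fin n ≃ ι) := ⟨Fintype.equivOfCardEq (by simp [hcard]; omega)⟩
    obtain ⟨Q, lam, r, A1, hQ, hfr, hA1⟩ := exists_quot hn (hA.submatrix e) fun h => hne (by
      simpa [submatrix_submatrix] using h.submatrix e.symm)
    obtain ⟨Ab, hAb⟩ : ∃ Ab, Ab = fromBlocks (lam • (1 : Matrix (Fin 1) (Fin 1) F)) (Matrix.replicateRow (Fin 1) r) 0 A1 :=
      ⟨_, rfl⟩
    rw [← hAb] at hfr
    have hA' : A.submatrix e e = Q * Ab * Q⁻¹ := by
      rw [← hfr]; simp [Matrix.mul_assoc, mul_nonsing_inv _ hQ, mul_nonsing_inv_cancel_left _ _ hQ]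
    have hAbu : IsUnit Ab.det := by
      have := congrArg det hA'
      rw [det_conj ((isUnit_iff_isUnit_det _).2 hQ), det_submatrix_equiv_self] at this
      rwa [← this]
    have hA1u : IsUnit A1.det := by
      rw [hAb, det_fromBlocks_zero₂₁] at hAbu
      exact isUnit_of_mul_isUnit_right hAbu
    have hAbt : Two Ab := fun c u φ hc => hA.submatrix e c (Q *ᵥ u) (φ ᵥ* Q⁻¹) (by
      rw [hA', ← mul_vecMulVec, ← vecMulVec_mul, ← hc]
      simp [Matrix.mul_sub, Matrix.sub_mul, mul_nonsing_inv _ hQ, Matrix.mul_assoc])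
    have h1 := ih (Fin n) (by simp) A1 hA1u hA1
    have h2 := ((hAb ▸ peel hn (hAb ▸ hAbt) (hAb ▸ hAbu) h1 : CovA Ab (n + 1)).conj hQ).submatrix e.symm
    rw [← hA'] at h2
    simpa [submatrix_submatrix] using h2

/-- Lifting a factorisation of the quotient by a subspace. -/
theorem exists_lifts_block {m : ℕ} {L : Matrix κ κ F} (hL : IsUnit L.det) {r : Matrix κ (Fin m) F}
    {A1 : Matrix (Fin m) (Fin m) F} (l : List (Matrix (Fin m) (Fin m) F)) (hl : ∀ X ∈ l, SCls A1 X) :
    ∃ (ρ₀ : Matrix κ (Fin m) F) (W : Submodule F (Matrix κ (Fin m) F)),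
      (∀ w : Matrix (Fin m) κ F, (∀ ρ ∈ W, (ρ * w).trace = 0) → ∀ X ∈ l, X * w = w * L) ∧
      ∀ ρ, ρ - ρ₀ ∈ W → ∃ Ls : List (Matrix (κ ⊕ Fin m) (κ ⊕ Fin m) F), Ls.length = l.length ∧
        (∀ Y ∈ Ls, SCls (fromBlocks L r 0 A1) Y) ∧ Ls.prod = fromBlocks (L ^ l.length) ρ 0 l.prod := by
  induction l with
  | nil =>
    refine ⟨0, ⊥, fun w _ X hX => by simp at hX, fun ρ hρ => ⟨[], rfl, by simp, ?_⟩⟩
    simp [sub_eq_zero] at hρ
    simp [hρ]
  | cons X l ih =>
    obtain ⟨ρ₀, W, hW, hlift⟩ := ih fun Y hY => hl Y (List.mem_cons_of_mem _ hY)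
    obtain ⟨P, hP, hPX⟩ := hl X (by simp)
    have hPu : IsUnit P.det := by rw [hP]; exact isUnit_one
    obtain ⟨f, hf⟩ : ∃ f : Matrix κ (Fin m) F →ₗ[F] Matrix κ (Fin m) F, ∀ ρ, f ρ = L * ρ :=
      ⟨{ toFun := fun ρ => L * ρ
         map_add' := fun a b => Matrix.mul_add _ _ _
         map_smul' := fun c a => by simp }, fun _ => rfl⟩
    obtain ⟨g, hg⟩ : ∃ g : Matrix κ (Fin m) F →ₗ[F] Matrix κ (Fin m) F, ∀ t, g t = (t * X - L * t) * l.prod :=
      ⟨{ toFun := fun t => (t * X - L * t) * l.prod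
         map_add' := fun a b => by simp [Matrix.mul_add, Matrix.add_mul, Matrix.sub_mul]; abel
         map_smul' := fun c a => by simp [Matrix.sub_mul, smul_sub] }, fun _ => rfl⟩
    refine ⟨L * ρ₀ + r * P⁻¹ * l.prod, W.map f ⊔ LinearMap.range g, fun w hw Y hY => ?_, fun ρ hρ => ?_⟩
    · have htail : ∀ Y ∈ l, Y * w = w * L := by
        have h1 := hW (w * L) fun ρ hρ => by
          have h := hw _ (Submodule.mem_sup_left (Submodule.mem_map_of_mem (f := f) hρ))
          rwa [hf, Matrix.mul_assoc, trace_mul_comm, Matrix.mul_assoc] at h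
        intro Y hY
        have h2 := congrArg (· * L⁻¹) (h1 Y hY)
        simp only [Matrix.mul_assoc, mul_nonsing_inv _ hL, Matrix.mul_one] at h2
        exact h2
      have hprod : ∀ l' : List (Matrix (Fin m) (Fin m) F), (∀ Y ∈ l', Y * w = w * L) →
          l'.prod * w = w * L ^ l'.length := by
        intro l'
        induction l' with
        | nil => simp
        | cons Z l' ih' =>
          intro h
          rw [List.prod_cons, Matrix.mul_assoc, ih' fun Y hY => h Y (List.mem_cons_of_mem _ hY), ← Matrix.mul_assoc,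
            h Z (by simp), Matrix.mul_assoc, List.length_cons, pow_succ']
      rcases List.mem_cons.1 hY with rfl | hY'
      · have h0 : Y * (l.prod * w) - l.prod * w * L = 0 := by
          refine Matrix.ext fun i j => ?_
          have h := hw _ (Submodule.mem_sup_right (LinearMap.mem_range_self g (Matrix.single j i (1 : F))))
          rw [hg, Matrix.sub_mul, Matrix.sub_mul, trace_sub, Matrix.mul_assoc L, Matrix.mul_assoc L,
            trace_mul_comm L, Matrix.mul_assoc, Matrix.mul_assoc _ l.prod, Matrix.mul_assoc _ (l.prod * w), ← trace_sub,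
            Matrix.mul_assoc _ Y, ← Matrix.mul_sub] at h
          rw [trace_single_mul] at h
          simpa using h
        rw [hprod l htail, sub_eq_zero, ← Matrix.mul_assoc, Matrix.mul_assoc w, ← pow_succ, pow_succ', ← Matrix.mul_assoc] at h0
        have hLk : IsUnit (L ^ l.length).det := by rw [det_pow]; exact hL.pow _
        have h2 := congrArg (· * (L ^ l.length)⁻¹) h0
        simp only [Matrix.mul_assoc, mul_nonsing_inv _ hLk, Matrix.mul_one] at h2
        exact h2
      · exact htail Y hY'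
    · obtain ⟨p, hp, q, hq, hpq⟩ := Submodule.mem_sup.1 hρ
      obtain ⟨w1, hw1, rfl⟩ := Submodule.mem_map.1 hp
      obtain ⟨t, rfl⟩ := hq
      obtain ⟨Ls, L1, L2, L3⟩ := hlift (ρ₀ + w1) (by simpa using hw1)
      obtain ⟨a, ha⟩ : ∃ a, a = r * P⁻¹ + (t * X - L * t) := ⟨_, rfl⟩
      refine ⟨fromBlocks L a 0 X :: Ls, by simp [L1], ?_, ?_⟩
      · intro Y hY
        rcases List.mem_cons.1 hY with rfl | hY
        swap; · exact L2 Y hY
        refine ⟨fromBlocks 1 (t * P) 0 P, by rw [det_fromBlocks_zero₂₁, det_one, hP, one_mul], ?_⟩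
        rw [fromBlocks_multiply, fromBlocks_multiply]
        simp only [Matrix.mul_zero, Matrix.zero_mul, Matrix.mul_one, Matrix.one_mul, add_zero, zero_add]
        rw [fromBlocks_inj]
        refine ⟨rfl, ?_, rfl, hPX⟩
        rw [ha, Matrix.add_mul, Matrix.sub_mul, Matrix.mul_assoc r, nonsing_inv_mul _ hPu, Matrix.mul_one,
          Matrix.mul_assoc t X, hPX, ← Matrix.mul_assoc t, Matrix.mul_assoc L]
        abel
      · rw [List.prod_cons, L3, fromBlocks_multiply, List.length_cons, List.prod_cons, pow_succ']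
        simp only [Matrix.mul_zero, Matrix.zero_mul, add_zero, zero_add]
        rw [fromBlocks_inj]
        refine ⟨rfl, ?_, rfl, rfl⟩
        rw [hf, hg] at hpq
        rw [eq_sub_iff_add_eq] at hpq
        rw [← hpq, ha, Matrix.mul_add, Matrix.add_mul]
        abel

/-- Lifts reach every matrix above a triangular block. -/
theorem lifts_top {m : ℕ} {L : Matrix κ κ F} (hL : IsUnit L.det) {r : Matrix κ (Fin m) F}
    {A1 : Matrix (Fin m) (Fin m) F} (l : List (Matrix (Fin m) (Fin m) F)) (hl : ∀ X ∈ l, SCls A1 X)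
    (hker : ∀ w : Matrix (Fin m) κ F, (∀ X ∈ l, X * w = w * L) → w = 0) (ρ : Matrix κ (Fin m) F) :
    ∃ Ls : List (Matrix (κ ⊕ Fin m) (κ ⊕ Fin m) F), Ls.length = l.length ∧
      (∀ Y ∈ Ls, SCls (fromBlocks L r 0 A1) Y) ∧ Ls.prod = fromBlocks (L ^ l.length) ρ 0 l.prod := by
  obtain ⟨ρ₀, W, hW, hlift⟩ := exists_lifts_block hL (r := r) l hl
  refine hlift ρ ?_
  have htop : W = ⊤ := by
    by_contra hne
    obtain ⟨φ, hφ, hφW⟩ := Submodule.exists_le_ker_of_lt_top W (lt_top_iff_ne_top.2 hne)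
    obtain ⟨w, hw⟩ : ∃ w : Matrix (Fin m) κ F, w = Matrix.of fun j i => φ (Matrix.single i j 1) := ⟨_, rfl⟩
    have e : ∀ y, (y * w).trace = φ y := fun y => by
      conv_rhs => rw [matrix_eq_sum_single y]
      rw [map_sum]
      simp only [map_sum]
      rw [Matrix.trace]
      refine Finset.sum_congr rfl fun i _ => ?_
      rw [Matrix.diag_apply, Matrix.mul_apply]
      refine Finset.sum_congr rfl fun j _ => ?_
      rw [hw, show Matrix.single i j (y i j) = y i j • Matrix.single i j (1 : F) by rw [Matrix.smul_single, smul_eq_mul, mul_one],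
        map_smul, smul_eq_mul]
      rfl
    have hw0 := hker w (hW w fun y hy => (e y).trans (hφW hy))
    exact hφ (LinearMap.ext fun y => by rw [← e, hw0]; simp)
  exact htop ▸ Submodule.mem_top

end CfsgLib.SLCover
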