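import Cfsg.Agent.Lib.Classical.SLCover.Sourour

/-!
# Cyclic vectors
-/

set_option autoImplicit false
set_option linter.unusedSectionVars false
set_option linter.unusedSimpArgs false

namespace CfsgLib.SLCover

open Matrix Polynomial

variable {F : Type*} [Field F] {ι κ : Type} [Fintype ι] [DecidableEq ι] [Fintype κ] [DecidableEq κ]

/-- Cyclic vector. -/
def CycV (T : Matrix ι ι F) (x : ι → F) : Prop :=
  ∀ W : Submodule F (ι → F), x ∈ W → (∀ y ∈ W, T *ᵥ y ∈ W) → W = ⊤

/-- A matrix with a cyclic vector. -/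
def Cyclic (T : Matrix ι ι F) : Prop := ∃ x, CycV T x

theorem CycV.smul {T : Matrix ι ι F} {x : ι → F} (h : CycV T x) {c : F} (hc : c ≠ 0) : CycV T (c • x) :=
  fun W hW hinv => h W (by simpa [smul_smul, hc] using W.smul_mem c⁻¹ hW) hinv

theorem CycV.conj {T P : Matrix ι ι F} {x : ι → F} (hP : IsUnit P.det) (h : CycV T x) :
    CycV (P * T * P⁻¹) (P *ᵥ x) := by
  intro W hx hinv
  have := h (W.comap (Matrix.toLin' P)) (by simpa using hx) fun y hy => by
    simp only [Submodule.mem_comap, Matrix.toLin'_apply] at hy ⊢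
    have h2 := hinv _ hy
    rwa [mulVec_mulVec, Matrix.mul_assoc, nonsing_inv_mul _ hP, Matrix.mul_one, ← mulVec_mulVec] at h2
  refine Submodule.eq_top_iff'.2 fun y => ?_
  have hy : P⁻¹ *ᵥ y ∈ W.comap (Matrix.toLin' P) := this ▸ Submodule.mem_top
  simpa [mulVec_mulVec, mul_nonsing_inv _ hP] using hy

theorem Cyclic.gcls {A X : Matrix ι ι F} (h : Cyclic A) (hX : GCls A X) : Cyclic X := by
  obtain ⟨x, hx⟩ := h
  obtain ⟨P, hP, e⟩ := hX
  refine ⟨P *ᵥ x, ?_⟩
  have := hx.conj hP
  rwa [← e, Matrix.mul_assoc, mul_nonsing_inv _ hP, Matrix.mul_one] at this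

theorem CycV.submatrix {T : Matrix ι ι F} {x : ι → F} (h : CycV T x) (e : κ ≃ ι) :
    CycV (T.submatrix e e) (x ∘ e) := by
  intro W hx hinv
  have := h (W.comap (LinearMap.funLeft F F e)) (by simpa [LinearMap.funLeft] using hx) fun y hy => by
    simp only [Submodule.mem_comap] at hy ⊢
    have h2 := hinv _ hy
    rw [submatrix_mulVec_equiv] at h2
    convert h2 using 1
    funext i
    simp [LinearMap.funLeft]
    congr 1
    simp [Function.comp_assoc]
  refine Submodule.eq_top_iff'.2 fun y => ?_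
  have hy : y ∘ e.symm ∈ W.comap (LinearMap.funLeft F F e) := this ▸ Submodule.mem_top
  simpa [LinearMap.funLeft, Function.comp_assoc] using hy

theorem CycV.ne_zero [Nonempty ι] {T : Matrix ι ι F} {x : ι → F} (h : CycV T x) : x ≠ 0 := fun e => by
  have := h ⊥ (by simp [e]) (fun y hy => by simp_all)
  exact bot_ne_top this

/-- The Krylov matrix. -/
def krylov {n : ℕ} (T : Matrix ι ι F) (x : ι → F) : Matrix ι (Fin n) F := Matrix.of fun i k => (T ^ (k : ℕ) *ᵥ x) i

theorem CycV.span_pow {T : Matrix ι ι F} {x : ι → F} (h : CycV T x) :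
    Submodule.span F (Set.range fun k : Fin (Fintype.card ι) => T ^ (k : ℕ) *ᵥ x) = ⊤ := by
  obtain ⟨S, hS⟩ : ∃ S, S = Submodule.span F (Set.range fun k : Fin (Fintype.card ι) => T ^ (k : ℕ) *ᵥ x) := ⟨_, rfl⟩
  rw [← hS]
  have hdeg : T.charpoly.natDegree = Fintype.card ι := charpoly_natDegree_eq_dim T
  have hn : T ^ Fintype.card ι *ᵥ x ∈ S := by
    have h0 := aeval_self_charpoly T
    rw [aeval_eq_sum_range, hdeg, Finset.sum_range_succ] at h0
    have hlc : T.charpoly.coeff (Fintype.card ι) = 1 := hdeg ▸ T.charpoly_monic.coeff_natDegree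
    rw [hlc, one_smul, add_eq_zero_iff_neg_eq] at h0
    rw [← h0, neg_mulVec, sum_mulVec]
    refine S.neg_mem (S.sum_mem fun k hk => ?_)
    rw [smul_mulVec]
    exact S.smul_mem _ (hS ▸ Submodule.subset_span ⟨⟨k, Finset.mem_range.1 hk⟩, rfl⟩)
  have hall : ∀ k ≤ Fintype.card ι, T ^ k *ᵥ x ∈ S := fun k hk => by
    rcases hk.lt_or_eq with hk | rfl
    · exact hS ▸ Submodule.subset_span ⟨⟨k, hk⟩, rfl⟩
    · exact hn
  refine h S (by simpa using hall 0 (Nat.zero_le _)) fun y hy => ?_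
  rw [hS] at hy
  induction hy using Submodule.span_induction with
  | mem y hy =>
    obtain ⟨k, rfl⟩ := hy
    simpa [mulVec_mulVec, ← pow_succ'] using hall (k + 1) k.2
  | zero => simp
  | add a b _ _ ha hb => rw [mulVec_add]; exact S.add_mem ha hb
  | smul c a _ ha => rw [mulVec_smul]; exact S.smul_mem c ha

theorem CycV.indep {T : Matrix ι ι F} {x : ι → F} (h : CycV T x) :
    LinearIndependent F fun k : Fin (Fintype.card ι) => T ^ (k : ℕ) *ᵥ x :=
  linearIndependent_of_top_le_span_of_card_eq_finrank h.span_pow.ge (by simp [Module.finrank_pi])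

/-- Cyclic matrices with the same characteristic polynomial are conjugate. -/
theorem Cyclic.gcls_of_charpoly {A X : Matrix ι ι F} (hA : Cyclic A) (hX : Cyclic X) (h : A.charpoly = X.charpoly) :
    GCls A X := by
  obtain ⟨a, ha⟩ := hA
  obtain ⟨x, hx⟩ := hX
  obtain ⟨e⟩ : Nonempty (ι ≃ Fin (Fintype.card ι)) := ⟨Fintype.equivFin ι⟩
  obtain ⟨KA, hKA⟩ : ∃ K : Matrix ι ι F, K = Matrix.of fun i k => (A ^ (e k : ℕ) *ᵥ a) i := ⟨_, rfl⟩
  obtain ⟨KX, hKX⟩ : ∃ K : Matrix ι ι F, K = Matrix.of fun i k => (X ^ (e k : ℕ) *ᵥ x) i := ⟨_, rfl⟩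
  have hdetA : IsUnit KA.det := by
    rw [← Matrix.isUnit_iff_isUnit_det, ← linearIndependent_cols_iff_isUnit]
    convert ha.indep.comp e e.injective using 1
    funext k i
    simp [hKA]
  have hdetX : IsUnit KX.det := by
    rw [← Matrix.isUnit_iff_isUnit_det, ← linearIndependent_cols_iff_isUnit]
    convert hx.indep.comp e e.injective using 1
    funext k i
    simp [hKX]
  refine ⟨KX * KA⁻¹, by rw [det_mul]; exact hdetX.mul (isUnit_nonsing_inv_det _ hdetA), ?_⟩
  have hmap : ∀ p : F[X], (KX * KA⁻¹) *ᵥ (aeval A p *ᵥ a) = aeval X p *ᵥ x := by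
    have hk : ∀ k : Fin (Fintype.card ι), (KX * KA⁻¹) *ᵥ (A ^ (k : ℕ) *ᵥ a) = X ^ (k : ℕ) *ᵥ x := by
      intro k
      have e1 : KA *ᵥ Pi.single (e.symm k) 1 = A ^ (k : ℕ) *ᵥ a := by
        funext i; simp [hKA]
      rw [← e1, mulVec_mulVec, Matrix.mul_assoc, nonsing_inv_mul _ hdetA, Matrix.mul_one]
      funext i; simp [hKX]
    intro p
    have hdeg : (p %ₘ A.charpoly).natDegree < Fintype.card ι ∨ p %ₘ A.charpoly = 0 := by
      by_cases h0 : p %ₘ A.charpoly = 0
      · exact Or.inr h0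
      left
      rw [← charpoly_natDegree_eq_dim A]
      exact natDegree_lt_natDegree h0 (degree_modByMonic_lt p A.charpoly_monic)
    have eA : aeval A p = aeval A (p %ₘ A.charpoly) := by
      conv_lhs => rw [← modByMonic_add_div p A.charpoly]
      rw [map_add, map_mul, aeval_self_charpoly, zero_mul, add_zero]
    have eX : aeval X p = aeval X (p %ₘ A.charpoly) := by
      conv_lhs => rw [← modByMonic_add_div p A.charpoly]
      rw [map_add, map_mul, h, aeval_self_charpoly, zero_mul, add_zero]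
    rw [eA, eX]
    rcases hdeg with hlt | h0
    · rw [aeval_eq_sum_range' hlt A, aeval_eq_sum_range' hlt X, sum_mulVec, mulVec_sum, sum_mulVec]
      refine Finset.sum_congr rfl fun k hk' => ?_
      rw [smul_mulVec, smul_mulVec, mulVec_smul]; exact congrArg _ (hk ⟨k, Finset.mem_range.1 hk'⟩)
    · simp [h0]
  refine Matrix.ext_of_mulVec_single fun i => ?_
  generalize hy' : (Pi.single i 1 : ι → F) = y
  have hsp : y ∈ Submodule.span F (Set.range fun k : Fin (Fintype.card ι) => A ^ (k : ℕ) *ᵥ a) :=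
    ha.span_pow ▸ Submodule.mem_top
  clear hy'
  induction hsp using Submodule.span_induction with
  | mem y hy =>
    obtain ⟨k, rfl⟩ := hy
    have e1 := hmap (Polynomial.X ^ ((k : ℕ) + 1))
    have e2 := hmap (Polynomial.X ^ (k : ℕ))
    simp only [map_pow, aeval_X] at e1 e2
    rw [← mulVec_mulVec, e2, mulVec_mulVec, ← pow_succ', ← e1, mulVec_mulVec, mulVec_mulVec, Matrix.mul_assoc _ A,
      ← pow_succ']
  | zero => simp
  | add u v _ _ hu hv => rw [mulVec_add, mulVec_add, hu, hv]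
  | smul c u _ hu => rw [mulVec_smul, mulVec_smul, hu]

end CfsgLib.SLCover
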