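import Cfsg.Agent.Lib.Classical.SLCover.FiveExc

/-!
# One conjugate fewer than the dimension
-/

set_option autoImplicit false
set_option linter.unusedSectionVars false
set_option linter.unusedSimpArgs false

namespace CfsgLib.SLCover

open Matrix Polynomial

set_option maxHeartbeats 1000000

variable {F : Type*} [Field F] [Fintype F] {ι κ : Type} [Fintype ι] [DecidableEq ι] [Fintype κ] [DecidableEq κ]

/-- A frame at an eigenvector. -/
def Mg (γ : F) (X : Matrix (Fin 2) (Fin 2) F) (z : Matrix (Fin 1) (Fin 2) F) (Y : Matrix (Fin 2) (Fin 2) F) :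
    Matrix (J3 2 1) (J3 2 1) F :=
  fromBlocks (fromBlocks 0 0 0 (γ • 1)) (Matrix.fromRows X z) (Matrix.fromCols 1 0) Y

theorem InSq.gcls {A A' Z : Matrix ι ι F} (h : GCls A A') (hq : InSq A Z) : InSq A' Z := by
  obtain ⟨P, hP, rfl⟩ := h.exists_conj
  intro Z' hZ'
  have hg := hZ'.trans (GCls.of_conj Z' (isUnit_nonsing_inv_det _ hP))
  rw [nonsing_inv_nonsing_inv _ hP] at hg
  obtain ⟨B1, B2, b1, b2, b12⟩ := hq _ hg
  refine ⟨P * B1 * P⁻¹, P * B2 * P⁻¹, b1.conj_both hP, b2.conj_both hP, ?_⟩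
  simp only [Matrix.mul_assoc, nonsing_inv_mul_cancel_left _ _ hP]
  rw [← Matrix.mul_assoc B1, b12]
  simp [Matrix.mul_assoc, mul_nonsing_inv _ hP, mul_nonsing_inv_cancel_left _ _ hP]

theorem TwoPairs.gcls {A A' : Matrix ι ι F} (h : GCls A A') (hp : TwoPairs A) : TwoPairs A' := by
  obtain ⟨⟨Z, q, c, e⟩, Z2, l, q2, c2, r2, l1, l0⟩ := hp
  exact ⟨⟨Z, q.gcls h, c, e⟩, Z2, l, q2.gcls h, c2, r2, l1, l0⟩

theorem CovA.gcls {A A' : Matrix ι ι F} {k : ℕ} (h : GCls A A') (hc : CovA A k) : CovA A' k := by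
  obtain ⟨P, hP, rfl⟩ := h.exists_conj
  exact hc.conj hP

theorem exists_not_mem_sq (S : Finset F) (k : F) (h : S.card + 2 < Fintype.card F) :
    ∃ r : F, r ∉ S ∧ r * r ≠ k := by
  classical
  by_contra hcon
  push Not at hcon
  have hsub : (Finset.univ : Finset F) ⊆ S ∪ Finset.univ.filter fun x => x * x = k := fun x _ => by
    by_cases hx : x ∈ S
    · simp [hx]
    · simp [hcon x hx]
  have h1 := (Finset.card_le_card hsub).trans (Finset.card_union_le _ _)
  rw [Finset.card_univ] at h1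
  rcases (Finset.univ.filter fun x : F => x * x = k).eq_empty_or_nonempty with he | ⟨s, hs⟩
  · rw [he, Finset.card_empty] at h1; omega
  · have h2 := Finset.card_le_card (t := {s, -s}) (s := Finset.univ.filter fun x : F => x * x = k) fun x hx => by
      simp only [Finset.mem_filter, Finset.mem_univ, true_and] at hx hs
      simpa using mul_self_eq_mul_self_iff.1 (hx.trans hs.symm)
    have := Finset.card_le_two (a := s) (b := -s)
    omega

theorem exists_roots_seven (h7 : 7 ≤ Fintype.card F) {k : F} (hk : k ≠ 0) :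
    ∃ r p : F, r ≠ 0 ∧ r ≠ 1 ∧ p ≠ 1 ∧ p ≠ r ∧ p * r = k := by
  classical
  obtain ⟨r, hr, hrk⟩ := exists_not_mem_sq {0, 1, k} k (by
    have := Finset.card_le_three (a := (0 : F)) (b := 1) (c := k); omega)
  simp at hr
  refine ⟨r, k / r, hr.1, hr.2.1, fun h => ?_, fun h => ?_, div_mul_cancel₀ _ hr.1⟩
  · rw [div_eq_one_iff_eq hr.1] at h; exact hr.2.2 h.symm
  · rw [div_eq_iff hr.1] at h; exact hrk h.symm

theorem exists_roots_one (h4 : 4 ≤ Fintype.card F) :
    ∃ r p : F, r ≠ 0 ∧ r ≠ 1 ∧ p ≠ 1 ∧ p ≠ r ∧ p * r = 1 := by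
  classical
  obtain ⟨r, hr⟩ : ∃ r : F, r ∉ ({0, 1, -1} : Finset F) := by
    by_contra hcon
    push Not at hcon
    have := Finset.card_le_card (fun x _ => hcon x : (Finset.univ : Finset F) ⊆ {0, 1, -1})
    have := Finset.card_le_three (a := (0 : F)) (b := 1) (c := -1)
    simp only [Finset.card_univ] at *
    omega
  simp at hr
  refine ⟨r, r⁻¹, hr.1, hr.2.1, fun h => hr.2.1 (by simpa using h), fun h => ?_, inv_mul_cancel₀ hr.1⟩
  have h' : r * r = 1 := by
    conv_lhs => arg 1; rw [← h]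
    exact inv_mul_cancel₀ hr.1
  rcases mul_self_eq_one_iff.1 h' with h'' | h''
  · exact hr.2.1 h''
  · exact hr.2.2 h''

theorem exists_roots_five (h5 : Fintype.card F = 5) {k : F} (hk : k ≠ 0) :
    ∃ r p : F, r ≠ 0 ∧ r ≠ 1 ∧ p ≠ 1 ∧ p ≠ r ∧ (p * r = k ∨ p * r = -k) := by
  classical
  have h4k := FiniteField.pow_card_sub_one_eq_one k hk
  rw [h5] at h4k
  have hsplit : (k * k - 1) * (k * k + 1) = 0 := by linear_combination h4k
  rcases mul_eq_zero.1 hsplit with h | h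
  · obtain ⟨r, p, h1, h2, h3, h4, h5'⟩ := exists_roots_one (F := F) (by omega)
    refine ⟨r, p, h1, h2, h3, h4, ?_⟩
    rcases mul_self_eq_one_iff.1 (sub_eq_zero.1 h) with e | e
    · exact Or.inl (h5'.trans e.symm)
    · exact Or.inr (by rw [h5', e, neg_neg])
  · obtain ⟨r, hr⟩ : ∃ r : F, r ∉ ({0, 1, k} : Finset F) := by
      by_contra hcon
      push Not at hcon
      have := Finset.card_le_card (fun x _ => hcon x : (Finset.univ : Finset F) ⊆ {0, 1, k})
      have := Finset.card_le_three (a := (0 : F)) (b := 1) (c := k)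
      simp only [Finset.card_univ] at *
      omega
    simp at hr
    refine ⟨r, k / r, hr.1, hr.2.1, fun he => ?_, fun he => ?_, Or.inl (div_mul_cancel₀ _ hr.1)⟩
    · rw [div_eq_one_iff_eq hr.1] at he; exact hr.2.2 he.symm
    · rw [div_eq_iff hr.1] at he
      have h4r := FiniteField.pow_card_sub_one_eq_one r hr.1
      rw [h5] at h4r
      rcases two_eq_zero_or_odd (F := F) with h2 | ⟨-, h2⟩
      · have hp := FiniteField.cast_card_eq_zero F
        rw [h5] at hp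
        exact one_ne_zero (α := F) (by push_cast at hp; linear_combination hp - 2 * h2)
      · exact h2 (by rw [he] at h; linear_combination h - h4r)

theorem twoPairs_frame (h4 : 4 ≤ Fintype.card F) {X : Matrix (Fin 2) (Fin 2) F} {z : Matrix (Fin 1) (Fin 2) F}
    {y : Matrix (Fin 2) (Fin 1) F} {Y : Matrix (Fin 2) (Fin 2) F} (hX : IsUnit X.det)
    (hk : 7 ≤ Fintype.card F ∨ X.det = 1) : TwoPairs (Mfrm X z y Y) := by
  obtain ⟨r, p, h1, h2, h3, h5, h6⟩ : ∃ r p : F, r ≠ 0 ∧ r ≠ 1 ∧ p ≠ 1 ∧ p ≠ r ∧ p * r = X.det := by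
    rcases hk with hk | hk
    · exact exists_roots_seven hk hX.ne_zero
    · rw [hk]; exact exists_roots_one h4
  exact ⟨exists_one_pair h4 hX, exists_split_pair h4 hX h1 h2 h3 h5 (Or.inl h6)⟩

theorem twoPairs_noEig (h4 : 4 ≤ Fintype.card F) {M : Matrix (J3 2 1) (J3 2 1) F} (hM : NoEig M)
    (hk : 7 ≤ Fintype.card F ∨ M.det = 1) : TwoPairs M := by
  obtain ⟨Q, X, z, y, Y, hQ, hfr, -⟩ := exists_good_frame h4 hM (Or.inl ⟨rfl, le_rfl⟩)
  have hd : X.det = M.det := by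
    rw [← det_mfrm_five (X := X) (z := z) (y := y) (Y := Y), ← hfr, det_mul, det_mul, det_nonsing_inv,
      Ring.inverse_eq_inv', mul_comm, ← mul_assoc, mul_inv_cancel₀ hQ.ne_zero, one_mul]
  have hg : GCls (Mfrm X z y Y) M := by
    have h := GCls.of_conj (Mfrm X z y Y) hQ
    rwa [show Q * Mfrm X z y Y * Q⁻¹ = M by
      rw [← hfr]; simp [Matrix.mul_assoc, mul_nonsing_inv _ hQ, mul_nonsing_inv_cancel_left _ _ hQ]] at h
  exact (twoPairs_frame h4 (hd ▸ hM.isUnit) (hd ▸ hk)).gcls hg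

theorem exists_eig_frame {M : Matrix (J3 2 1) (J3 2 1) F} (hM : Two M) (he : ¬ NoEig M) :
    ∃ (γ : F) (X : Matrix (Fin 2) (Fin 2) F) (z : Matrix (Fin 1) (Fin 2) F) (Y : Matrix (Fin 2) (Fin 2) F),
      GCls (Mg γ X z Y) M := by
  obtain ⟨e4, he4⟩ : ∃ e4 : I4 ≃ Fin 4, e4 = finSumFinEquiv := ⟨_, rfl⟩
  let g : J3 2 1 ≃ Fin 1 ⊕ Fin 4 := {
    toFun := Sum.elim (Sum.elim (fun i => .inr (e4 (.inl i))) fun k => .inl k) fun i => .inr (e4 (.inr i))
    invFun := Sum.elim (fun k => .inl (.inr k)) fun j => Sum.elim (fun i => .inl (.inl i)) (fun i => .inr i) (e4.symm j)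
    left_inv := by rintro ((i | i) | i) <;> simp
    right_inv := by
      rintro (i | j)
      · rfl
      · obtain ⟨(i | i), rfl⟩ := e4.surjective j <;> simp }
  obtain ⟨Q, γ, r, A1, hQ, hfr, hA1⟩ := exists_quot (m := 4) le_rfl (hM.submatrix g.symm) fun h => he (by
    simpa [submatrix_submatrix] using h.submatrix g)
  obtain ⟨Q4, X, Y, hQ4, hfr4⟩ := exists_frame_four (hA1.submatrix e4)
  obtain ⟨P4, hP4⟩ : ∃ P4, P4 = Q4.submatrix e4.symm e4.symm := ⟨_, rfl⟩
  have hP4u : IsUnit P4.det := by rw [hP4, det_submatrix_equiv_self]; exact hQ4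
  obtain ⟨R, hR⟩ : ∃ R, R = (fromBlocks 0 X 1 Y : Matrix I4 I4 F).submatrix e4.symm e4.symm := ⟨_, rfl⟩
  have hA1P : A1 * P4 = P4 * R := by
    have h := congrArg (fun T => (Q4 * T).submatrix e4.symm e4.symm) hfr4
    simp only [Matrix.mul_assoc, mul_nonsing_inv_cancel_left _ _ hQ4] at h
    rw [← submatrix_mul_equiv _ _ _ e4.symm, ← submatrix_mul_equiv _ _ _ e4.symm, submatrix_submatrix,
      Equiv.self_comp_symm, submatrix_id_id, ← hP4, ← hR] at h
    exact h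
  obtain ⟨r', hr'⟩ : ∃ r', r' = r ᵥ* P4 := ⟨_, rfl⟩
  obtain ⟨N, hN⟩ : ∃ N, N = fromBlocks (γ • (1 : Matrix (Fin 1) (Fin 1) F)) (Matrix.replicateRow (Fin 1) r') 0 R := ⟨_, rfl⟩
  have h1 : GCls N (fromBlocks (γ • (1 : Matrix (Fin 1) (Fin 1) F)) (Matrix.replicateRow (Fin 1) r) 0 A1) := by
    refine ⟨fromBlocks 1 0 0 P4, by rw [det_fromBlocks_zero₂₁, det_one, one_mul]; exact hP4u, ?_⟩
    rw [hN, fromBlocks_multiply, fromBlocks_multiply, hr']
    simp [hA1P, replicateRow_vecMul]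
  have h2 : GCls (fromBlocks (γ • (1 : Matrix (Fin 1) (Fin 1) F)) (Matrix.replicateRow (Fin 1) r) 0 A1) (M.submatrix g.symm g.symm) := by
    refine ⟨Q, hQ, ?_⟩
    rw [← hfr]; simp [Matrix.mul_assoc, mul_nonsing_inv_cancel_left _ _ hQ]
  have h3 : GCls (N.submatrix g g) M := by
    obtain ⟨P, hP, h⟩ := h1.trans h2
    refine ⟨P.submatrix g g, by rwa [det_submatrix_equiv_self], ?_⟩
    have := congrArg (fun T => T.submatrix g g) h
    rwa [← submatrix_mul_equiv _ _ _ g, ← submatrix_mul_equiv _ _ _ g, submatrix_submatrix, Equiv.symm_comp_self,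
      submatrix_id_id] at this
  obtain ⟨a, ha⟩ : ∃ a : Matrix (Fin 1) (Fin 2) F, a = Matrix.of fun _ i => r' (e4 (.inl i)) := ⟨_, rfl⟩
  obtain ⟨b, hb⟩ : ∃ b : Matrix (Fin 1) (Fin 2) F, b = Matrix.of fun _ i => r' (e4 (.inr i)) := ⟨_, rfl⟩
  have hN' : N.submatrix g g = fromBlocks (fromBlocks 0 0 a (γ • 1)) (Matrix.fromRows X b) (Matrix.fromCols 1 0) Y := by
    ext ((i | i) | i) ((j | j) | j) <;> simp [hN, hR, g, ha, hb]
  refine ⟨γ, X, γ • a + b - a * Y, Y, GCls.trans ?_ h3⟩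
  refine ⟨fromBlocks (fromBlocks 1 0 0 1) (Matrix.fromRows 0 a) 0 1, by
    rw [det_fromBlocks_zero₂₁]; simp, ?_⟩
  rw [hN', Mg]
  simp only [fromBlocks_multiply, fromBlocks_mul_fromRows, fromCols_mul_fromBlocks, fromRows_mul, mul_fromCols,
    fromCols_mul_fromRows, fromRows_mul_fromCols, Matrix.zero_mul, Matrix.mul_zero, Matrix.one_mul, Matrix.mul_one,
    add_zero, zero_add]
  ext ((i | i) | i) ((j | j) | j) <;>
    simp [Matrix.fromRows_apply_inl, Matrix.fromRows_apply_inr, Matrix.fromCols_apply_inl, Matrix.fromCols_apply_inr,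
      Matrix.add_apply, Matrix.sub_apply, Fin.eq_zero]
  all_goals ring

theorem mg_scale {γ : F} (hγ : γ ≠ 0) (X : Matrix (Fin 2) (Fin 2) F) (z : Matrix (Fin 1) (Fin 2) F)
    (Y : Matrix (Fin 2) (Fin 2) F) :
    GCls (Mfrm ((γ⁻¹ * γ⁻¹) • X) ((γ⁻¹ * γ⁻¹) • z) 0 (γ⁻¹ • Y)) (γ⁻¹ • Mg γ X z Y) := by
  refine ⟨fromBlocks (fromBlocks 1 0 0 1) 0 0 (γ⁻¹ • 1), by
    rw [det_fromBlocks_zero₂₁, det_smul]; simp [hγ], ?_⟩
  rw [Mg, Mfrm, fromBlocks_smul]
  simp only [fromBlocks_multiply, fromBlocks_mul_fromRows, fromCols_mul_fromBlocks, fromRows_mul, mul_fromCols,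
    fromCols_mul_fromRows, fromRows_mul_fromCols, Matrix.zero_mul, Matrix.mul_zero, Matrix.one_mul, Matrix.mul_one,
    add_zero, zero_add]
  ext ((i | i) | i) ((j | j) | j) <;>
    simp [Matrix.fromRows_apply_inl, Matrix.fromRows_apply_inr, Matrix.fromCols_apply_inl, Matrix.fromCols_apply_inr,
      Matrix.one_apply, hγ, mul_assoc, mul_comm, mul_left_comm]

theorem mg_shift (γ : F) (X : Matrix (Fin 2) (Fin 2) F) (z t : Matrix (Fin 1) (Fin 2) F)
    (Y : Matrix (Fin 2) (Fin 2) F) :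
    GCls (Mg γ X (z + (γ * γ) • t - t * X - γ • (t * Y)) Y) (Mg γ X z Y) := by
  refine ⟨fromBlocks (fromBlocks 1 0 t 1) (Matrix.fromRows 0 (γ • t)) 0 1, by
    rw [det_fromBlocks_zero₂₁, det_fromBlocks_zero₁₂]; simp, ?_⟩
  rw [Mg, Mg]
  simp only [fromBlocks_multiply, fromBlocks_mul_fromRows, fromCols_mul_fromBlocks, fromRows_mul, mul_fromCols,
    fromCols_mul_fromRows, fromRows_mul_fromCols, Matrix.zero_mul, Matrix.mul_zero, Matrix.one_mul, Matrix.mul_one,
    add_zero, zero_add]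
  ext ((i | i) | i) ((j | j) | j) <;>
    simp [Matrix.fromRows_apply_inl, Matrix.fromRows_apply_inr, Matrix.fromCols_apply_inl, Matrix.fromCols_apply_inr,
      Matrix.add_apply, Matrix.sub_apply, Matrix.smul_mul, Matrix.mul_smul, Fin.eq_zero]
  all_goals ring

/-- A middle entry one from an off-diagonal coupling. -/
theorem mg_recentre {γ : F} (hγ : γ ≠ 1) (X : Matrix (Fin 2) (Fin 2) F) {z : Matrix (Fin 1) (Fin 2) F}
    (Y : Matrix (Fin 2) (Fin 2) F) (hz : z ≠ 0) :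
    ∃ (X' : Matrix (Fin 2) (Fin 2) F) (z' : Matrix (Fin 1) (Fin 2) F) (y : Matrix (Fin 2) (Fin 1) F)
      (Y' : Matrix (Fin 2) (Fin 2) F), GCls (Mfrm X' z' y Y') (Mg γ X z Y) := by
  obtain ⟨j, hj⟩ : ∃ j, z 0 j ≠ 0 := by
    by_contra hcon
    push Not at hcon
    exact hz (Matrix.ext fun i j => by rw [Fin.eq_zero i]; simpa using hcon j)
  obtain ⟨q, hq⟩ : ∃ q : Matrix (Fin 2) (Fin 1) F, q = Matrix.single j 0 1 := ⟨_, rfl⟩
  obtain ⟨σ, hσ⟩ : ∃ σ : F, σ = -(z 0 j) / (γ - 1) := ⟨_, rfl⟩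
  have hg1 : γ - 1 ≠ 0 := sub_ne_zero.2 hγ
  have hσ0 : σ ≠ 0 := by rw [hσ]; simp [hj, hg1]
  have hzq : z * q = ((1 - γ) * σ) • (1 : Matrix (Fin 1) (Fin 1) F) := by
    ext a b
    rw [Fin.eq_zero a, Fin.eq_zero b, hq, Matrix.mul_apply, Finset.sum_eq_single j]
    · simp [hσ]; field_simp; ring
    · intro k _ hk; simp [Matrix.single, Ne.symm hk]
    · simp
  obtain ⟨p, hp⟩ : ∃ p : Matrix (Fin 2) (Fin 1) F, p = X * q := ⟨_, rfl⟩
  obtain ⟨z', hz'⟩ : ∃ z' : Matrix (Fin 1) (Fin 2) F, z' = σ⁻¹ • z := ⟨_, rfl⟩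
  refine ⟨X - p * z', z', p + Y * q - q, Y - q * z',
    fromBlocks (fromBlocks 1 p 0 (σ • 1)) 0 (Matrix.fromCols 0 q) 1, ?_, ?_⟩
  · rw [det_fromBlocks_zero₁₂, det_fromBlocks_zero₂₁]; simp [hσ0]
  · rw [Mg, Mfrm]
    simp only [fromBlocks_multiply, fromBlocks_mul_fromRows, fromCols_mul_fromBlocks, fromRows_mul, mul_fromCols,
      fromCols_mul_fromRows, fromRows_mul_fromCols, Matrix.zero_mul, Matrix.mul_zero, Matrix.one_mul, Matrix.mul_one,
      add_zero, zero_add]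
    ext ((i | i) | i) ((k | k) | k) <;>
      simp [Matrix.fromRows_apply_inl, Matrix.fromRows_apply_inr, Matrix.fromCols_apply_inl, Matrix.fromCols_apply_inr,
        Matrix.add_apply, Matrix.sub_apply, ← hp, hzq, hz', Matrix.smul_mul, Matrix.mul_smul, smul_smul, hσ0, Fin.eq_zero]
    all_goals ring

theorem mg_exc {γ : F} (hγ : γ ≠ 0) (Y : Matrix (Fin 2) (Fin 2) F) :
    GCls (Mexc (γ⁻¹ • (Y - γ • 1))) (γ⁻¹ • Mg γ (γ • (γ • 1 - Y)) 0 Y) := by
  refine ⟨fromBlocks (fromBlocks 1 0 0 1) (Matrix.fromRows (-1) 0) 0 (γ⁻¹ • 1), by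
    rw [det_fromBlocks_zero₂₁, det_smul]; simp [hγ], ?_⟩
  rw [Mg, Mexc, fromBlocks_smul]
  simp only [fromBlocks_multiply, fromBlocks_mul_fromRows, fromCols_mul_fromBlocks, fromRows_mul, mul_fromCols,
    fromCols_mul_fromRows, fromRows_mul_fromCols, Matrix.zero_mul, Matrix.mul_zero, Matrix.one_mul, Matrix.mul_one,
    add_zero, zero_add]
  ext ((i | i) | i) ((j | j) | j) <;>
    simp [Matrix.fromRows_apply_inl, Matrix.fromRows_apply_inr, Matrix.fromCols_apply_inl, Matrix.fromCols_apply_inr,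
      Matrix.add_apply, Matrix.sub_apply, Matrix.neg_apply, hγ, Matrix.one_apply]
  all_goals simp [Matrix.mul_apply, Fintype.sum_sum_type, Matrix.fromRows_apply_inl, Matrix.fromRows_apply_inr,
    Matrix.fromCols_apply_inl, Matrix.fromCols_apply_inr, Matrix.one_apply]
  all_goals (rcases eq_or_ne i j with h | h <;> simp [h] <;> field_simp <;> ring)

theorem mexc_conj {U U' : Matrix (Fin 2) (Fin 2) F} (h : GCls U U') : GCls (Mexc U) (Mexc U') := by
  obtain ⟨P, hP, e⟩ := h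
  refine ⟨fromBlocks (fromBlocks P 0 0 1) 0 0 P, by
    rw [det_fromBlocks_zero₂₁, det_fromBlocks_zero₂₁]; simp [hP.ne_zero], ?_⟩
  rw [Mexc, Mexc]
  simp only [fromBlocks_multiply, fromBlocks_mul_fromRows, fromCols_mul_fromBlocks, fromRows_mul, mul_fromCols,
    fromCols_mul_fromRows, fromRows_mul_fromCols, Matrix.zero_mul, Matrix.mul_zero, Matrix.one_mul, Matrix.mul_one,
    add_zero, zero_add, e]

theorem small_field (h4 : 4 ≤ Fintype.card F) (h7 : ¬ 7 ≤ Fintype.card F) :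
    Fintype.card F = 5 ∨ ((2 : F) = 0 ∧ Fintype.card F = 4) := by
  rcases two_eq_zero_or_odd (F := F) with h2 | ⟨hodd, -⟩
  · refine Or.inr ⟨h2, ?_⟩
    obtain ⟨p, hp, n, hpp, hn⟩ := FiniteField.card' F
    have hp2 : p = 2 := by
      have : ((2 : ℕ) : F) = 0 := by exact_mod_cast h2
      rw [CharP.cast_eq_zero_iff F p] at this
      exact (Nat.prime_dvd_prime_iff_eq hpp Nat.prime_two).1 this
    subst hp2
    rcases Nat.lt_or_ge (n : ℕ) 3 with hn3 | hn3
    · have := n.pos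
      interval_cases hh : (n : ℕ)
      · rw [hn] at h4; norm_num at h4
      · rw [hn]; norm_num
    · have := Nat.pow_le_pow_right (show 1 ≤ 2 by omega) hn3
      rw [← hn] at this
      omega
  · left; omega

/-- The exceptional class. -/
theorem exceptional_cover (h4 : 4 ≤ Fintype.card F) (h7 : ¬ 7 ≤ Fintype.card F) {γ : F} (hγ1 : γ ≠ 1)
    {Y : Matrix (Fin 2) (Fin 2) F} (hd : (Mg γ (γ • (γ • 1 - Y)) 0 Y).det = 1) :
    CovA (Mg γ (γ • (γ • 1 - Y)) 0 Y) 4 := by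
  classical
  obtain ⟨B, hB⟩ : ∃ B, B = Y - γ • 1 := ⟨_, rfl⟩
  have hXB : γ • (γ • 1 - Y) = (-γ) • B := by rw [hB, neg_smul, ← smul_neg, neg_sub]
  have hdet : γ ^ 3 * B.det = 1 := by
    rw [Mg, det_frame, hXB, det_smul, Fintype.card_fin] at hd
    linear_combination hd
  have hγ0 : γ ≠ 0 := fun h => by simp [h] at hdet
  have hg5 : γ ^ 5 ≠ 1 := by
    intro h
    rcases small_field h4 h7 with h5 | ⟨h2, h4'⟩
    · have := FiniteField.pow_card γ
      rw [h5] at this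
      exact hγ1 (this.symm.trans h)
    · have := FiniteField.pow_card_sub_one_eq_one γ hγ0
      rw [h4'] at this
      have h' : (γ - 1) * (γ - 1) = 0 := by
        linear_combination h - γ ^ 2 * this + (1 - γ) * h2
      exact hγ1 (sub_eq_zero.1 (mul_self_eq_zero.1 h'))
  have hXu : IsUnit ((γ⁻¹ * γ⁻¹) • (γ • (γ • 1 - Y))).det := by
    rw [hXB, smul_smul, det_smul, isUnit_iff_ne_zero]
    exact mul_ne_zero (pow_ne_zero _ (by simp [hγ0])) fun h => by simp [h] at hdet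
  refine CovA.of_smul (t := γ⁻¹) (inv_ne_zero hγ0) ?_
  have hu : IsUnit (γ⁻¹ • Mg γ (γ • (γ • 1 - Y)) 0 Y).det := by
    rw [det_smul, hd, mul_one]; exact (isUnit_iff_ne_zero.2 (inv_ne_zero hγ0)).pow _
  refine TwoPairs.covA (by simp) hu ?_
  obtain ⟨Z1, q1, c1, e1⟩ := exists_one_pair h4 (z := (γ⁻¹ * γ⁻¹) • (0 : Matrix (Fin 1) (Fin 2) F)) (y := 0)
    (Y := γ⁻¹ • Y) hXu
  refine ⟨⟨Z1, q1.gcls (mg_scale hγ0 _ _ _), c1, e1⟩, ?_⟩
  obtain ⟨U, hU⟩ : ∃ U, U = γ⁻¹ • B := ⟨_, rfl⟩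
  have hexc : GCls (Mexc U) (γ⁻¹ • Mg γ (γ • (γ • 1 - Y)) 0 Y) := by rw [hU, hB]; exact mg_exc hγ0 Y
  have hUd : U.det * γ ^ 5 = 1 := by
    rw [hU, det_smul, Fintype.card_fin]
    field_simp
    linear_combination hdet
  by_cases hBn : NonScalar B
  · rcases small_field h4 h7 with h5 | ⟨h2, -⟩
    · obtain ⟨r, p, r0, r1, p1, pr, hk⟩ := exists_roots_five h5 hXu.ne_zero
      have hXn : NonScalar ((γ⁻¹ * γ⁻¹) • (γ • (γ • 1 - Y))) := fun c hc => hBn (-γ * c) (by
        have := congrArg (fun T => (-γ) • T) hc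
        rw [hXB] at this
        simp only [smul_smul] at this
        rw [← this]
        field_simp
        simp)
      obtain ⟨Z, l, q, c, hr, l1, l0⟩ := exists_split_pair h4 (z := (γ⁻¹ * γ⁻¹) • (0 : Matrix (Fin 1) (Fin 2) F))
        (y := 0) (Y := γ⁻¹ • Y) hXu r0 r1 p1 pr (hk.imp id fun h => ⟨hXn, h⟩)
      exact ⟨Z, l, q.gcls (mg_scale hγ0 _ _ _), c, hr, l1, l0⟩
    · obtain ⟨a, ha⟩ := exists_sqrt_of_two (a := U.det) h2
      obtain ⟨U0, hU0⟩ : ∃ U0 : Matrix (Fin 2) (Fin 2) F, U0 = !![0, U.det; 1, U.trace] := ⟨_, rfl⟩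
      have hU0n : NonScalar U0 := fun c hc => by
        have := congrFun (congrFun hc 1) 0
        simp [hU0] at this
      have hUn : NonScalar U := fun c hc => hBn (γ * c) (by
        have := congrArg (fun T => γ • T) hc
        rw [hU] at this
        simpa [smul_smul, hγ0] using this)
      have hg : GCls U0 U := gcls_two hU0n hUn (by rw [hU0, trace_fin_two_of]; ring) (by
        rw [hU0, det_fin_two_of]; linear_combination (-U.det) * h2)
      obtain ⟨Z, l, q, c, hr, l1, l0⟩ := exc_companion h2 (d := U.det) (e := U.trace) ha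
        (fun h => hg5 (by rw [h, one_mul] at hUd; exact hUd)) (fun h => by rw [h, zero_mul] at hUd; exact zero_ne_one hUd)
      exact ⟨Z, l, q.gcls ((mexc_conj (hU0 ▸ hg)).trans hexc), c, hr, l1, l0⟩
  · obtain ⟨b, hb⟩ : ∃ b : F, B = b • 1 := by simpa [NonScalar] using hBn
    have hUs : U = (γ⁻¹ * b) • 1 := by rw [hU, hb, smul_smul]
    rw [hUs, det_smul, det_one, mul_one, Fintype.card_fin] at hUd
    obtain ⟨Z, l, q, c, hr, l1, l0⟩ := exc_scalar (u := γ⁻¹ * b) (fun h => by rw [h] at hUd; simp at hUd)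
      (fun h => hg5 (by rw [h, one_pow, one_mul] at hUd; exact hUd))
    exact ⟨Z, l, q.gcls (hUs ▸ hexc), c, hr, l1, l0⟩

theorem covA_five_aux (h4 : 4 ≤ Fintype.card F) {M : Matrix (J3 2 1) (J3 2 1) F} (hu : IsUnit M.det) (hM : Two M)
    (hk : 7 ≤ Fintype.card F ∨ M.det = 1) : CovA M 4 := by
  classical
  by_cases hne : NoEig M
  · exact (twoPairs_noEig h4 hne hk).covA (by simp) hu
  obtain ⟨γ, X, z, Y, hg⟩ := exists_eig_frame hM hne
  have hd : γ * X.det = M.det := by rw [hg.det_eq, Mg, det_frame]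
  have hγ : γ ≠ 0 := fun h => hu.ne_zero (by rw [← hd, h, zero_mul])
  have hXd : X.det ≠ 0 := fun h => hu.ne_zero (by rw [← hd, h, mul_zero])
  refine CovA.gcls hg ?_
  by_cases h7 : 7 ≤ Fintype.card F
  · refine CovA.of_smul (t := γ⁻¹) (inv_ne_zero hγ) (TwoPairs.covA (by simp) ?_ (TwoPairs.gcls (mg_scale hγ X z Y) ?_))
    · rw [det_smul, ← hg.det_eq]; exact ((isUnit_iff_ne_zero.2 (inv_ne_zero hγ)).pow _).mul hu
    · refine twoPairs_frame h4 ?_ (Or.inl h7)
      rw [det_smul, isUnit_iff_ne_zero]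
      exact mul_ne_zero (pow_ne_zero _ (by simp [hγ])) hXd
  have hd1 : M.det = 1 := hk.resolve_left h7
  have hu' : IsUnit (Mg γ X z Y).det := by rw [← hg.det_eq]; exact hu
  by_cases hγ1 : γ = 1
  · subst hγ1
    have e : Mg (1 : F) X z Y = Mfrm X z 0 Y := by simp [Mg, Mfrm]
    rw [one_mul] at hd
    rw [e] at hu' ⊢
    exact (twoPairs_frame h4 (isUnit_iff_ne_zero.2 hXd) (Or.inr (hd.trans hd1))).covA (by simp) hu'
  by_cases ht : ∃ t : Matrix (Fin 1) (Fin 2) F, z + (γ * γ) • t - t * X - γ • (t * Y) ≠ 0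
  · obtain ⟨t, ht⟩ := ht
    obtain ⟨X', z', y, Y', hg'⟩ := mg_recentre hγ1 X Y ht
    have hg'' := hg'.trans (mg_shift γ X z t Y)
    have hdX : X'.det = 1 := by
      rw [← det_mfrm_five (X := X') (z := z') (y := y) (Y := Y'), ← hg''.det_eq, ← hg.det_eq, hd1]
    refine CovA.gcls hg'' ((twoPairs_frame h4 (by rw [hdX]; exact isUnit_one) (Or.inr hdX)).covA (by simp) ?_)
    rw [det_mfrm_five, hdX]; exact isUnit_one
  push Not at ht
  have hz : z = 0 := by simpa using ht 0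
  subst hz
  have hX : X = γ • (γ • 1 - Y) := by
    ext i j
    have := congrFun (congrFun (ht (Matrix.single 0 i 1)) 0) j
    rcases eq_or_ne i j with h | h <;> simp [Matrix.mul_apply, Matrix.single, Matrix.one_apply, h] at this ⊢ <;>
      linear_combination -this
  subst hX
  exact exceptional_cover h4 h7 hγ1 (by rw [← hg.det_eq]; exact hd1)

theorem Two.smul {A : Matrix ι ι F} {t : F} (ht : t ≠ 0) (h : Two A) : Two (t • A) := by
  intro c u φ hc
  refine h (t⁻¹ * c) (t⁻¹ • u) φ ?_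
  rw [smul_vecMulVec, ← hc, smul_sub, smul_smul, smul_smul, inv_mul_cancel₀ ht, one_smul]

/-- Dimension five. -/
theorem cov_five (h4 : 4 ≤ Fintype.card F) (hι : Fintype.card ι = 5) {A : Matrix ι ι F} (hu : IsUnit A.det)
    (hA : Two A) : CovA A 4 := by
  obtain ⟨e⟩ : Nonempty (J3 2 1 ≃ ι) := ⟨Fintype.equivOfCardEq (by simp [hι])⟩
  suffices h : CovA (A.submatrix e e) 4 by simpa [submatrix_submatrix] using h.submatrix e.symm
  have hu' : IsUnit (A.submatrix e e).det := by rwa [det_submatrix_equiv_self]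
  by_cases h7 : 7 ≤ Fintype.card F
  · exact covA_five_aux h4 hu' (hA.submatrix e) (Or.inl h7)
  obtain ⟨t, ht0, ht⟩ : ∃ t : F, t ≠ 0 ∧ t ^ 5 * A.det = 1 := by
    rcases small_field h4 h7 with h5 | ⟨h2, h4'⟩
    · refine ⟨A.det⁻¹, inv_ne_zero hu.ne_zero, ?_⟩
      have h := FiniteField.pow_card A.det⁻¹
      rw [h5] at h
      rw [h, inv_mul_cancel₀ hu.ne_zero]
    · obtain ⟨s, hs⟩ := exists_sqrt_of_two (a := A.det⁻¹) h2
      have hs0 : s ≠ 0 := fun h => inv_ne_zero hu.ne_zero (by rw [← hs, h, mul_zero])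
      refine ⟨s, hs0, ?_⟩
      have h := FiniteField.pow_card_sub_one_eq_one s hs0
      rw [h4'] at h
      linear_combination (s ^ 2 * A.det) * h + A.det * hs + mul_inv_cancel₀ hu.ne_zero
  have hdt : (t • A.submatrix e e).det = 1 := by
    rw [det_smul, det_submatrix_equiv_self]
    simpa [Fintype.card_sum] using ht
  exact CovA.of_smul ht0 (covA_five_aux h4 (by rw [hdt]; exact isUnit_one) ((hA.submatrix e).smul ht0) (Or.inr hdt))

/-- One conjugate fewer than the dimension. -/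
theorem cov_pred (h4 : 4 ≤ Fintype.card F) : ∀ n, 5 ≤ n → ∀ (ι : Type) [Fintype ι] [DecidableEq ι],
    Fintype.card ι = n → ∀ A : Matrix ι ι F, IsUnit A.det → Two A → CovA A (n - 1) := by
  intro n hn
  induction n, hn using Nat.le_induction with
  | base => exact fun ι _ _ hcard A hu hA => cov_five h4 hcard hu hA
  | succ n hn ih =>
    intro ι _ _ hcard A hu hA
    by_cases hne : NoEig A
    · exact hne.covA (by omega) ((cov_pairable h4 (by omega) hne).mono (by omega) hA.nonScalar hu (by omega))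
    obtain ⟨e⟩ : Nonempty (Fin 1 ⊕ Fin n ≃ ι) := ⟨Fintype.equivOfCardEq (by simp [hcard]; omega)⟩
    obtain ⟨Q, lam, r, A1, hQ, hfr, hA1⟩ := exists_quot (by omega) (hA.submatrix e) fun h => hne (by
      simpa [submatrix_submatrix] using h.submatrix e.symm)
    obtain ⟨Ab, hAb⟩ : ∃ Ab, Ab = fromBlocks (lam • (1 : Matrix (Fin 1) (Fin 1) F)) (Matrix.replicateRow (Fin 1) r) 0 A1 :=
      ⟨_, rfl⟩
    rw [← hAb] at hfr
    have hA' : A.submatrix e e = Q * Ab * Q⁻¹ := by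
      rw [← hfr]; simp [Matrix.mul_assoc, mul_nonsing_inv _ hQ, mul_nonsing_inv_cancel_left _ _ hQ]
    have hAbu : IsUnit Ab.det := by
      have := congrArg det hA'
      rw [det_conj ((isUnit_iff_isUnit_det _).2 hQ), det_submatrix_equiv_self] at this
      rwa [← this]
    have hA1u : IsUnit A1.det := by
      rw [hAb, det_fromBlocks_zero₂₁] at hAbu
      exact isUnit_of_mul_isUnit_right hAbu
    have hAbt : Two Ab := fun c u φ hc => hA.submatrix e c (Q *ᵥ u) (φ ᵥ* Q⁻¹) (by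
      rw [hA', ← mul_vecMulVec, ← vecMulVec_mul, ← hc]
      simp [Matrix.mul_sub, Matrix.sub_mul, mul_nonsing_inv _ hQ, Matrix.mul_assoc])
    have h1 := ih (Fin n) (by simp) A1 hA1u hA1
    have h2 := ((hAb ▸ peel_gen (by omega) (hAb ▸ hAbt) (hAb ▸ hAbu) h1 : CovA Ab (n - 1 + 1)).conj hQ).submatrix e.symm
    rw [← hA', show n - 1 + 1 = n + 1 - 1 by omega] at h2
    simpa [submatrix_submatrix] using h2

end CfsgLib.SLCover
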