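import Cfsg.Agent.Lib.Classical.SLCover.FiveFrame

/-!
# Pairs for a class with a fixed space of codimension two
-/

set_option autoImplicit false
set_option linter.unusedSectionVars false
set_option linter.unusedSimpArgs false

namespace CfsgLib.SLCover

open Matrix Polynomial

set_option maxHeartbeats 1000000

variable {F : Type*} [Field F] [Fintype F] {ι κ : Type} [Fintype ι] [DecidableEq ι] [Fintype κ] [DecidableEq κ]

/-- A nilpotent part of full index. -/
theorem nilp_cyclic {W : Matrix I4 I4 F} {a : F} (h4' : (W - a • 1) ^ 4 = 0) (h3 : (W - a • 1) ^ 3 ≠ 0) :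
    Cyclic W ∧ W.charpoly = (Polynomial.X - C a) ^ 4 := by
  obtain ⟨N, hN⟩ : ∃ N, N = W - a • 1 := ⟨_, rfl⟩
  rw [← hN] at h4' h3
  refine ⟨?_, ?_⟩
  · obtain ⟨v, hv⟩ : ∃ v : I4 → F, N ^ 3 *ᵥ v ≠ 0 := by
      by_contra hcon
      push Not at hcon
      exact h3 (Matrix.ext_of_mulVec_single fun i => by rw [hcon, zero_mulVec])
    refine ⟨v, fun S hS hinv => ?_⟩
    have hNS : ∀ s ∈ S, N *ᵥ s ∈ S := fun s hs => by
      rw [hN, sub_mulVec, smul_mulVec, one_mulVec]
      exact S.sub_mem (hinv s hs) (S.smul_mem a hs)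
    have hp : ∀ i : ℕ, N ^ i *ᵥ v ∈ S := by
      intro i
      induction i with
      | zero => simpa using hS
      | succ i ih => rw [pow_succ', ← mulVec_mulVec]; exact hNS _ ih
    have hli : LinearIndependent F fun i : Fin 4 => N ^ (i : ℕ) *ᵥ v := by
      rw [Fintype.linearIndependent_iff]
      intro g hg
      simp only [Fin.sum_univ_four, Fin.val_zero, Fin.val_one, Fin.val_two, show ((3 : Fin 4) : ℕ) = 3 from rfl] at hg
      have key : ∀ j : ℕ, g 0 • (N ^ (j + 0) *ᵥ v) + g 1 • (N ^ (j + 1) *ᵥ v) + g 2 • (N ^ (j + 2) *ᵥ v) +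
          g 3 • (N ^ (j + 3) *ᵥ v) = 0 := fun j => by
        have := congrArg (fun w => N ^ j *ᵥ w) hg
        simpa only [mulVec_add, mulVec_smul, mulVec_mulVec, ← pow_add, mulVec_zero] using this
      have hz : ∀ j : ℕ, 4 ≤ j → N ^ j = 0 := fun j hj => pow_eq_zero_of_le hj h4'
      have e0 : g 0 = 0 := by
        have := key 3
        simpa [hz 4, hz 5, hz 6, hv] using this
      have e1 : g 1 = 0 := by
        have := key 2
        simpa [hz 4, hz 5, hv, e0] using this
      have e2 : g 2 = 0 := by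
        have := key 1
        simpa [hz 4, hv, e0, e1] using this
      have e3 : g 3 = 0 := by
        have := key 0
        simpa [hv, e0, e1, e2] using this
      intro i
      fin_cases i <;> assumption
    have htop := hli.span_eq_top_of_card_eq_finrank (by simp)
    rw [eq_top_iff, ← htop, Submodule.span_le]
    rintro _ ⟨i, rfl⟩
    exact hp _
  · have hnil : IsNilpotent N := ⟨4, h4'⟩
    have hc : N.charpoly = Polynomial.X ^ 4 := by
      have h := (Matrix.isNilpotent_charpoly_sub_pow_of_isNilpotent hnil).eq_zero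
      simpa [sub_eq_zero] using h
    have hs : N.charpoly = W.charpoly.comp (Polynomial.X + C a) := by
      rw [← charpoly_sub_scalar, hN]
      simp [Matrix.smul_one_eq_diagonal]
    have h' := congrArg (fun p => p.comp (Polynomial.X - C a)) (hs.symm.trans hc)
    simpa [comp_assoc] using h'

/-- The normal form with a fixed space of codimension two. -/
def Mexc (U : Matrix (Fin 2) (Fin 2) F) : Matrix (J3 2 1) (J3 2 1) F :=
  fromBlocks (fromBlocks 1 0 0 1) 0 (Matrix.fromCols 1 0) U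

theorem exc_pair {U P a0 c : Matrix (Fin 2) (Fin 2) F} {a : F} (hc : IsUnit c.det) (he : U * a0 + P * c = a0 + 1)
    (ha0 : a ≠ 0) (ha1 : a ≠ 1) (h4' : (fromBlocks (U + P) (P * U) 1 U - a • 1 : Matrix I4 I4 F) ^ 4 = 0)
    (h3 : (fromBlocks (U + P) (P * U) 1 U - a • 1 : Matrix I4 I4 F) ^ 3 ≠ 0) :
    ∃ (Z : Matrix (J3 2 1) (J3 2 1) F) (l : List F),
      InSq (Mexc U) Z ∧ Cyclic Z ∧ HasRoots Z (1 :: l) ∧ (1 : F) ∉ l ∧ (0 : F) ∉ l := by
  obtain ⟨hWc, hWp⟩ := nilp_cyclic h4' h3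
  obtain ⟨M1, hM1⟩ : ∃ M1 : Matrix (J3 2 1) (J3 2 1) F,
      M1 = fromBlocks (fromBlocks U 0 0 1) (Matrix.fromRows P 0) 0 1 := ⟨_, rfl⟩
  have hg : GCls (Mexc U) M1 := by
    obtain ⟨S, hS⟩ : ∃ S : Matrix (J3 2 1) (J3 2 1) F,
        S = fromBlocks (fromBlocks a0 0 0 1) (Matrix.fromRows 1 0) (Matrix.fromCols c 0) 0 := ⟨_, rfl⟩
    obtain ⟨Si, hSi⟩ : ∃ Si : Matrix (J3 2 1) (J3 2 1) F,
        Si = fromBlocks (fromBlocks 0 0 0 1) (Matrix.fromRows c⁻¹ 0) (Matrix.fromCols 1 0) (-(a0 * c⁻¹)) := ⟨_, rfl⟩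
    have hSu : IsUnit S.det := IsUnit.of_mul_eq_one Si.det (by
      rw [← det_mul]
      convert det_one (n := J3 2 1) (R := F)
      rw [hS, hSi]
      simp only [fromBlocks_multiply, fromBlocks_mul_fromRows, fromCols_mul_fromBlocks, fromRows_mul, mul_fromCols,
        fromCols_mul_fromRows, fromRows_mul_fromCols, Matrix.zero_mul, Matrix.mul_zero, Matrix.one_mul, Matrix.mul_one,
        add_zero, zero_add]
      ext ((i | i) | i) ((j | j) | j) <;>
        simp [Matrix.fromRows_apply_inl, Matrix.fromRows_apply_inr, Matrix.fromCols_apply_inl, Matrix.fromCols_apply_inr,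
          mul_nonsing_inv _ hc, Matrix.one_apply])
    refine ⟨S, hSu, ?_⟩
    rw [hS, hM1, Mexc]
    simp only [fromBlocks_multiply, fromBlocks_mul_fromRows, fromCols_mul_fromBlocks, fromRows_mul, mul_fromCols,
      fromCols_mul_fromRows, fromRows_mul_fromCols, Matrix.zero_mul, Matrix.mul_zero, Matrix.one_mul, Matrix.mul_one,
      add_zero, zero_add]
    ext ((i | i) | i) ((j | j) | j) <;>
      simp [Matrix.fromRows_apply_inl, Matrix.fromRows_apply_inr, Matrix.fromCols_apply_inl, Matrix.fromCols_apply_inr]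
    all_goals simpa using congrFun (congrFun he i) j
  have hfull : FullDet (Mexc U) := by
    intro t _
    refine ⟨fromBlocks (fromBlocks 1 0 0 (t • 1)) 0 0 1, ?_, ?_⟩
    · simp
    · rw [Mexc]
      simp only [fromBlocks_multiply, fromBlocks_mul_fromRows, fromCols_mul_fromBlocks, fromRows_mul, mul_fromCols,
        Matrix.zero_mul, Matrix.mul_zero, Matrix.one_mul, Matrix.mul_one, add_zero, zero_add]
  obtain ⟨Z, hZ⟩ : ∃ Z, Z = M1 * Mexc U := ⟨_, rfl⟩
  let f : J3 2 1 ≃ I4 ⊕ Fin 1 := {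
    toFun := Sum.elim (Sum.elim (fun i => .inl (.inl i)) fun k => .inr k) fun i => .inl (.inr i)
    invFun := Sum.elim (Sum.elim (fun i => .inl (.inl i)) fun i => .inr i) fun k => .inl (.inr k)
    left_inv := by rintro ((i | i) | i) <;> rfl
    right_inv := by rintro ((i | i) | i) <;> rfl }
  have hZf : Z = (fromBlocks (fromBlocks (U + P) (P * U) 1 U) 0 0 (1 : Matrix (Fin 1) (Fin 1) F)).submatrix f f := by
    rw [hZ, hM1, Mexc]
    simp only [fromBlocks_multiply, fromBlocks_mul_fromRows, fromCols_mul_fromBlocks, fromRows_mul, mul_fromCols,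
      fromCols_mul_fromRows, fromRows_mul_fromCols, Matrix.zero_mul, Matrix.mul_zero, Matrix.one_mul, Matrix.mul_one,
      add_zero, zero_add]
    ext ((i | i) | i) ((j | j) | j) <;>
      simp [f, Matrix.fromRows_apply_inl, Matrix.fromRows_apply_inr, Matrix.fromCols_apply_inl, Matrix.fromCols_apply_inr]
  have hev : (fromBlocks (U + P) (P * U) 1 U : Matrix I4 I4 F).charpoly.eval 1 ≠ 0 := by
    rw [hWp]; simp [sub_eq_zero, Ne.symm ha1]
  obtain ⟨v, hv⟩ := cyclic_lower (0 : Matrix (Fin 1) I4 F) hWc (cyclic_tiny le_rfl) (hasRoots_one 1) (by simp)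
    (by intro b hb; rw [List.eq_of_mem_replicate hb]; exact hev)
  have hZc : Cyclic Z := ⟨_, hZf ▸ hv.submatrix f⟩
  have hZp : Z.charpoly = (Polynomial.X - C 1) * (Polynomial.X - C a) ^ 4 := by
    have hs := charpoly_reindex f.symm (fromBlocks (fromBlocks (U + P) (P * U) 1 U) 0 0 (1 : Matrix (Fin 1) (Fin 1) F))
    rw [Matrix.reindex_apply, Equiv.symm_symm] at hs
    rw [hZf, hs, charpoly_fromBlocks_zero₁₂, hWp, charpoly_one, Fintype.card_fin, pow_one, map_one, mul_comm]
  have hZfull : FullDet Z := fullDet_simple hZp (by simp [sub_eq_zero, Ne.symm ha1])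
  refine ⟨Z, [a, a, a, a], InSq.of_scls hZfull (hfull.scls hg) (SCls.refl _) hZ.symm, hZc, ?_, by simp [Ne.symm ha1],
    by simp [Ne.symm ha0]⟩
  rw [HasRoots, hZp]
  simp [pow_succ, mul_assoc]

/-- The scalar case. -/
theorem exc_scalar {u : F} (hu0 : u ≠ 0) (hu1 : u ≠ 1) :
    ∃ (Z : Matrix (J3 2 1) (J3 2 1) F) (l : List F),
      InSq (Mexc (u • 1)) Z ∧ Cyclic Z ∧ HasRoots Z (1 :: l) ∧ (1 : F) ∉ l ∧ (0 : F) ∉ l := by
  obtain ⟨P, hP⟩ : ∃ P : Matrix (Fin 2) (Fin 2) F, P = !![0, 1; 0, 0] := ⟨_, rfl⟩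
  have hPP : P * P = 0 := by
    rw [hP]; ext i j; fin_cases i <;> fin_cases j <;> simp
  have hN : (fromBlocks (u • 1 + P) (P * (u • 1)) 1 (u • 1) - u • 1 : Matrix I4 I4 F) = fromBlocks P (u • P) 1 0 := by
    ext (i | i) (j | j) <;> simp [Matrix.one_apply]
  refine exc_pair (P := P) (a0 := (u - 1)⁻¹ • (1 - P)) (c := 1) (a := u) (by simp) ?_ hu0 hu1 ?_ ?_
  · have h : u * (u - 1)⁻¹ = (u - 1)⁻¹ + 1 := by
      linear_combination mul_inv_cancel₀ (sub_ne_zero.2 hu1)
    rw [Matrix.smul_mul, Matrix.one_mul, Matrix.mul_one, smul_smul, h, add_smul, one_smul]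
    abel
  · rw [hN]
    simp [pow_succ, fromBlocks_multiply, hPP]
  · rw [hN]
    intro h
    have := congrFun (congrFun h (.inr 0)) (.inl 1)
    simp [pow_succ, fromBlocks_multiply, hPP] at this
    simp [hP, hu0] at this

/-- The companion case in characteristic two. -/
theorem exc_companion (h2 : (2 : F) = 0) {d e a : F} (had : a * a = d) (hd1 : d ≠ 1) (hd0 : d ≠ 0) :
    ∃ (Z : Matrix (J3 2 1) (J3 2 1) F) (l : List F),
      InSq (Mexc !![0, d; 1, e]) Z ∧ Cyclic Z ∧ HasRoots Z (1 :: l) ∧ (1 : F) ∉ l ∧ (0 : F) ∉ l := by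
  haveI : CharP F 2 := (CharP.charP_iff_prime_eq_zero Nat.prime_two).2 (by exact_mod_cast h2)
  have ha0 : a ≠ 0 := fun h => hd0 (by rw [← had, h, mul_zero])
  have ha1 : a ≠ 1 := fun h => hd1 (by rw [← had, h, mul_one])
  obtain ⟨U, hU⟩ : ∃ U : Matrix (Fin 2) (Fin 2) F, U = !![0, d; 1, e] := ⟨_, rfl⟩
  rw [← hU]
  subst had
  have hev : ∀ (n : ℕ) [n.AtLeastTwo], Even n → (OfNat.ofNat n : F) = 0 := fun n _ hn => by
    obtain ⟨k, hk⟩ := hn
    rw [← Nat.cast_ofNat (R := F) (n := n)]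
    show ((n : ℕ) : F) = 0
    rw [hk, Nat.cast_add, ← two_mul, h2, zero_mul]
  have h3' : (3 : F) = 1 := by linear_combination h2
  have h7 : (7 : F) = 1 := by linear_combination 3 * h2
  rcases eq_or_ne e 0 with rfl | he
  · obtain ⟨P, hP⟩ : ∃ P : Matrix (Fin 2) (Fin 2) F, P = !![0, 1; 0, 0] := ⟨_, rfl⟩
    have hUu : IsUnit (U - 1).det := by
      rw [isUnit_iff_ne_zero, hU, det_fin_two]
      simp
      exact sub_ne_zero.2 (Ne.symm hd1)
    refine exc_pair (P := P) (a0 := (U - 1)⁻¹ * (1 - P)) (c := 1) (a := a) (by simp) ?_ ha0 ha1 ?_ ?_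
    · have h := mul_nonsing_inv_cancel_left (U - 1) (1 - P) hUu
      rw [Matrix.sub_mul, Matrix.one_mul] at h
      rw [sub_eq_iff_eq_add] at h
      rw [Matrix.mul_one, h]
      abel
    · rw [hU, hP]
      ext (i | i) (j | j) <;> fin_cases i <;> fin_cases j <;>
        simp [pow_succ, Matrix.mul_apply, Fintype.sum_sum_type, Fin.sum_univ_two, Matrix.one_apply] <;> ring_nf <;> simp (disch := decide) [hev]
    · intro h
      have := congrFun (congrFun h (.inr 0)) (.inl 1)
      simp [hU, hP, pow_succ, Matrix.mul_apply, Fintype.sum_sum_type, Fin.sum_univ_two, Matrix.one_apply] at this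
      ring_nf at this
      simp (disch := decide) [hev, h3', h7] at this
      exact absurd this (by assumption)
  · obtain ⟨P, hP⟩ : ∃ P : Matrix (Fin 2) (Fin 2) F, P = !![e, e * e; 0, e] := ⟨_, rfl⟩
    have hPu : IsUnit P.det := by
      rw [hP, det_fin_two_of, isUnit_iff_ne_zero]; simp [he]
    refine exc_pair (P := P) (a0 := 0) (c := P⁻¹) (a := a) (isUnit_nonsing_inv_det _ hPu) ?_ ha0 ha1 ?_ ?_
    · rw [Matrix.mul_zero, zero_add, zero_add, mul_nonsing_inv _ hPu]
    · rw [hU, hP]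
      ext (i | i) (j | j) <;> fin_cases i <;> fin_cases j <;>
        simp [pow_succ, Matrix.mul_apply, Fintype.sum_sum_type, Fin.sum_univ_two, Matrix.one_apply] <;> ring_nf <;> simp (disch := decide) [hev]
    · intro h
      have := congrFun (congrFun h (.inr 1)) (.inl 0)
      simp [hU, hP, pow_succ, Matrix.mul_apply, Fintype.sum_sum_type, Fin.sum_univ_two, Matrix.one_apply] at this
      ring_nf at this
      simp (disch := decide) [hev, h3', h7] at this
      exact absurd this (by assumption)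

end CfsgLib.SLCover
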