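import Cfsg.Agent.Lib.Classical.SLCover.Pair

/-!
# Pairs from a frame in dimension five
-/

set_option autoImplicit false
set_option linter.unusedSectionVars false
set_option linter.unusedSimpArgs false

namespace CfsgLib.SLCover

open Matrix Polynomial

set_option maxHeartbeats 1000000

variable {F : Type*} [Field F] [Fintype F] {ι κ : Type} [Fintype ι] [DecidableEq ι] [Fintype κ] [DecidableEq κ]

/-- The determinant of a matrix in a frame. -/
theorem det_frame {X : Matrix (Fin 2) (Fin 2) F} {z : Matrix (Fin 1) (Fin 2) F} {y : Matrix (Fin 2) (Fin 1) F}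
    {Y : Matrix (Fin 2) (Fin 2) F} {γ : F} :
    (fromBlocks (fromBlocks 0 0 0 (γ • 1)) (Matrix.fromRows X z) (Matrix.fromCols 1 y) Y :
      Matrix (J3 2 1) (J3 2 1) F).det = γ * X.det := by
  have h : (fromBlocks (fromBlocks 0 0 0 (γ • 1)) (Matrix.fromRows X z) (Matrix.fromCols 1 y) Y :
      Matrix (J3 2 1) (J3 2 1) F) * Jtw F 2 1 =
      fromBlocks (fromBlocks (-X) 0 (-z) (γ • 1)) 0 (Matrix.fromCols (-Y) y) 1 := by
    rw [Jtw, fromBlocks_multiply]
    ext ((i | i) | i) ((j | j) | j) <;>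
      simp [Matrix.mul_apply, Fintype.sum_sum_type, Matrix.one_apply, Matrix.fromRows_apply_inl, Matrix.fromRows_apply_inr,
        Matrix.fromCols_apply_inl, Matrix.fromCols_apply_inr, Fin.eq_zero]
  have h1 := congrArg det h
  rw [det_mul, det_jtw, mul_one, det_fromBlocks_zero₁₂, det_fromBlocks_zero₁₂, det_neg, det_one, mul_one, det_smul,
    det_one, mul_one] at h1
  rw [h1]
  simp [mul_comm]

theorem mfrm_eq {m o : ℕ} {X : Matrix (Fin m) (Fin m) F} {z : Matrix (Fin o) (Fin m) F} {y : Matrix (Fin m) (Fin o) F}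
    {Y : Matrix (Fin m) (Fin m) F} :
    Mfrm X z y Y = fromBlocks (fromBlocks 0 0 0 ((1 : F) • 1)) (Matrix.fromRows X z) (Matrix.fromCols 1 y) Y := by
  simp [Mfrm]

theorem det_mfrm_five {X : Matrix (Fin 2) (Fin 2) F} {z : Matrix (Fin 1) (Fin 2) F} {y : Matrix (Fin 2) (Fin 1) F}
    {Y : Matrix (Fin 2) (Fin 2) F} : (Mfrm X z y Y).det = X.det := by
  rw [mfrm_eq, det_frame, one_mul]

theorem NoRoot.eval_ne {T : Matrix (Fin 2) (Fin 2) F} (h : NoRoot T.trace T.det) (c : F) : T.charpoly.eval c ≠ 0 := by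
  intro h0
  refine h c ?_
  rw [charpoly_fin_two] at h0
  simp at h0
  linear_combination h0

theorem double_eval {T : Matrix (Fin 2) (Fin 2) F} {p : F} (ht : T.trace = p + p) (hd : T.det = p * p) :
    T.charpoly = (Polynomial.X - C p) * (Polynomial.X - C p) := by
  rw [charpoly_fin_two, ht, hd]
  simp only [map_add, map_mul]
  ring

/-- A separable matrix is a product of members of two Jordan classes. -/
theorem prod_double {G T V : Matrix (Fin 2) (Fin 2) F} (hG : G.trace ^ 2 - 4 * G.det ≠ 0) (hTn : NonScalar T)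
    (hVn : NonScalar V) (hTz : T.trace ^ 2 - 4 * T.det = 0) (hVz : V.trace ^ 2 - 4 * V.det = 0) (hT0 : T.det ≠ 0)
    (hd : G.det = T.det * V.det) :
    ∃ T' V' : Matrix (Fin 2) (Fin 2) F, GCls T T' ∧ GCls V V' ∧ T' * V' = G := by
  obtain ⟨G0, hG0⟩ : ∃ G0 : Matrix (Fin 2) (Fin 2) F, G0 = !![0, -G.det; 1, G.trace] := ⟨_, rfl⟩
  have hG0n : NonScalar G0 := fun c hc => by
    have := congrFun (congrFun hc 1) 0
    simp [hG0] at this
  have hG0t : G0.trace = G.trace := by rw [hG0, trace_fin_two]; simp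
  have hG0d : G0.det = G.det := by rw [hG0, det_fin_two]; simp
  obtain ⟨P, hP, hPG⟩ := (gcls_two hG0n (nonScalar_of_sep hG) hG0t hG0d).exists_conj
  obtain ⟨x, z, hxz⟩ := conic hG T.trace (T.det * V.trace) T.det
  obtain ⟨M, hM⟩ : ∃ M : Matrix (Fin 2) (Fin 2) F,
      M = !![x, z * G.det + x * G.trace - T.det * V.trace; z, T.trace - x] := ⟨_, rfl⟩
  have hMd : M.det = T.det := by
    rw [hM, det_fin_two]; simp; linear_combination -hxz
  have hMt : M.trace = T.trace := by rw [hM, trace_fin_two]; simp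
  have hMu : IsUnit M.det := by rw [hMd]; exact isUnit_iff_ne_zero.2 hT0
  obtain ⟨W, hW⟩ : ∃ W, W = M⁻¹ * G0 := ⟨_, rfl⟩
  have hVd : W.det = V.det := by
    rw [hW, det_mul, det_nonsing_inv, hMd, Ring.inverse_eq_inv', hG0d, hd, ← mul_assoc, inv_mul_cancel₀ hT0, one_mul]
  have hVt : W.trace = V.trace := by
    rw [hW, inv_def, hMd, Ring.inverse_eq_inv', Matrix.smul_mul, trace_smul, trace_fin_two, hM, adjugate_fin_two, hG0]
    simp [Matrix.mul_apply, Fin.sum_univ_two]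
    field_simp
  have hMW : M * W = G0 := by rw [hW, mul_nonsing_inv_cancel_left _ _ hMu]
  have hMn : NonScalar M := fun c hc => hG (by
    rw [← hG0t, ← hG0d, ← hMW, hc, Matrix.smul_mul, Matrix.one_mul, trace_smul, det_smul, Fintype.card_fin, hVt, hVd,
      smul_eq_mul]
    linear_combination (c ^ 2) * hVz)
  have hWn : NonScalar W := fun c hc => hG (by
    rw [← hG0t, ← hG0d, ← hMW, hc, Matrix.mul_smul, Matrix.mul_one, trace_smul, det_smul, Fintype.card_fin, hMt, hMd,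
      smul_eq_mul]
    linear_combination (c ^ 2) * hTz)
  refine ⟨P * M * P⁻¹, P * W * P⁻¹, (gcls_two hTn hMn hMt.symm hMd.symm).trans (GCls.of_conj _ hP),
    (gcls_two hVn hWn hVt.symm hVd.symm).trans (GCls.of_conj _ hP), ?_⟩
  rw [hPG, ← hMW]
  simp only [Matrix.mul_assoc, nonsing_inv_mul_cancel_left _ _ hP]

/-- The triangular product in a frame. -/
theorem frame_prod {T V : Matrix (Fin 2) (Fin 2) F} (e : Matrix (Fin 1) (Fin 2) F)
    (E : Matrix (Fin 2) (Fin 2 ⊕ Fin 1) F) (hc : ∀ E', Cyclic (fromBlocks T 0 E' V))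
    (hT1 : T.charpoly.eval 1 ≠ 0) (hV1 : V.charpoly.eval 1 ≠ 0) :
    Cyclic (fromBlocks (fromBlocks T 0 e 1) 0 E V) ∧
      (fromBlocks (fromBlocks T 0 e 1) 0 E V).charpoly = (Polynomial.X - C 1) * (T.charpoly * V.charpoly) ∧
      FullDet (fromBlocks (fromBlocks T 0 e 1) 0 E V) := by
  have hch : (fromBlocks (fromBlocks T 0 e (1 : Matrix (Fin 1) (Fin 1) F)) 0 E V).charpoly =
      (Polynomial.X - C 1) * (T.charpoly * V.charpoly) := by
    rw [charpoly_fromBlocks_zero₁₂, charpoly_fromBlocks_zero₁₂, charpoly_one, Fintype.card_fin, pow_one, map_one]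
    ring
  refine ⟨?_, hch, fullDet_simple hch (by rw [eval_mul]; exact mul_ne_zero hT1 hV1)⟩
  have hTu := det_sub_ne hT1
  have hVu := det_sub_ne hV1
  rw [one_smul] at hTu hVu
  obtain ⟨E1, hE1⟩ : ∃ E1 : Matrix (Fin 2) (Fin 2) F, E1 = Matrix.of fun i j => E i (.inl j) := ⟨_, rfl⟩
  obtain ⟨E2, hE2⟩ : ∃ E2 : Matrix (Fin 2) (Fin 1) F, E2 = Matrix.of fun i j => E i (.inr j) := ⟨_, rfl⟩
  have hE : E = Matrix.fromCols E1 E2 := by
    ext i (j | j) <;> simp [hE1, hE2]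
  obtain ⟨x, hx⟩ : ∃ x : Matrix (Fin 1) (Fin 2) F, x = -(e * (T - 1)⁻¹) := ⟨_, rfl⟩
  obtain ⟨y, hy⟩ : ∃ y : Matrix (Fin 2) (Fin 1) F, y = (V - 1)⁻¹ * E2 := ⟨_, rfl⟩
  have hxe : x * T + e = x := by
    have : x * (T - 1) = -e := by
      rw [hx, Matrix.neg_mul, Matrix.mul_assoc, nonsing_inv_mul _ hTu, Matrix.mul_one]
    rw [Matrix.mul_sub, Matrix.mul_one] at this
    rw [← sub_eq_zero]
    rw [← sub_eq_zero] at this
    rw [← this]; abel
  have hye : y + E2 = V * y := by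
    have : (V - 1) * y = E2 := by rw [hy, ← Matrix.mul_assoc, mul_nonsing_inv _ hVu, Matrix.one_mul]
    rw [Matrix.sub_mul, Matrix.one_mul] at this
    rw [← this]; abel
  obtain ⟨Q, hQ⟩ : ∃ Q : Matrix (J3 2 1) (J3 2 1) F,
      Q = fromBlocks (fromBlocks 1 0 x 1) 0 (Matrix.fromCols 0 y) 1 := ⟨_, rfl⟩
  obtain ⟨D, hD⟩ : ∃ D : Matrix (J3 2 1) (J3 2 1) F,
      D = fromBlocks (fromBlocks T 0 0 1) 0 (Matrix.fromCols (y * e + E1) 0) V := ⟨_, rfl⟩
  have hQu : IsUnit Q.det := by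
    rw [hQ, det_fromBlocks_zero₁₂, det_fromBlocks_zero₁₂]; simp
  have hg : GCls (fromBlocks (fromBlocks T 0 e 1) 0 E V) D := by
    refine ⟨Q, hQu, ?_⟩
    rw [hQ, hD, hE]
    simp only [fromBlocks_multiply, fromBlocks_mul_fromRows, fromCols_mul_fromBlocks, fromRows_mul, mul_fromCols,
      Matrix.zero_mul, Matrix.mul_zero, Matrix.one_mul, Matrix.mul_one, add_zero, zero_add]
    rw [fromBlocks_inj]
    refine ⟨?_, rfl, ?_, rfl⟩
    · rw [fromBlocks_inj]; exact ⟨rfl, rfl, hxe.symm, rfl⟩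
    · ext i (j | j)
      · simp [Matrix.fromCols]
      · have := congrFun (congrFun hye i) j
        simp [Matrix.fromCols, this.symm]
  refine Cyclic.gcls ?_ hg.symm
  obtain ⟨v, hv⟩ := cyclic_lower (0 : Matrix (Fin 1) I4 F) (hc (y * e + E1)) (cyclic_tiny le_rfl) (hasRoots_one 1)
    (by simp) (by
      intro a ha
      rw [List.eq_of_mem_replicate ha, charpoly_pair, eval_mul]
      exact mul_ne_zero hT1 hV1)
  let f : J3 2 1 ≃ I4 ⊕ Fin 1 := {
    toFun := Sum.elim (Sum.elim (fun i => .inl (.inl i)) fun k => .inr k) fun i => .inl (.inr i)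
    invFun := Sum.elim (Sum.elim (fun i => .inl (.inl i)) fun i => .inr i) fun k => .inl (.inr k)
    left_inv := by rintro ((i | i) | i) <;> rfl
    right_inv := by rintro ((i | i) | i) <;> rfl }
  refine ⟨v ∘ f, ?_⟩
  have := hv.submatrix f
  convert this using 1
  rw [hD]
  ext ((i | i) | i) ((j | j) | j) <;> simp [f, Matrix.fromCols]

/-- The first kind of pair: one eigenvalue. -/
theorem exists_one_pair (h4 : 4 ≤ Fintype.card F) {X : Matrix (Fin 2) (Fin 2) F} {z : Matrix (Fin 1) (Fin 2) F}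
    {y : Matrix (Fin 2) (Fin 1) F} {Y : Matrix (Fin 2) (Fin 2) F} (hX : IsUnit X.det) :
    ∃ Z, InSq (Mfrm X z y Y) Z ∧ Cyclic Z ∧ ∀ (c : F) (v : J3 2 1 → F), Z *ᵥ v = c • v → v = 0 ∨ c = 1 := by
  obtain ⟨k, hk⟩ : ∃ k, k = X.det := ⟨_, rfl⟩
  have hk0 : k ≠ 0 := hk ▸ hX.ne_zero
  obtain ⟨N, hN1, hN2⟩ := exists_avoid_two h4 (one_ne_zero (α := F)) one_ne_zero 0 0 0 (k * k)
  simp only [one_mul, add_zero] at hN1 hN2
  have hN0 : N ≠ 0 := fun h => hN1 (by rw [h]; ring)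
  obtain ⟨s, -, hs⟩ := exists_irred h4 hN0 0
  obtain ⟨V0, hV0⟩ : ∃ V0 : Matrix (Fin 2) (Fin 2) F, V0 = !![0, -N; 1, s] := ⟨_, rfl⟩
  have hV0r : NoRoot V0.trace V0.det := by
    rw [show V0.trace = s by rw [hV0, trace_fin_two_of]; ring, show V0.det = N by rw [hV0, det_fin_two_of]; ring]
    exact hs
  have hV0d : V0.det = N := by rw [hV0, det_fin_two_of]; ring
  have hV0u : IsUnit V0.det := by rw [hV0d]; exact isUnit_iff_ne_zero.2 hN0
  obtain ⟨C', T, V, hC, hTV, hT, hV, hTd, hVd⟩ : ∃ C' T V : Matrix (Fin 2) (Fin 2) F, IsUnit C'.det ∧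
      T * V = X * (C' * X * C'⁻¹) ∧ NoRoot T.trace T.det ∧ NoRoot V.trace V.det ∧ T.det = k * k / N ∧ V.det = N := by
    by_cases hXn : NonScalar X
    · obtain ⟨C', hC, hsep⟩ := exists_sep h4 hXn hX
      obtain ⟨s', -, hs'⟩ := exists_irred h4 (div_ne_zero (mul_ne_zero hk0 hk0) hN0) 0
      obtain ⟨T0, hT0⟩ : ∃ T0 : Matrix (Fin 2) (Fin 2) F, T0 = !![0, -(k * k / N); 1, s'] := ⟨_, rfl⟩
      have hT0r : NoRoot T0.trace T0.det := by
        rw [show T0.trace = s' by rw [hT0, trace_fin_two_of]; ring,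
          show T0.det = k * k / N by rw [hT0, det_fin_two_of]; ring]
        exact hs'
      have hT0d : T0.det = k * k / N := by rw [hT0, det_fin_two_of]; ring
      obtain ⟨T, V, gT, gV, h⟩ := prod_two hsep hT0r hV0r (by
        rw [det_mul, det_conj ((isUnit_iff_isUnit_det _).2 hC), hT0d, hV0d, div_mul_cancel₀ _ hN0, hk])
      exact ⟨C', T, V, hC, h, hT0r.of_gcls gT, hV0r.of_gcls gV, gT.det_eq.trans hT0d, gV.det_eq.trans hV0d⟩
    · obtain ⟨x, hx⟩ : ∃ x : F, X = x • 1 := by simpa [NonScalar] using hXn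
      have hkx : k = x * x := by rw [hk, hx, det_smul, det_one, mul_one, Fintype.card_fin, sq]
      have hx0 : x ≠ 0 := fun h => hk0 (by rw [hkx, h, mul_zero])
      refine ⟨1, (x * x) • V0⁻¹, V0, by simp, ?_, hV0r.inv_two (mul_ne_zero hx0 hx0), hV0r, ?_, hV0d⟩
      · rw [Matrix.smul_mul, nonsing_inv_mul _ hV0u, hx]
        simp [smul_smul]
      · rw [inv_two_det, hV0d, hkx, sq]
  have hne : T.charpoly ≠ V.charpoly := charpoly_ne_two (Or.inr (by
    rw [hTd, hVd]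
    intro h
    rw [div_eq_iff hN0] at h
    exact hN2 (by rw [sq]; exact h.symm)))
  have hVu : IsUnit V.det := by rw [hVd]; exact isUnit_iff_ne_zero.2 hN0
  obtain ⟨σ, hσ⟩ : ∃ σ : F, σ = ((-(V * C')).det * C'.det)⁻¹ := ⟨_, rfl⟩
  have hσ' : (-(V * C')).det * C'.det ≠ 0 := by
    rw [det_neg, det_mul]
    simp [hVu.ne_zero, hC.ne_zero]
  obtain ⟨e, E, A2, -, h2, h12⟩ := exists_tri (X := X) (z := z) (y := y) (Y := Y) hC hVu
    (σ := σ) (hσ ▸ inv_ne_zero hσ')
  rw [← hTV, Matrix.mul_assoc T, mul_nonsing_inv _ hVu, Matrix.mul_one] at h12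
  obtain ⟨hZc, hZp, hZf⟩ := frame_prod e E (fun E' => cyclic_pair E' hT hV hne) (hT.eval_ne 1) (hV.eval_ne 1)
  refine ⟨_, InSq.of_scls hZf (SCls.refl _) (h2 (by rw [hσ, pow_one, mul_right_comm, mul_inv_cancel₀ hσ'])) h12, hZc,
    fun c v hv => ?_⟩
  by_contra hcon
  push Not at hcon
  have hev : (fromBlocks (fromBlocks T 0 e (1 : Matrix (Fin 1) (Fin 1) F)) 0 E V).charpoly.eval c ≠ 0 := by
    rw [hZp, eval_mul, eval_mul]
    refine mul_ne_zero ?_ (mul_ne_zero (hT.eval_ne c) (hV.eval_ne c))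
    simpa [sub_eq_zero] using hcon.2
  have h0 := det_sub_ne hev
  refine hcon.1 ?_
  have h1 : ((fromBlocks (fromBlocks T 0 e (1 : Matrix (Fin 1) (Fin 1) F)) 0 E V) - c • 1) *ᵥ v = 0 := by
    rw [sub_mulVec, smul_mulVec, one_mulVec, hv, sub_self]
  have h3 := congrArg (fun w => ((fromBlocks (fromBlocks T 0 e (1 : Matrix (Fin 1) (Fin 1) F)) 0 E V) - c • 1)⁻¹ *ᵥ w) h1
  simp only [mulVec_mulVec, mulVec_zero] at h3
  rwa [nonsing_inv_mul _ h0, one_mulVec] at h3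

/-- The second kind of pair: split, with a simple root. -/
theorem exists_split_pair (h4 : 4 ≤ Fintype.card F) {X : Matrix (Fin 2) (Fin 2) F} {z : Matrix (Fin 1) (Fin 2) F}
    {y : Matrix (Fin 2) (Fin 1) F} {Y : Matrix (Fin 2) (Fin 2) F} (hX : IsUnit X.det) {r p : F} (hr0 : r ≠ 0)
    (hr1 : r ≠ 1) (hp1 : p ≠ 1) (hpr : p ≠ r) (hk : p * r = X.det ∨ (NonScalar X ∧ p * r = -X.det)) :
    ∃ (Z : Matrix (J3 2 1) (J3 2 1) F) (l : List F),
      InSq (Mfrm X z y Y) Z ∧ Cyclic Z ∧ HasRoots Z (1 :: l) ∧ (1 : F) ∉ l ∧ (0 : F) ∉ l := by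
  have hsq : p * r * (p * r) = X.det * X.det := by
    rcases hk with h | ⟨-, h⟩ <;> rw [h]
    ring
  have hp0 : p ≠ 0 := fun h => hX.ne_zero (mul_self_eq_zero.1 (by rw [← hsq, h]; ring))
  obtain ⟨V0, hV0⟩ : ∃ V0 : Matrix (Fin 2) (Fin 2) F, V0 = !![r, 1; 0, r] := ⟨_, rfl⟩
  have hV0t : V0.trace = r + r := by rw [hV0, trace_fin_two_of]
  have hV0d : V0.det = r * r := by rw [hV0, det_fin_two_of]; ring
  have hV0n : NonScalar V0 := fun c hc => by
    have := congrFun (congrFun hc 0) 1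
    simp [hV0] at this
  obtain ⟨C', T, V, hC, hTV, hTc, hVc, hTp, hVp⟩ : ∃ C' T V : Matrix (Fin 2) (Fin 2) F, IsUnit C'.det ∧
      T * V = X * (C' * X * C'⁻¹) ∧ Cyclic T ∧ Cyclic V ∧
      T.charpoly = (Polynomial.X - C p) * (Polynomial.X - C p) ∧
      V.charpoly = (Polynomial.X - C r) * (Polynomial.X - C r) := by
    by_cases hXn : NonScalar X
    · obtain ⟨C', hC, hsep⟩ := exists_sep h4 hXn hX
      obtain ⟨T0, hT0⟩ : ∃ T0 : Matrix (Fin 2) (Fin 2) F, T0 = !![p, 1; 0, p] := ⟨_, rfl⟩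
      have hT0t : T0.trace = p + p := by rw [hT0, trace_fin_two_of]
      have hT0d : T0.det = p * p := by rw [hT0, det_fin_two_of]; ring
      have hT0n : NonScalar T0 := fun c hc => by
        have := congrFun (congrFun hc 0) 1
        simp [hT0] at this
      obtain ⟨T, V, gT, gV, h⟩ := prod_double hsep hT0n hV0n (by rw [hT0t, hT0d]; ring) (by rw [hV0t, hV0d]; ring)
        (by rw [hT0d]; exact mul_ne_zero hp0 hp0) (by
          rw [det_mul, det_conj ((isUnit_iff_isUnit_det _).2 hC), hT0d, hV0d, ← hsq]; ring)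
      exact ⟨C', T, V, hC, h, (cyclic_two hT0n).gcls gT, (cyclic_two hV0n).gcls gV,
        gT.charpoly_eq.trans (double_eval hT0t hT0d), gV.charpoly_eq.trans (double_eval hV0t hV0d)⟩
    · obtain ⟨x, hx⟩ : ∃ x : F, X = x • 1 := by simpa [NonScalar] using hXn
      have hkx : p * r = x * x := by
        rw [hk.resolve_right fun h => hXn h.1, hx, det_smul, det_one, mul_one, Fintype.card_fin, sq]
      obtain ⟨T, hT⟩ : ∃ T : Matrix (Fin 2) (Fin 2) F, T = !![p, -(p / r); 0, p] := ⟨_, rfl⟩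
      have hTn : NonScalar T := fun c hc => by
        have := congrFun (congrFun hc 0) 1
        simp [hT, hp0, hr0] at this
      refine ⟨1, T, V0, by simp, ?_, cyclic_two hTn, cyclic_two hV0n, double_eval ?_ ?_, double_eval hV0t hV0d⟩
      · rw [hx]
        simp [smul_smul, hT, hV0]
        ext i j
        fin_cases i <;> fin_cases j <;> simp [← hkx] <;> field_simp <;> ring
      · rw [hT, trace_fin_two_of]
      · rw [hT, det_fin_two_of]; ring
  have hVu : IsUnit V.det := by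
    rw [det_eq_sign_charpoly_coeff, hVp]
    simp [hr0]
  obtain ⟨σ, hσ⟩ : ∃ σ : F, σ = ((-(V * C')).det * C'.det)⁻¹ := ⟨_, rfl⟩
  have hσ' : (-(V * C')).det * C'.det ≠ 0 := by
    rw [det_neg, det_mul]
    simp [hVu.ne_zero, hC.ne_zero]
  obtain ⟨e, E, A2, -, h2, h12⟩ := exists_tri (X := X) (z := z) (y := y) (Y := Y) hC hVu
    (σ := σ) (hσ ▸ inv_ne_zero hσ')
  rw [← hTV, Matrix.mul_assoc T, mul_nonsing_inv _ hVu, Matrix.mul_one] at h12
  have hVr : HasRoots V [r, r] := by rw [HasRoots, hVp]; simp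
  have hcp : ∀ E', Cyclic (fromBlocks T 0 E' V) := fun E' => cyclic_lower E' hTc hVc hVr (by simp [Ne.symm hr0]) (by
    intro a ha
    simp at ha
    rw [ha, hTp]
    simp [sub_eq_zero, Ne.symm hpr])
  obtain ⟨hZc, hZp, hZf⟩ := frame_prod e E hcp (by rw [hTp]; simp [sub_eq_zero, Ne.symm hp1])
    (by rw [hVp]; simp [sub_eq_zero, Ne.symm hr1])
  refine ⟨_, [p, p, r, r], InSq.of_scls hZf (SCls.refl _)
    (h2 (by rw [hσ, pow_one, mul_right_comm, mul_inv_cancel₀ hσ'])) h12, hZc, ?_, ?_, ?_⟩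
  · rw [HasRoots, hZp, hTp, hVp]
    simp [mul_assoc]
  · simp [Ne.symm hr1, Ne.symm hp1]
  · simp [Ne.symm hr0, Ne.symm hp0]

end CfsgLib.SLCover
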