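import Cfsg.Agent.Lib.Classical.SLCover.Coprime

/-!
# Frames of a matrix without eigenvectors
-/

set_option autoImplicit false
set_option linter.unusedSectionVars false
set_option linter.unusedSimpArgs false

namespace CfsgLib.SLCover

open Matrix

set_option maxHeartbeats 1000000

variable {F : Type*} [Field F] [Fintype F] {ι κ : Type} [Fintype ι] [DecidableEq ι] [Fintype κ] [DecidableEq κ]

/-- No eigenvalue in the field. -/
def NoEig (A : Matrix ι ι F) : Prop := ∀ c : F, (A - c • 1).det ≠ 0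

theorem NoEig.isUnit {A : Matrix ι ι F} (h : NoEig A) : IsUnit A.det := by
  simpa [isUnit_iff_ne_zero] using h 0

theorem NoEig.vec {A : Matrix ι ι F} (h : NoEig A) {v : ι → F} {c : F} (hv : A *ᵥ v = c • v) : v = 0 := by
  by_contra hne
  exact h c (exists_mulVec_eq_zero_iff.1 ⟨v, hne, by simp [sub_mulVec, smul_mulVec, hv]⟩)

theorem NoEig.submatrix {A : Matrix ι ι F} (h : NoEig A) (e : κ ≃ ι) : NoEig (A.submatrix e e) := by
  intro c
  have : A.submatrix e e - c • 1 = (A - c • 1).submatrix e e := by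
    ext i j; simp [Matrix.one_apply, e.injective.eq_iff]
  rw [this, det_submatrix_equiv_self]
  exact h c

theorem NoEig.gcls {A X : Matrix ι ι F} (h : NoEig A) (hX : GCls A X) : NoEig X := by
  obtain ⟨P, hP, rfl⟩ := hX.exists_conj
  intro c
  have : P * A * P⁻¹ - c • 1 = P * (A - c • 1) * P⁻¹ := by
    rw [Matrix.mul_sub, Matrix.sub_mul, Matrix.mul_smul, Matrix.smul_mul, Matrix.mul_one, mul_nonsing_inv _ hP]
  rw [this, det_conj ((isUnit_iff_isUnit_det _).2 hP)]
  exact h c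

theorem NoEig.not_mem {A : Matrix ι ι F} (h : NoEig A) {S : Submodule F (ι → F)}
    (hS : ∀ s ∈ S, A *ᵥ s ∈ S) {w : ι → F} (hw : w ∉ S) : A *ᵥ w ∉ S ⊔ F ∙ w := by
  intro hmem
  obtain ⟨s, hs, y, hy, hsy⟩ := Submodule.mem_sup.1 hmem
  obtain ⟨c, rfl⟩ := Submodule.mem_span_singleton.1 hy
  obtain ⟨f, hf⟩ : ∃ f : S → S, ∀ v : S, (f v : ι → F) = (A - c • 1) *ᵥ (v : ι → F) :=
    ⟨fun v => ⟨(A - c • 1) *ᵥ (v : ι → F), by rw [sub_mulVec, smul_mulVec, one_mulVec]; exact S.sub_mem (hS _ v.2) (S.smul_mem c v.2)⟩,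
      fun _ => rfl⟩
  have hu : IsUnit (A - c • 1) := (isUnit_iff_isUnit_det _).2 (isUnit_iff_ne_zero.2 (h c))
  have hinj : Function.Injective f := fun a b hab => Subtype.ext
    (Matrix.mulVec_injective_iff_isUnit.2 hu (by rw [← hf, ← hf, hab]))
  obtain ⟨v, hv⟩ := Finite.injective_iff_surjective.1 hinj ⟨s, hs⟩
  have e1 : (A - c • 1) *ᵥ w = s := by rw [sub_mulVec, smul_mulVec, one_mulVec, ← hsy]; abel
  have e2 : (A - c • 1) *ᵥ (v : ι → F) = (A - c • 1) *ᵥ w := by rw [← hf, hv, e1]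
  exact hw ((Matrix.mulVec_injective_iff_isUnit.2 hu e2) ▸ v.2)

theorem finrank_sup_single {S : Submodule F (ι → F)} {x : ι → F} (hx : x ∉ S) :
    Module.finrank F ↥(S ⊔ F ∙ x) = Module.finrank F ↥S + 1 := by
  refine le_antisymm ((Submodule.finrank_add_le_finrank_add_finrank _ _).trans ?_) (Submodule.finrank_lt_finrank_of_lt ?_)
  · have := finrank_span_singleton (K := F) (v := x) (fun h => hx (by simp [h]))
    omega
  · exact lt_of_le_of_ne le_sup_left fun h =>
      hx (h ▸ Submodule.mem_sup_right (Submodule.mem_span_singleton_self x))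

theorem exists_not_mem {S : Submodule F (ι → F)} (h : Module.finrank F ↥S < Fintype.card ι) : ∃ w, w ∉ S := by
  by_contra hcon
  push Not at hcon
  rw [(Submodule.eq_top_iff'.2 hcon), finrank_top, Module.finrank_pi] at h
  exact lt_irrefl _ h

/-- A subspace of codimension two grows by a pair. -/
theorem NoEig.grow {A : Matrix ι ι F} (h : NoEig A) {S : Submodule F (ι → F)}
    (hS : Module.finrank F ↥S + 2 ≤ Fintype.card ι) : ∃ w, w ∉ S ∧ A *ᵥ w ∉ S ⊔ F ∙ w := by
  by_contra hcon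
  push Not at hcon
  have hinv : ∀ s ∈ S, A *ᵥ s ∈ S := by
    intro s hs
    obtain ⟨w, hw⟩ := exists_not_mem (S := S) (by omega)
    obtain ⟨w', hw'⟩ := exists_not_mem (S := S ⊔ F ∙ w) (by rw [finrank_sup_single hw]; omega)
    have key : ∀ v, v ∉ S → A *ᵥ s ∈ S ⊔ F ∙ v := by
      intro v hv
      have hvs : v + s ∉ S := fun h => hv (by simpa using S.sub_mem h hs)
      have h1 := hcon v hv
      have h2 := hcon (v + s) hvs
      have hsup : S ⊔ F ∙ (v + s) ≤ S ⊔ F ∙ v := sup_le le_sup_left ((Submodule.span_singleton_le_iff_mem _ _).2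
        (Submodule.add_mem _ (Submodule.mem_sup_right (Submodule.mem_span_singleton_self v)) (Submodule.mem_sup_left hs)))
      have := Submodule.sub_mem _ (hsup h2) h1
      rwa [mulVec_add, add_sub_cancel_left] at this
    have hwS : w' ∉ S := fun h => hw' (Submodule.mem_sup_left h)
    obtain ⟨a, ha, p, hp, e1⟩ := Submodule.mem_sup.1 (key w hw)
    obtain ⟨b, hb, p', hp', e2⟩ := Submodule.mem_sup.1 (key w' hwS)
    obtain ⟨t, rfl⟩ := Submodule.mem_span_singleton.1 hp
    obtain ⟨t', rfl⟩ := Submodule.mem_span_singleton.1 hp'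
    rcases eq_or_ne t' 0 with rfl | ht
    · rw [← e2, zero_smul, add_zero]; exact hb
    refine absurd ?_ hw'
    have e : w' = t'⁻¹ • (a - b) + t'⁻¹ • (t • w) := by
      rw [← smul_add, eq_inv_smul_iff₀ ht, sub_add_eq_add_sub, e1, ← e2, add_sub_cancel_left]
    rw [e]
    exact Submodule.add_mem _ (Submodule.mem_sup_left (S.smul_mem _ (S.sub_mem ha hb)))
      (Submodule.smul_mem _ _ (Submodule.mem_sup_right (Submodule.smul_mem _ _ (Submodule.mem_span_singleton_self w))))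
  obtain ⟨w, hw⟩ := exists_not_mem (S := S) (by omega)
  exact h.not_mem hinv hw (hcon w hw)

/-- In odd dimension some vector has three independent iterates. -/
theorem NoEig.exists_three {A : Matrix ι ι F} (h : NoEig A) (hodd : Odd (Fintype.card ι)) :
    ∃ v : ι → F, ∀ a b c : F, a • v + b • (A *ᵥ v) + c • (A *ᵥ (A *ᵥ v)) = 0 → a = 0 ∧ b = 0 ∧ c = 0 := by
  by_contra hcon
  push Not at hcon
  have hquad : ∀ v, A *ᵥ (A *ᵥ v) ∈ (F ∙ v) ⊔ F ∙ (A *ᵥ v) := by
    intro v
    obtain ⟨a, b, c, he, hne⟩ := hcon v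
    rcases eq_or_ne c 0 with rfl | hc
    · rw [zero_smul, add_zero] at he
      rcases eq_or_ne b 0 with rfl | hb
      · rw [zero_smul, add_zero] at he
        rcases smul_eq_zero.1 he with rfl | rfl
        · exact absurd rfl (hne rfl rfl)
        · simp
      · have : A *ᵥ v = (-(b⁻¹ * a)) • v := by
          rw [add_eq_zero_iff_neg_eq] at he
          rw [neg_smul, ← smul_smul, ← smul_neg, he, smul_smul, inv_mul_cancel₀ hb, one_smul]
        have hv := h.vec this
        simp [hv]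
    · have : A *ᵥ (A *ᵥ v) = (-(c⁻¹ * a)) • v + (-(c⁻¹ * b)) • (A *ᵥ v) := by
        have e : c • (A *ᵥ (A *ᵥ v)) = -(a • v + b • (A *ᵥ v)) := eq_neg_of_add_eq_zero_right he
        rw [neg_smul, neg_smul, ← smul_smul, ← smul_smul, ← neg_add, ← smul_add, ← smul_neg, ← e, smul_smul,
          inv_mul_cancel₀ hc, one_smul]
      rw [this]
      exact Submodule.add_mem _ (Submodule.mem_sup_left (Submodule.smul_mem _ _ (Submodule.mem_span_singleton_self v)))
        (Submodule.mem_sup_right (Submodule.smul_mem _ _ (Submodule.mem_span_singleton_self _)))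
  obtain ⟨k, hk⟩ := hodd
  have hbuild : ∀ j, j ≤ k → ∃ S : Submodule F (ι → F), (∀ s ∈ S, A *ᵥ s ∈ S) ∧ Module.finrank F ↥S = 2 * j := by
    intro j hj
    induction j with
    | zero => exact ⟨⊥, fun s hs => by simp_all, by simp⟩
    | succ j ih =>
      obtain ⟨S, hS, hd⟩ := ih (by omega)
      obtain ⟨w, hw⟩ := exists_not_mem (S := S) (by omega)
      have hAw := h.not_mem hS hw
      refine ⟨(S ⊔ F ∙ w) ⊔ F ∙ (A *ᵥ w), fun s hs => ?_, by rw [finrank_sup_single hAw, finrank_sup_single hw, hd]; omega⟩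
      obtain ⟨p, hp, q, hq, rfl⟩ := Submodule.mem_sup.1 hs
      obtain ⟨p₁, hp₁, p₂, hp₂, rfl⟩ := Submodule.mem_sup.1 hp
      obtain ⟨x, rfl⟩ := Submodule.mem_span_singleton.1 hp₂
      obtain ⟨y, rfl⟩ := Submodule.mem_span_singleton.1 hq
      rw [mulVec_add, mulVec_add, mulVec_smul, mulVec_smul]
      refine Submodule.add_mem _ (Submodule.add_mem _ (Submodule.mem_sup_left (Submodule.mem_sup_left (hS _ hp₁)))
        (Submodule.mem_sup_right (Submodule.smul_mem _ _ (Submodule.mem_span_singleton_self _)))) (Submodule.smul_mem _ _ ?_)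
      exact (sup_le (le_sup_of_le_left le_sup_right) le_sup_right :
        (F ∙ w) ⊔ F ∙ (A *ᵥ w) ≤ _) (hquad w)
  obtain ⟨S, hS, hd⟩ := hbuild k le_rfl
  obtain ⟨w, hw⟩ := exists_not_mem (S := S) (by omega)
  refine h.not_mem hS hw ?_
  rw [Submodule.eq_top_of_finrank_eq (S := S ⊔ F ∙ w) (by rw [finrank_sup_single hw, Module.finrank_pi]; omega)]
  exact Submodule.mem_top

/-- The index of a frame. -/
abbrev J3 (m o : ℕ) : Type := (Fin m ⊕ Fin o) ⊕ Fin m

/-- The matrix in a frame. -/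
def Mfrm {m o : ℕ} (X : Matrix (Fin m) (Fin m) F) (z : Matrix (Fin o) (Fin m) F) (y : Matrix (Fin m) (Fin o) F)
    (Y : Matrix (Fin m) (Fin m) F) : Matrix (J3 m o) (J3 m o) F :=
  fromBlocks (fromBlocks 0 0 0 1) (Matrix.fromRows X z) (Matrix.fromCols 1 y) Y

theorem exists_family {n : ℕ} {A : Matrix ι ι F} (h : NoEig A) (hn : Fintype.card ι = n) {o : ℕ} (u : Fin o → ι → F)
    {k₀ : ℕ} (w₀ : Fin k₀ → ι → F)
    (hbase : LinearIndependent F (Sum.elim (Sum.elim w₀ u) fun i => A *ᵥ w₀ i)) (k : ℕ) (hk : k₀ ≤ k)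
    (hle : 2 * k + o ≤ n) : ∃ w : Fin k → ι → F, LinearIndependent F (Sum.elim (Sum.elim w u) fun i => A *ᵥ w i) ∧
      ∀ i : Fin k₀, w (Fin.castLE hk i) = w₀ i := by
  induction k, hk using Nat.le_induction with
  | base => exact ⟨w₀, hbase, fun i => rfl⟩
  | succ k hk ih =>
    obtain ⟨w, hw, hw0⟩ := ih (by omega)
    obtain ⟨S, hS⟩ : ∃ S, S = Submodule.span F (Set.range (Sum.elim (Sum.elim w u) fun i => A *ᵥ w i)) := ⟨_, rfl⟩
    obtain ⟨x, hx, hAx⟩ := h.grow (S := S) (by rw [hS, finrank_span_eq_card hw]; simp; omega)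
    refine ⟨Fin.snoc w x, ?_, fun i => ?_⟩
    · have h1 : LinearIndependent F
          (fun q : Option (J3 k o) => q.casesOn' x (Sum.elim (Sum.elim w u) fun i => A *ᵥ w i)) :=
        linearIndependent_option'.2 ⟨hw, hS ▸ hx⟩
      have h2 : LinearIndependent F (fun q : Option (Option (J3 k o)) => q.casesOn' (A *ᵥ x)
          fun r : Option (J3 k o) => r.casesOn' x (Sum.elim (Sum.elim w u) fun i => A *ᵥ w i)) := by
        refine linearIndependent_option'.2 ⟨h1, fun hm => hAx ?_⟩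
        refine (Submodule.span_le.2 ?_ : _ ≤ S ⊔ F ∙ x) hm
        rintro _ ⟨(_ | i), rfl⟩
        · exact Submodule.mem_sup_right (Submodule.mem_span_singleton_self x)
        · exact Submodule.mem_sup_left (hS ▸ Submodule.subset_span ⟨i, rfl⟩)
      let f : J3 (k + 1) o → Option (Option (J3 k o)) := Sum.elim
        (Sum.elim (Fin.lastCases (some none) fun i => some (some (.inl (.inl i)))) fun j => some (some (.inl (.inr j))))
        (Fin.lastCases none fun i => some (some (.inr i)))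
      have hf : Function.Injective f := by
        rintro ((i | i) | i) ((j | j) | j)
        all_goals (try cases i using Fin.lastCases) <;> (try cases j using Fin.lastCases) <;> simp [f]
      convert h2.comp f hf using 1
      funext i
      rcases i with (i | i) | i
      all_goals (try cases i using Fin.lastCases) <;> simp [f]
    · rw [← hw0 i]
      exact Fin.snoc_castSucc (α := fun _ => ι → F) x w (Fin.castLE hk i)

/-- A matrix without eigenvectors has a frame. -/
theorem exists_frame {m o : ℕ} {A : Matrix (J3 m o) (J3 m o) F} (h : NoEig A) (ho : o ≤ 1) (hm : 1 ≤ m) :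
    ∃ (Q : Matrix (J3 m o) (J3 m o) F) (X : Matrix (Fin m) (Fin m) F) (z : Matrix (Fin o) (Fin m) F)
      (Y : Matrix (Fin m) (Fin m) F), IsUnit Q.det ∧
      Q⁻¹ * A * Q = Mfrm X z (Matrix.of fun i _ => if i = ⟨0, hm⟩ then 1 else 0) Y := by
  classical
  have hcard : Fintype.card (J3 m o) = 2 * m + o := by simp; omega
  obtain ⟨u, w, hli, hu⟩ : ∃ (u : Fin o → J3 m o → F) (w : Fin m → J3 m o → F),
      LinearIndependent F (Sum.elim (Sum.elim w u) fun i => A *ᵥ w i) ∧
      ∀ k, A *ᵥ u k = u k + A *ᵥ w ⟨0, hm⟩ := by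
    obtain rfl | rfl : o = 0 ∨ o = 1 := by omega
    · obtain ⟨w, hw, -⟩ := exists_family h hcard (u := Fin.elim0) (k₀ := 0) (w₀ := Fin.elim0)
        (linearIndependent_empty_type) m (Nat.zero_le m) le_rfl
      exact ⟨Fin.elim0, w, hw, fun k => k.elim0⟩
    · obtain ⟨v, hv⟩ := h.exists_three (by rw [hcard]; exact ⟨m, rfl⟩)
      have hb : LinearIndependent F (Sum.elim (Sum.elim (fun _ : Fin 1 => A *ᵥ v - v) fun _ : Fin 1 => A *ᵥ v)
          fun _ : Fin 1 => A *ᵥ (A *ᵥ v - v)) := by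
        rw [Fintype.linearIndependent_iff]
        intro g hg
        simp only [Fintype.sum_sum_type, Fin.sum_univ_one, Sum.elim_inl, Sum.elim_inr] at hg
        have he : (-g (.inl (.inl 0))) • v + (g (.inl (.inl 0)) + g (.inl (.inr 0)) - g (.inr 0)) • (A *ᵥ v) +
            g (.inr 0) • (A *ᵥ (A *ᵥ v)) = 0 := by
          rw [← hg, mulVec_sub]; module
        obtain ⟨e1, e2, e3⟩ := hv _ _ _ he
        rw [neg_eq_zero] at e1
        rw [e1, e3, zero_add, sub_zero] at e2
        rintro ((i | i) | i) <;> rw [Subsingleton.elim i 0] <;> assumption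
      obtain ⟨w, hw, hw0⟩ := exists_family h hcard (u := fun _ => A *ᵥ v) (k₀ := 1) (w₀ := fun _ => A *ᵥ v - v) hb m
        hm le_rfl
      refine ⟨_, w, hw, fun k => ?_⟩
      have e : w ⟨0, hm⟩ = A *ᵥ v - v := by
        rw [← hw0 0]; congr 1
      rw [e, mulVec_sub]; abel
  obtain ⟨Q, hQ⟩ : ∃ Q : Matrix (J3 m o) (J3 m o) F,
      Q = Matrix.of fun i j => Sum.elim (Sum.elim w u) (fun k => A *ᵥ w k) j i := ⟨_, rfl⟩
  have hQu : IsUnit Q.det := by
    rw [← Matrix.isUnit_iff_isUnit_det, ← linearIndependent_cols_iff_isUnit]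
    convert hli using 1
    funext j i
    simp [hQ]
  have hcol : ∀ j, Q *ᵥ Pi.single j 1 = Sum.elim (Sum.elim w u) (fun k => A *ᵥ w k) j := fun j => by
    funext i; simp [hQ]
  obtain ⟨N, hN⟩ : ∃ N, N = Q⁻¹ * A * Q := ⟨_, rfl⟩
  have hNcol : ∀ j t, A *ᵥ Sum.elim (Sum.elim w u) (fun k => A *ᵥ w k) j = Q *ᵥ t → N *ᵥ Pi.single j 1 = t := by
    intro j t ht
    rw [hN, ← mulVec_mulVec, hcol, ← mulVec_mulVec, ht, mulVec_mulVec, nonsing_inv_mul _ hQu, one_mulVec]
  have h1 : ∀ j : Fin m, N *ᵥ Pi.single (.inl (.inl j)) 1 = Pi.single (.inr j) 1 := fun j =>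
    hNcol _ _ (by rw [hcol]; rfl)
  have h2 : ∀ k : Fin o, N *ᵥ Pi.single (.inl (.inr k)) 1 =
      Pi.single (.inl (.inr k)) 1 + Pi.single (.inr ⟨0, hm⟩) 1 := fun k =>
    hNcol _ _ (by rw [mulVec_add, hcol, hcol]; exact hu k)
  refine ⟨Q, Matrix.of fun i j => N (.inl (.inl i)) (.inr j), Matrix.of fun i j => N (.inl (.inr i)) (.inr j),
    N.toBlocks₂₂, hQu, hN ▸ ?_⟩
  ext ((i | i) | i) ((j | j) | j)
  · simpa [Mfrm] using congrFun (h1 j) (.inl (.inl i))
  · simpa [Mfrm] using congrFun (h2 j) (.inl (.inl i))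
  · simp [Mfrm, hN]
  · simpa [Mfrm, Matrix.one_apply] using congrFun (h1 j) (.inl (.inr i))
  · simpa [Mfrm, Matrix.one_apply, Pi.single_apply] using congrFun (h2 j) (.inl (.inr i))
  · simp [Mfrm, hN]
  · simpa [Mfrm, Matrix.one_apply, Pi.single_apply] using congrFun (h1 j) (.inr i)
  · simpa [Mfrm, Pi.single_apply] using congrFun (h2 j) (.inr i)
  · simp [Mfrm, hN, toBlocks₂₂]

theorem mfrm_x_ne {m o : ℕ} (hm : 1 ≤ m) {X : Matrix (Fin m) (Fin m) F} {z : Matrix (Fin o) (Fin m) F}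
    {y : Matrix (Fin m) (Fin o) F} {Y : Matrix (Fin m) (Fin m) F} (h : IsUnit (Mfrm X z y Y).det) {c : F}
    (hc : X = c • 1) : c ≠ 0 := by
  rintro rfl
  refine h.ne_zero (det_eq_zero_of_row_eq_zero (.inl (.inl ⟨0, hm⟩)) fun j => ?_)
  rcases j with (j | j) | j <;> simp [Mfrm, hc]

/-- A frame whose corner is not scalar, or the quadratic case. -/
theorem exists_good_frame (h4 : 4 ≤ Fintype.card F) {m o : ℕ} {A : Matrix (J3 m o) (J3 m o) F} (h : NoEig A)
    (hsize : (o = 1 ∧ 2 ≤ m) ∨ (o = 0 ∧ 3 ≤ m)) :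
    ∃ (Q : Matrix (J3 m o) (J3 m o) F) (X : Matrix (Fin m) (Fin m) F) (z : Matrix (Fin o) (Fin m) F)
      (y : Matrix (Fin m) (Fin o) F) (Y : Matrix (Fin m) (Fin m) F), IsUnit Q.det ∧ Q⁻¹ * A * Q = Mfrm X z y Y ∧
      (NonScalar X ∨ (o = 0 ∧ ∃ c d : F, X = c • 1 ∧ Y = d • 1)) := by
  classical
  have hm : 1 ≤ m := by omega
  obtain ⟨Q, X, z, Y, hQ, hfr⟩ := exists_frame h (by omega) hm
  obtain ⟨y, hy⟩ : ∃ y : Matrix (Fin m) (Fin o) F, y = Matrix.of fun i _ => if i = ⟨0, hm⟩ then 1 else 0 := ⟨_, rfl⟩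
  rw [← hy] at hfr
  by_cases hX : NonScalar X
  · exact ⟨Q, X, z, y, Y, hQ, hfr, Or.inl hX⟩
  obtain ⟨c, rfl⟩ : ∃ c : F, X = c • 1 := by simpa [NonScalar] using hX
  have hMu : IsUnit (Mfrm (c • 1) z y Y).det := by
    rw [← hfr, det_mul, det_mul]
    exact ((isUnit_nonsing_inv_det _ hQ).mul h.isUnit).mul hQ
  have hc := mfrm_x_ne hm hMu rfl
  have wrap : ∀ (S : Matrix (J3 m o) (J3 m o) F) X' z' Y', IsUnit S.det → Mfrm (c • 1) z y Y * S = S * Mfrm X' z' y Y' →
      IsUnit (Q * S).det ∧ (Q * S)⁻¹ * A * (Q * S) = Mfrm X' z' y Y' := by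
    intro S X' z' Y' hS he
    refine ⟨by rw [det_mul]; exact hQ.mul hS, ?_⟩
    calc (Q * S)⁻¹ * A * (Q * S) = S⁻¹ * (Q⁻¹ * A * Q) * S := by
          rw [Matrix.mul_inv_rev]; simp only [Matrix.mul_assoc]
      _ = _ := by rw [hfr, Matrix.mul_assoc, he, nonsing_inv_mul_cancel_left _ _ hS]
  rcases hsize with ⟨rfl, hm2⟩ | ⟨rfl, hm3⟩
  · obtain ⟨ν, hν⟩ : ∃ ν : Matrix (Fin 1) (Fin m) F, ν = Matrix.of fun _ j => if j = ⟨1, hm2⟩ then 1 else 0 := ⟨_, rfl⟩
    have hνy : ν * y = 0 := by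
      ext i j; simp [hν, hy, Matrix.mul_apply]
    have hinv : (1 + y * ν) * (1 - y * ν) = 1 := by
      rw [Matrix.mul_sub, Matrix.mul_one, Matrix.add_mul, Matrix.one_mul, ← Matrix.mul_assoc (y * ν),
        Matrix.mul_assoc y ν y, hνy, Matrix.mul_zero, Matrix.zero_mul, add_zero, add_sub_cancel_right]
    obtain ⟨X', hX'⟩ : ∃ X', X' = (c • 1) * (1 + y * ν) := ⟨_, rfl⟩
    obtain ⟨Y', hY'⟩ : ∃ Y', Y' = (1 - y * ν) * (y * ν + Y * (1 + y * ν)) := ⟨_, rfl⟩
    obtain ⟨S, hS⟩ : ∃ S : Matrix (J3 m 1) (J3 m 1) F,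
        S = fromBlocks (fromBlocks 1 0 ν 1) (Matrix.fromRows 0 ν) 0 (1 + y * ν) := ⟨_, rfl⟩
    have hSu : IsUnit S.det := by
      rw [hS, det_fromBlocks_zero₂₁, det_fromBlocks_zero₁₂]
      simp only [det_one, one_mul]
      exact IsUnit.of_mul_eq_one _ (by rw [← det_mul, hinv, det_one])
    have hxy : (1 + y * ν) * Y' = y * ν + Y * (1 + y * ν) := by
      rw [hY', ← Matrix.mul_assoc, hinv, Matrix.one_mul]
    obtain ⟨hQS, hfr'⟩ := wrap S X' (ν + z * (1 + y * ν) - ν * X' - ν * Y') Y' hSu (by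
      simp only [hS, Mfrm, fromBlocks_multiply]
      rw [fromBlocks_inj]
      refine ⟨?_, ?_, ?_, ?_⟩
      · ext (i | i) (j | j) <;> simp [fromBlocks_multiply, Matrix.mul_apply, Fintype.sum_sum_type, hν, hy,
          Matrix.fromRows_apply_inl, Matrix.fromRows_apply_inr, Matrix.fromCols_apply_inl, Matrix.fromCols_apply_inr,
          Matrix.one_apply]
      · rw [fromBlocks_mul_fromRows, fromRows_mul, fromBlocks_mul_fromRows, fromRows_mul]
        simp only [Matrix.zero_mul, Matrix.one_mul, zero_add, add_zero, Matrix.mul_zero]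
        ext (i | i) j <;> simp [hX'] <;> ring
      · rw [fromCols_mul_fromBlocks, mul_fromCols]
        ext i (j | j) <;> simp [Matrix.fromCols, Matrix.add_mul, Matrix.mul_assoc, hνy]
      · rw [fromCols_mul_fromRows]
        simp [hxy])
    refine ⟨Q * S, X', _, y, Y', hQS, hfr', Or.inl fun d hd => hc ?_⟩
    have := congrFun (congrFun hd ⟨0, hm⟩) ⟨1, hm2⟩
    simpa [hX', hy, hν, Matrix.mul_apply, Matrix.one_apply] using this
  · by_cases hY : ∃ d : F, Y = d • 1
    · obtain ⟨d, hd⟩ := hY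
      exact ⟨Q, _, z, y, Y, hQ, hfr, Or.inr ⟨rfl, c, d, rfl, hd⟩⟩
    obtain ⟨a, b, hab, hcomm⟩ : ∃ a b : Fin m, a ≠ b ∧ ¬ Commute (Matrix.single a b (1 : F)) Y := by
      by_contra hcon
      push Not at hcon
      obtain ⟨d, hd⟩ := Matrix.mem_range_scalar_of_commute_single (M := Y) fun a b hab => hcon a b hab
      exact hY ⟨d, by rw [← hd]; ext i j; simp [Matrix.diagonal_apply, Matrix.one_apply]⟩
    obtain ⟨t, ht0, ht⟩ : ∃ t : F, t ≠ 0 ∧ 1 + t * Y b a ≠ 0 := by
      obtain ⟨t, ht⟩ : ∃ t : F, t ∉ ({0, -(Y b a)⁻¹} : Finset F) := by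
        by_contra hcon
        push Not at hcon
        have := Finset.card_le_card (fun x _ => hcon x : (Finset.univ : Finset F) ⊆ {0, -(Y b a)⁻¹})
        have := Finset.card_le_two (a := (0 : F)) (b := -(Y b a)⁻¹)
        simp only [Finset.card_univ] at *
        omega
      simp at ht
      refine ⟨t, ht.1, fun h0 => ?_⟩
      rcases eq_or_ne (Y b a) 0 with hz | hz
      · simp [hz] at h0
      · exact ht.2 (by field_simp; linear_combination h0)
    obtain ⟨G, hG⟩ : ∃ G : Matrix (Fin m) (Fin m) F, G = Matrix.single a b t := ⟨_, rfl⟩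
    have hGG : G * G = 0 := by rw [hG, Matrix.single_mul_single_of_ne _ _ _ _ hab.symm]
    obtain ⟨S, hS⟩ : ∃ S : Matrix (J3 m 0) (J3 m 0) F,
        S = fromBlocks 1 (Matrix.fromRows (c • G) 0) (Matrix.fromCols G 0) (1 + Y * G) := ⟨_, rfl⟩
    have hSu : IsUnit S.det := by
      rw [hS, det_fromBlocks_one₁₁, fromCols_mul_fromRows, Matrix.mul_smul, hGG, smul_zero, Matrix.mul_zero, add_zero,
        sub_zero, hG]
      have e : Y * Matrix.single a b t = Matrix.vecMulVec (fun i => Y i a) (Pi.single b t) := by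
        ext i j
        simp [Matrix.mul_apply, Matrix.single, vecMulVec_apply, Pi.single_apply]
        rcases eq_or_ne j b with rfl | hj <;> simp [*, Ne.symm]
      rw [e, vecMulVec_eq Unit, det_one_add_replicateCol_mul_replicateRow, single_dotProduct, isUnit_iff_ne_zero]
      exact ht
    obtain ⟨N, hN⟩ : ∃ N, N = S⁻¹ * Mfrm (c • 1) z y Y * S := ⟨_, rfl⟩
    have hMS : Mfrm (c • 1) z y Y * S = S * N := by
      rw [hN, ← Matrix.mul_assoc, ← Matrix.mul_assoc, mul_nonsing_inv _ hSu, Matrix.one_mul]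
    have hcolS : ∀ j : Fin m, Mfrm (c • 1) z y Y *ᵥ (S *ᵥ Pi.single (.inl (.inl j)) 1) = S *ᵥ Pi.single (.inr j) 1 := by
      intro j
      funext i
      rcases i with (i | i) | i
      · simp [hS, Mfrm, mulVec, dotProduct, Matrix.one_apply, Matrix.smul_apply, Pi.single_apply, Finset.mul_sum]
      · exact i.elim0
      · simp [hS, Mfrm, mulVec, dotProduct, Matrix.one_apply, Matrix.mul_apply, Pi.single_apply, Finset.sum_add_distrib]
    have hcolN : ∀ j : Fin m, N *ᵥ Pi.single (.inl (.inl j)) 1 = Pi.single (.inr j) 1 := fun j => by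
      rw [hN, ← mulVec_mulVec, ← mulVec_mulVec, hcolS, mulVec_mulVec, nonsing_inv_mul _ hSu, one_mulVec]
    obtain ⟨X', hX'⟩ : ∃ X' : Matrix (Fin m) (Fin m) F, X' = Matrix.of fun i j => N (.inl (.inl i)) (.inr j) := ⟨_, rfl⟩
    have hNsh : N = Mfrm X' (Matrix.of fun i j => N (.inl (.inr i)) (.inr j)) y N.toBlocks₂₂ := by
      ext ((i | i) | i) ((j | j) | j)
      all_goals first
        | exact i.elim0
        | exact j.elim0
        | skip
      · simpa [Mfrm] using congrFun (hcolN j) (.inl (.inl i))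
      · simp [Mfrm, hX']
      · simpa [Mfrm, Matrix.one_apply, Pi.single_apply] using congrFun (hcolN j) (.inr i)
      · simp [Mfrm, toBlocks₂₂]
    obtain ⟨Y', hY'⟩ : ∃ Y', Y' = N.toBlocks₂₂ := ⟨_, rfl⟩
    rw [← hY'] at hNsh
    obtain ⟨hQS, hfr'⟩ := wrap S _ _ _ hSu (hMS.trans (by rw [← hNsh]))
    refine ⟨Q * S, X', _, y, Y', hQS, hfr', Or.inl fun c' hc' => hcomm ?_⟩
    rw [hNsh, hc', hS, Mfrm, Mfrm, fromBlocks_multiply, fromBlocks_multiply, fromBlocks_inj] at hMS
    obtain ⟨-, h12, -, h22⟩ := hMS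
    have e1 : c • (1 + Y * G) = c' • 1 + c • (G * Y') := by
      ext i j
      have := congrFun (congrFun h12 (.inl i)) j
      simpa [Matrix.mul_apply, Fintype.sum_sum_type, Matrix.fromRows_apply_inl, Matrix.one_apply, Finset.mul_sum, mul_assoc,
        mul_add, mul_ite]
        using this
    have e2 : c • G + Y * (1 + Y * G) = c' • G + (1 + Y * G) * Y' := by
      ext i j
      have := congrFun (congrFun h22 i) j
      simpa [Matrix.mul_apply, Fintype.sum_sum_type, Matrix.fromRows_apply_inl, Matrix.fromCols_apply_inl, Matrix.one_apply, Finset.mul_sum,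
        mul_assoc, mul_comm, mul_left_comm] using this
    obtain ⟨i, hia, hib⟩ : ∃ i : Fin m, i ≠ a ∧ i ≠ b := by
      obtain ⟨i, hi⟩ : ∃ i : Fin m, i ∉ ({a, b} : Finset (Fin m)) := by
        by_contra hcon
        push Not at hcon
        have := Finset.card_le_card (fun x _ => hcon x : (Finset.univ : Finset (Fin m)) ⊆ {a, b})
        have := Finset.card_le_two (a := a) (b := b)
        simp only [Finset.card_univ, Fintype.card_fin] at *
        omega
      exact ⟨i, by simpa using hi⟩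
    have hcc : c' = c := by
      have := congrFun (congrFun e1 i) i
      simp [hG, Matrix.mul_apply, Matrix.single, Ne.symm hia, Ne.symm hib] at this
      exact this.symm
    rw [hcc] at e1 e2
    have e3 : Y * G = G * Y' := by
      rw [smul_add] at e1
      exact smul_right_injective _ hc (add_left_cancel e1)
    have e4 : Y' = Y := by
      have e5 : Y * G * Y' = Y * (Y * G) := by rw [Matrix.mul_assoc, ← e3]
      rw [Matrix.add_mul, Matrix.one_mul, e5, Matrix.mul_add, Matrix.mul_one] at e2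
      exact (add_right_cancel (add_left_cancel e2)).symm
    rw [e4, hG] at e3
    have : Matrix.single a b t = t • Matrix.single a b (1 : F) := by rw [Matrix.smul_single, smul_eq_mul, mul_one]
    rw [this, Matrix.mul_smul, Matrix.smul_mul] at e3
    exact (smul_right_injective _ ht0 e3).symm

end CfsgLib.SLCover
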