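import Cfsg.Agent.Lib.Classical.SLCover.Conic
import Cfsg.Agent.Lib.Classical.SLCover.Frame

/-!
# Dimension four
-/

set_option autoImplicit false
set_option linter.unusedSectionVars false
set_option linter.unusedSimpArgs false

namespace CfsgLib.SLCover

open Matrix Polynomial

set_option maxHeartbeats 1000000

variable {F : Type*} [Field F] [Fintype F] {ι κ : Type} [Fintype ι] [DecidableEq ι] [Fintype κ] [DecidableEq κ]

/-- Far from the scalars: no `A - c` has rank at most one. -/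
def Two (A : Matrix ι ι F) : Prop := ∀ (c : F) (u φ : ι → F), A - c • 1 ≠ Matrix.vecMulVec u φ

theorem Two.nonScalar {A : Matrix ι ι F} (h : Two A) : NonScalar A := fun c hc =>
  h c 0 0 (by rw [hc]; ext i j; simp [vecMulVec_apply])

/-- Non-scalar targets are products without common eigenvector. -/
def CovA (A : Matrix ι ι F) (k : ℕ) : Prop :=
  ∀ B : Matrix ι ι F, NonScalar B → B.det = A.det ^ k →
    ∃ l : List (Matrix ι ι F), l.length = k ∧ (∀ X ∈ l, SCls A X) ∧ l.prod = B ∧ ∀ c : F, NoCommon l c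

theorem exists_two_not_mem {p q : Submodule F (ι → F)} (hp : p ≠ ⊤) (hq : q ≠ ⊤) : ∃ x, x ∉ p ∧ x ∉ q := by
  obtain ⟨a, ha⟩ : ∃ a, a ∉ p := by
    by_contra h; push Not at h; exact hp (Submodule.eq_top_iff'.2 h)
  obtain ⟨b, hb⟩ : ∃ b, b ∉ q := by
    by_contra h; push Not at h; exact hq (Submodule.eq_top_iff'.2 h)
  by_cases ha' : a ∈ q
  · by_cases hb' : b ∈ p
    · exact ⟨a + b, fun h => ha (by simpa using p.sub_mem h hb'), fun h => hb (by simpa using q.sub_mem h ha')⟩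
    · exact ⟨b, hb', hb⟩
  · exact ⟨a, ha, ha'⟩

theorem exists_scalar_mod {A : Matrix ι ι F} {S : Submodule F (ι → F)}
    (hS : Module.finrank F ↥S + 2 ≤ Fintype.card ι) (hcon : ∀ w, w ∉ S → A *ᵥ w ∈ S ⊔ F ∙ w) :
    ∃ c : F, ∀ x, A *ᵥ x - c • x ∈ S := by
  have hinv : ∀ s ∈ S, A *ᵥ s ∈ S := by
    intro s hs
    obtain ⟨w, hw⟩ := exists_not_mem (S := S) (by omega)
    obtain ⟨w', hw'⟩ := exists_not_mem (S := S ⊔ F ∙ w) (by rw [finrank_sup_single hw]; omega)
    have key : ∀ v, v ∉ S → A *ᵥ s ∈ S ⊔ F ∙ v := by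
      intro v hv
      have hvs : v + s ∉ S := fun h => hv (by simpa using S.sub_mem h hs)
      have hsup : S ⊔ F ∙ (v + s) ≤ S ⊔ F ∙ v := sup_le le_sup_left ((Submodule.span_singleton_le_iff_mem _ _).2
        (Submodule.add_mem _ (Submodule.mem_sup_right (Submodule.mem_span_singleton_self v)) (Submodule.mem_sup_left hs)))
      have := Submodule.sub_mem _ (hsup (hcon (v + s) hvs)) (hcon v hv)
      rwa [mulVec_add, add_sub_cancel_left] at this
    have hwS : w' ∉ S := fun h => hw' (Submodule.mem_sup_left h)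
    obtain ⟨a, ha, p, hp, e1⟩ := Submodule.mem_sup.1 (key w hw)
    obtain ⟨b, hb, p', hp', e2⟩ := Submodule.mem_sup.1 (key w' hwS)
    obtain ⟨t, rfl⟩ := Submodule.mem_span_singleton.1 hp
    obtain ⟨t', rfl⟩ := Submodule.mem_span_singleton.1 hp'
    rcases eq_or_ne t' 0 with rfl | ht
    · rw [← e2, zero_smul, add_zero]; exact hb
    refine absurd ?_ hw'
    have e : w' = t'⁻¹ • (a - b) + t'⁻¹ • (t • w) := by
      rw [← smul_add, eq_inv_smul_iff₀ ht, sub_add_eq_add_sub, e1, ← e2, add_sub_cancel_left]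
    rw [e]
    exact Submodule.add_mem _ (Submodule.mem_sup_left (S.smul_mem _ (S.sub_mem ha hb)))
      (Submodule.smul_mem _ _ (Submodule.mem_sup_right (Submodule.smul_mem _ _ (Submodule.mem_span_singleton_self w))))
  have hcoef : ∀ w, w ∉ S → ∃ c : F, A *ᵥ w - c • w ∈ S := fun w hw => by
    obtain ⟨s, hs, y, hy, e⟩ := Submodule.mem_sup.1 (hcon w hw)
    obtain ⟨c, rfl⟩ := Submodule.mem_span_singleton.1 hy
    exact ⟨c, by rw [← e, add_sub_cancel_right]; exact hs⟩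
  obtain ⟨w, hw⟩ := exists_not_mem (S := S) (by omega)
  obtain ⟨c, hc⟩ := hcoef w hw
  refine ⟨c, fun x => ?_⟩
  by_cases hx : x ∈ S ⊔ F ∙ w
  · obtain ⟨s, hs, y, hy, rfl⟩ := Submodule.mem_sup.1 hx
    obtain ⟨t, rfl⟩ := Submodule.mem_span_singleton.1 hy
    have := S.add_mem (S.sub_mem (hinv s hs) (S.smul_mem c hs)) (S.smul_mem t hc)
    convert this using 1
    rw [mulVec_add, mulVec_smul]; module
  obtain ⟨d, hd⟩ := hcoef x fun h => hx (Submodule.mem_sup_left h)
  have hwx : w + x ∉ S := fun h => hx (by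
    have := Submodule.sub_mem (S ⊔ F ∙ w) (Submodule.mem_sup_left h) (Submodule.mem_sup_right (Submodule.mem_span_singleton_self w))
    simpa using this)
  obtain ⟨e, he⟩ := hcoef (w + x) hwx
  have key : (e - c) • w + (e - d) • x ∈ S := by
    have := S.sub_mem (S.add_mem hc hd) he
    convert this using 1
    rw [mulVec_add]; module
  have hed : e = d := by
    by_contra hne
    refine hx ?_
    have := Submodule.smul_mem (S ⊔ F ∙ w) (e - d)⁻¹ (Submodule.sub_mem _ (Submodule.mem_sup_left key)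
      (Submodule.mem_sup_right (Submodule.smul_mem _ (e - c) (Submodule.mem_span_singleton_self w))))
    simpa [smul_smul, sub_ne_zero.2 hne] using this
  rw [hed, sub_self, zero_smul, add_zero] at key
  rcases eq_or_ne d c with rfl | hne
  · exact hd
  · exact absurd (by simpa [smul_smul, sub_ne_zero.2 hne] using S.smul_mem (d - c)⁻¹ key) hw

/-- Two vectors with independent images. -/
theorem exists_w2 {A : Matrix ι ι F} (hA : Two A) (h : Fintype.card ι = 4) :
    ∃ v w : ι → F, LinearIndependent F ![v, w, A *ᵥ v, A *ᵥ w] := by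
  obtain ⟨v, hv⟩ := hA.nonScalar.exists_vec
  have hli := indep_of_vec hv
  obtain ⟨S, hS⟩ : ∃ S, S = Submodule.span F (Set.range ![v, A *ᵥ v]) := ⟨_, rfl⟩
  have hrk : Module.finrank F ↥S = 2 := by rw [hS, finrank_span_eq_card hli]; simp
  by_cases hgrow : ∃ w, w ∉ S ∧ A *ᵥ w ∉ S ⊔ F ∙ w
  · obtain ⟨w, hw, hAw⟩ := hgrow
    have h3 : LinearIndependent F (Fin.snoc ![v, A *ᵥ v] w : Fin 3 → ι → F) :=
      linearIndependent_finSnoc.2 ⟨hli, hS ▸ hw⟩
    have h4 : LinearIndependent F (Fin.snoc (Fin.snoc ![v, A *ᵥ v] w : Fin 3 → ι → F) (A *ᵥ w) : Fin 4 → ι → F) := by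
      refine linearIndependent_finSnoc.2 ⟨h3, fun hm => hAw ?_⟩
      refine (Submodule.span_le.2 ?_ : _ ≤ S ⊔ F ∙ w) hm
      rintro _ ⟨i, rfl⟩
      refine Fin.lastCases ?_ ?_ i
      · simp only [Fin.snoc_last]; exact Submodule.mem_sup_right (Submodule.mem_span_singleton_self w)
      · intro i; simp only [Fin.snoc_castSucc]; exact Submodule.mem_sup_left (hS ▸ Submodule.subset_span ⟨i, rfl⟩)
    refine ⟨v, w, ?_⟩
    convert h4.comp (![0, 2, 1, 3] : Fin 4 → Fin 4) (by decide) using 1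
    funext i; fin_cases i <;> simp [Fin.snoc]
  push Not at hgrow
  obtain ⟨c, hc⟩ := exists_scalar_mod (by omega) hgrow
  obtain ⟨N, hN⟩ : ∃ N : Matrix ι ι F, N = A - c • 1 := ⟨_, rfl⟩
  have hNx : ∀ x, N *ᵥ x = A *ᵥ x - c • x := fun x => by rw [hN, sub_mulVec, smul_mulVec, one_mulVec]
  have hline : ∀ u : ι → F, Submodule.comap (Matrix.toLin' N) (F ∙ u) ≠ ⊤ := by
    intro u htop
    have hcol : ∀ i, ∃ a : F, a • u = N *ᵥ Pi.single i 1 := fun i => Submodule.mem_span_singleton.1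
      (by have := (Submodule.eq_top_iff'.1 htop) (Pi.single i 1); simpa using this)
    choose φ hφ using hcol
    refine hA c u φ (hN ▸ Matrix.ext fun i j => ?_)
    have := congrFun (hφ j) i
    simpa [vecMulVec_apply, mul_comm] using this.symm
  have hStop : S ≠ ⊤ := fun h' => by rw [h', finrank_top, Module.finrank_pi] at hrk; omega
  obtain ⟨x, hxS, hxK⟩ := exists_two_not_mem hStop (hline 0)
  have hSx : S ⊔ F ∙ x ≠ ⊤ := fun h' => by
    have := finrank_sup_single (S := S) hxS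
    rw [h', finrank_top, Module.finrank_pi] at this; omega
  obtain ⟨y, hyS, hyB⟩ := exists_two_not_mem hSx (hline (N *ᵥ x))
  refine ⟨x, y, ?_⟩
  rw [Fintype.linearIndependent_iff]
  intro g hg
  simp [Fin.sum_univ_four] at hg
  have hNmem : ∀ z, N *ᵥ z ∈ S := fun z => by rw [hNx]; exact hc z
  have hg' : (g 0 + c * g 2) • x + (g 1 + c * g 3) • y + (g 2 • (N *ᵥ x) + g 3 • (N *ᵥ y)) = 0 := by
    rw [← hg, hNx, hNx]; module
  have hmem : (g 0 + c * g 2) • x + (g 1 + c * g 3) • y ∈ S := by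
    rw [eq_neg_of_add_eq_zero_left hg']
    exact S.neg_mem (S.add_mem (S.smul_mem _ (hNmem x)) (S.smul_mem _ (hNmem y)))
  have e1 : g 1 + c * g 3 = 0 := by
    by_contra hne
    refine hyS ?_
    have := Submodule.smul_mem (S ⊔ F ∙ x) (g 1 + c * g 3)⁻¹ (Submodule.sub_mem _ (Submodule.mem_sup_left hmem)
      (Submodule.mem_sup_right (Submodule.smul_mem _ (g 0 + c * g 2) (Submodule.mem_span_singleton_self x))))
    simpa [smul_smul, hne] using this
  rw [e1, zero_smul, add_zero] at hmem hg'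
  have e0 : g 0 + c * g 2 = 0 := by
    by_contra hne
    exact hxS (by simpa [smul_smul, hne] using S.smul_mem (g 0 + c * g 2)⁻¹ hmem)
  rw [e0, zero_smul, zero_add] at hg'
  have e3 : g 3 = 0 := by
    by_contra hne
    refine hyB ?_
    simp only [Submodule.mem_comap, Matrix.toLin'_apply]
    refine Submodule.mem_span_singleton.2 ⟨-(g 3)⁻¹ * g 2, ?_⟩
    have := congrArg ((g 3)⁻¹ • ·) (eq_neg_of_add_eq_zero_right hg')
    simp only [smul_smul, inv_mul_cancel₀ hne, one_smul, smul_neg] at this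
    rw [this, neg_mul, neg_smul]
  rw [e3, zero_smul, add_zero] at hg'
  have e2 : g 2 = 0 := (smul_eq_zero.1 hg').resolve_right fun h0 => hxK (by simp [h0])
  intro i
  fin_cases i
  · simpa [e2] using e0
  · simpa [e3] using e1
  · exact e2
  · exact e3

/-- The index in dimension four. -/
abbrev I4 : Type := Fin 2 ⊕ Fin 2

theorem exists_frame_four {A : Matrix I4 I4 F} (hA : Two A) :
    ∃ (Q : Matrix I4 I4 F) (X Y : Matrix (Fin 2) (Fin 2) F), IsUnit Q.det ∧ Q⁻¹ * A * Q = fromBlocks 0 X 1 Y := by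
  obtain ⟨v, w, hli⟩ := exists_w2 hA (by simp)
  obtain ⟨Q, hQ⟩ : ∃ Q : Matrix I4 I4 F,
      Q = Matrix.of fun i j => Sum.elim ![v, w] ![A *ᵥ v, A *ᵥ w] j i := ⟨_, rfl⟩
  have hQu : IsUnit Q.det := by
    rw [← Matrix.isUnit_iff_isUnit_det, ← linearIndependent_cols_iff_isUnit]
    convert hli.comp (Sum.elim ![0, 1] ![2, 3] : I4 → Fin 4) (by decide) using 1
    funext j i
    rcases j with j | j <;> fin_cases j <;> simp [hQ]
  obtain ⟨N, hN⟩ : ∃ N, N = Q⁻¹ * A * Q := ⟨_, rfl⟩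
  have hcol : ∀ j : Fin 2, N *ᵥ Pi.single (.inl j) 1 = Pi.single (.inr j) 1 := by
    intro j
    have e : A *ᵥ (Q *ᵥ Pi.single (.inl j) 1) = Q *ᵥ Pi.single (.inr j) 1 := by
      have h1 : ∀ k, Q *ᵥ Pi.single k 1 = Sum.elim ![v, w] ![A *ᵥ v, A *ᵥ w] k := fun k => by funext i; simp [hQ]
      rw [h1, h1]
      fin_cases j <;> simp
    rw [hN, ← mulVec_mulVec, ← mulVec_mulVec, e, mulVec_mulVec, nonsing_inv_mul _ hQu, one_mulVec]
  refine ⟨Q, N.toBlocks₁₂, N.toBlocks₂₂, hQu, hN ▸ ?_⟩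
  ext (i | i) (j | j)
  · simpa using congrFun (hcol j) (.inl i)
  · simp [hN, toBlocks₁₂]
  · simpa [Matrix.one_apply, Pi.single_apply] using congrFun (hcol j) (.inr i)
  · simp [hN, toBlocks₂₂]

theorem NoRoot.sep {s D : F} (h : NoRoot s D) : s ^ 2 - 4 * D ≠ 0 := by
  intro h0
  rcases two_eq_zero_or_odd (F := F) with h2 | ⟨-, h2⟩
  · obtain ⟨x, hx⟩ := exists_sqrt_of_two (a := D) h2
    have hs : s = 0 := by
      have : s * s = 0 := by linear_combination h0 + (2 * D) * h2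
      exact mul_self_eq_zero.1 this
    exact h x (by rw [hx, hs]; linear_combination D * h2)
  · exact h (s / 2) (by field_simp; linear_combination -h0)

theorem NoRoot.det_ne {s D : F} (h : NoRoot s D) : D ≠ 0 := fun h0 => h 0 (by simp [h0])

theorem two_noEig {T : Matrix (Fin 2) (Fin 2) F} (h : NoRoot T.trace T.det) (c : F) : (T - c • 1).det ≠ 0 := by
  intro h0
  refine h c ?_
  rw [det_fin_two] at h0 ⊢
  rw [trace_fin_two]
  simp at h0
  linear_combination h0

/-- Irreducible blocks of different characteristic polynomial give a cyclic matrix. -/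
theorem cyclic_pair {T V : Matrix (Fin 2) (Fin 2) F} (E : Matrix (Fin 2) (Fin 2) F) (hT : NoRoot T.trace T.det)
    (hV : NoRoot V.trace V.det) (hne : T.charpoly ≠ V.charpoly) : Cyclic (fromBlocks T 0 E V) := by
  classical
  have hTn := hT.nonScalar rfl rfl
  obtain ⟨x₁, hx₁⟩ := cyclic_two hTn
  have huniq : ∀ D : Matrix (Fin 2) (Fin 2) F, V * D = D * T → D = 0 := by
    intro D hD
    by_cases hu : IsUnit D.det
    · exact absurd (GCls.charpoly_eq (A := T) (X := V) ⟨D, hu, hD⟩).symm hne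
    have h0 : D.det = 0 := by simpa [isUnit_iff_ne_zero] using hu
    obtain ⟨p, hp, hDp⟩ := exists_mulVec_eq_zero_iff.2 h0
    have hDTp : D *ᵥ (T *ᵥ p) = 0 := by rw [mulVec_mulVec, ← hD, ← mulVec_mulVec, hDp, mulVec_zero]
    have hli : LinearIndependent F ![p, T *ᵥ p] := indep_of_vec fun c hc =>
      two_noEig hT c (exists_mulVec_eq_zero_iff.1 ⟨p, hp, by simp [sub_mulVec, smul_mulVec, hc]⟩)
    have htop : Submodule.span F (Set.range ![p, T *ᵥ p]) = ⊤ := hli.span_eq_top_of_card_eq_finrank (by simp)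
    have hker : Submodule.span F (Set.range ![p, T *ᵥ p]) ≤ LinearMap.ker (Matrix.toLin' D) := by
      rw [Submodule.span_le]
      rintro _ ⟨i, rfl⟩
      fin_cases i
      · exact LinearMap.mem_ker.2 hDp
      · exact LinearMap.mem_ker.2 hDTp
    refine Matrix.ext_of_mulVec_single fun i => ?_
    have e : D *ᵥ Pi.single i 1 = 0 := hker (htop ▸ Submodule.mem_top (x := Pi.single i 1))
    rw [e, zero_mulVec]
  obtain ⟨x₂, hx₂⟩ : ∃ x₂ : Fin 2 → F, ∀ S : Matrix (Fin 2) (Fin 2) F, E + V * S = S * T → x₂ ≠ S *ᵥ x₁ := by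
    by_cases hex : ∃ S : Matrix (Fin 2) (Fin 2) F, E + V * S = S * T
    · obtain ⟨S, hS⟩ := hex
      refine ⟨S *ᵥ x₁ + Pi.single 0 1, fun S' hS' h => ?_⟩
      have : S - S' = 0 := huniq _ (by rw [Matrix.mul_sub, Matrix.sub_mul, ← hS, ← hS']; abel)
      rw [sub_eq_zero] at this
      rw [this, add_eq_left] at h
      simpa using congrFun h 0
    · exact ⟨0, fun S hS => absurd ⟨S, hS⟩ hex⟩
  refine ⟨Sum.elim x₁ x₂, fun W hW hinv => ?_⟩
  have hmul : ∀ (p y : Fin 2 → F), fromBlocks T 0 E V *ᵥ Sum.elim p y = Sum.elim (T *ᵥ p) (E *ᵥ p + V *ᵥ y) :=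
    fun p y => by rw [fromBlocks_mulVec]; simp
  have hsplit : ∀ w : I4 → F, Sum.elim (w ∘ Sum.inl) (w ∘ Sum.inr) = w := Sum.elim_comp_inl_inr
  have htop1 : W.map (LinearMap.funLeft F F (Sum.inl : Fin 2 → I4)) = ⊤ := by
    refine hx₁ _ ⟨_, hW, by funext i; simp [LinearMap.funLeft]⟩ fun y hy => ?_
    obtain ⟨w, hw, rfl⟩ := hy
    refine ⟨_, hinv w hw, ?_⟩
    conv_lhs => rw [← hsplit w, hmul]
    rfl
  have hproj : ∀ p : Fin 2 → F, ∃ y, Sum.elim p y ∈ W := fun p => by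
    obtain ⟨w, hw, rfl⟩ : p ∈ W.map (LinearMap.funLeft F F (Sum.inl : Fin 2 → I4)) := htop1 ▸ Submodule.mem_top
    exact ⟨w ∘ Sum.inr, by rw [show Sum.elim (LinearMap.funLeft F F Sum.inl w) (w ∘ Sum.inr) = w from hsplit w]; exact hw⟩
  by_cases hbot : ∃ y : Fin 2 → F, y ≠ 0 ∧ Sum.elim (0 : Fin 2 → F) y ∈ W
  · obtain ⟨y, hy0, hy⟩ := hbot
    have hy' : Sum.elim (0 : Fin 2 → F) (V *ᵥ y) ∈ W := by
      have := hinv _ hy
      rw [hmul] at this
      simpa using this
    have hli : LinearIndependent F ![y, V *ᵥ y] := indep_of_vec fun c hc =>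
      two_noEig hV c (exists_mulVec_eq_zero_iff.1 ⟨y, hy0, by simp [sub_mulVec, smul_mulVec, hc]⟩)
    have htop : Submodule.span F (Set.range ![y, V *ᵥ y]) = ⊤ := hli.span_eq_top_of_card_eq_finrank (by simp)
    refine Submodule.eq_top_iff'.2 fun w => ?_
    obtain ⟨z, hz⟩ := hproj (w ∘ Sum.inl)
    have hall : ∀ r : Fin 2 → F, Sum.elim (0 : Fin 2 → F) r ∈ W := by
      intro r
      obtain ⟨g, hg⟩ := (Submodule.mem_span_range_iff_exists_fun F).1 (htop ▸ Submodule.mem_top (x := r))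
      have := W.add_mem (W.smul_mem (g 0) hy) (W.smul_mem (g 1) hy')
      convert this using 1
      funext i; rcases i with i | i <;> fin_cases i <;> simp [← hg, Fin.sum_univ_two, Matrix.vecHead, Matrix.vecTail]
    have := W.add_mem hz (hall (w ∘ Sum.inr - z))
    convert this using 1
    funext i; rcases i with i | i <;> simp
  push Not at hbot
  exfalso
  choose f hf using hproj
  have huq : ∀ p y, Sum.elim p y ∈ W → y = f p := fun p y hy => by
    by_contra hne
    refine hbot (y - f p) (sub_ne_zero.2 hne) ?_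
    convert W.sub_mem hy (hf p) using 1
    funext i; rcases i with i | i <;> simp
  obtain ⟨S, hS⟩ : ∃ S : Matrix (Fin 2) (Fin 2) F, ∀ p, S *ᵥ p = f p := by
    refine ⟨Matrix.of fun i j => f (Pi.single j 1) i, fun p => huq p _ ?_⟩
    have := W.add_mem (W.smul_mem (p 0) (hf (Pi.single 0 1))) (W.smul_mem (p 1) (hf (Pi.single 1 1)))
    convert this using 1
    funext i; rcases i with i | i
    · fin_cases i <;> simp
    · fin_cases i <;> simp [Matrix.mulVec, dotProduct, Fin.sum_univ_two, mul_comm]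
  refine hx₂ S (Matrix.ext_of_mulVec_single fun i => ?_) (by rw [hS]; exact huq _ _ hW)
  have h1 := hinv _ (hf (Pi.single i 1))
  rw [hmul] at h1
  have h2 := huq _ _ h1
  rw [add_mulVec, ← mulVec_mulVec, ← mulVec_mulVec, hS, hS]
  exact h2

theorem charpoly_ne_two {T V : Matrix (Fin 2) (Fin 2) F} (h : T.trace ≠ V.trace ∨ T.det ≠ V.det) :
    T.charpoly ≠ V.charpoly := by
  intro he
  rw [charpoly_fin_two, charpoly_fin_two] at he
  rcases h with h | h
  · exact h (by have := congrArg (fun p => p.coeff 1) he; simpa [coeff_X, coeff_C] using this)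
  · exact h (by have := congrArg (fun p => p.coeff 0) he; simpa [coeff_X, coeff_C] using this)

theorem charpoly_pair {T V E : Matrix (Fin 2) (Fin 2) F} :
    (fromBlocks T 0 E V).charpoly = T.charpoly * V.charpoly := charpoly_fromBlocks_zero₁₂ _ _ _

theorem cyclic_pair_upp {T V : Matrix (Fin 2) (Fin 2) F} (E : Matrix (Fin 2) (Fin 2) F) (hT : NoRoot T.trace T.det)
    (hV : NoRoot V.trace V.det) (hne : T.charpoly ≠ V.charpoly) : Cyclic (fromBlocks T E 0 V) := by
  obtain ⟨x, hx⟩ := cyclic_pair E hV hT hne.symm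
  refine ⟨x ∘ Equiv.sumComm (Fin 2) (Fin 2), ?_⟩
  have := hx.submatrix (Equiv.sumComm (Fin 2) (Fin 2))
  convert this using 1
  ext (i | i) (j | j) <;> simp [Matrix.submatrix]

theorem fullDet_pair {T V : Matrix (Fin 2) (Fin 2) F} (E : Matrix (Fin 2) (Fin 2) F) (hT : NoRoot T.trace T.det)
    (hV : NoRoot V.trace V.det) (hne : T.charpoly ≠ V.charpoly) : FullDet (fromBlocks T 0 E V) := by
  refine FullDet.gcls (A := fromBlocks T 0 0 V) ?_ (Cyclic.gcls_of_charpoly (cyclic_pair 0 hT hV hne)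
    (cyclic_pair E hT hV hne) (by rw [charpoly_pair, charpoly_pair]))
  intro t _
  obtain ⟨a, b, hab⟩ := conic hT.sep 0 0 (-t)
  refine ⟨fromBlocks (a • 1 + b • T) 0 0 1, ?_, ?_⟩
  · rw [det_fromBlocks_zero₁₂, det_one, mul_one, det_fin_two]
    rw [trace_fin_two, det_fin_two] at hab
    simp [Matrix.one_apply]
    linear_combination hab
  · rw [fromBlocks_multiply, fromBlocks_multiply]
    simp [Matrix.add_mul, Matrix.mul_add]

theorem noEig_pair {T V E : Matrix (Fin 2) (Fin 2) F} (hT : NoRoot T.trace T.det) (hV : NoRoot V.trace V.det) :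
    NoEig (fromBlocks T 0 E V) := by
  intro c
  have : fromBlocks T 0 E V - c • 1 = fromBlocks (T - c • 1) 0 E (V - c • 1) := by
    ext (i | i) (j | j) <;> simp [Matrix.one_apply]
  rw [this, det_fromBlocks_zero₁₂]
  exact mul_ne_zero (two_noEig hT c) (two_noEig hV c)

theorem exists_avoid_two (h4 : 4 ≤ Fintype.card F) {p p' : F} (hp : p ≠ 0) (hp' : p' ≠ 0) (r r' R R' : F) :
    ∃ a : F, (p * a + r) ^ 2 ≠ R ∧ (p' * a + r') ^ 2 ≠ R' := by
  classical
  have key : ∀ {p : F}, p ≠ 0 → ∀ r R : F, ((Finset.univ : Finset F).filter fun a => (p * a + r) ^ 2 = R).card ≤ 2 ∧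
      ((2 : F) = 0 → ((Finset.univ : Finset F).filter fun a => (p * a + r) ^ 2 = R).card ≤ 1) := by
    intro p hp r R
    rcases ((Finset.univ : Finset F).filter fun a => (p * a + r) ^ 2 = R).eq_empty_or_nonempty with h | ⟨a0, ha0⟩
    · simp [h]
    simp only [Finset.mem_filter, Finset.mem_univ, true_and] at ha0
    have hsub : ∀ a ∈ (Finset.univ : Finset F).filter (fun a => (p * a + r) ^ 2 = R),
        a = a0 ∨ a = (-(p * a0 + r) - r) / p := by
      intro a ha
      simp only [Finset.mem_filter, Finset.mem_univ, true_and] at ha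
      rcases sq_eq_sq_iff_eq_or_eq_neg.1 (ha.trans ha0.symm) with h | h
      · exact Or.inl (mul_left_cancel₀ hp (add_right_cancel h))
      · right; rw [eq_div_iff hp]; linear_combination h
    refine ⟨(Finset.card_le_card (t := {a0, (-(p * a0 + r) - r) / p}) fun a ha => by simpa using hsub a ha).trans
      Finset.card_le_two, fun h2 => (Finset.card_le_card (t := {a0}) fun a ha => ?_).trans (by simp)⟩
    rcases hsub a ha with h | h
    · simp [h]
    · simp only [Finset.mem_singleton, h, div_eq_iff hp]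
      linear_combination (-(p * a0) - r) * h2
  by_contra hcon
  push Not at hcon
  have hle := Finset.card_le_card (s := (Finset.univ : Finset F))
    (t := Finset.univ.filter (fun a => (p * a + r) ^ 2 = R) ∪ Finset.univ.filter fun a => (p' * a + r') ^ 2 = R')
    fun a _ => by
      simp only [Finset.mem_union, Finset.mem_filter, Finset.mem_univ, true_and]
      exact or_iff_not_imp_left.2 (hcon a)
  have hu := hle.trans (Finset.card_union_le _ _)
  rw [Finset.card_univ] at hu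
  rcases two_eq_zero_or_odd (F := F) with h2 | ⟨hodd, -⟩
  · have := (key hp r R).2 h2; have := (key hp' r' R').2 h2; omega
  · have := (key hp r R).1; have := (key hp' r' R').1; omega

/-- A conjugate of `X` whose product with `X` is separable. -/
theorem exists_sep (h4 : 4 ≤ Fintype.card F) {X : Matrix (Fin 2) (Fin 2) F} (hX : NonScalar X) (hu : IsUnit X.det) :
    ∃ C : Matrix (Fin 2) (Fin 2) F, IsUnit C.det ∧
      (X * (C * X * C⁻¹)).trace ^ 2 - 4 * (X * (C * X * C⁻¹)).det ≠ 0 := by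
  obtain ⟨t, ht⟩ : ∃ t, t = X.trace := ⟨_, rfl⟩
  obtain ⟨k, hk⟩ : ∃ k, k = X.det := ⟨_, rfl⟩
  have hk0 : k ≠ 0 := hk ▸ hu.ne_zero
  obtain ⟨X0, hX0⟩ : ∃ X0 : Matrix (Fin 2) (Fin 2) F, X0 = !![0, -k; 1, t] := ⟨_, rfl⟩
  have hX0n : NonScalar X0 := fun c hc => by
    have := congrFun (congrFun hc 1) 0
    simp [hX0] at this
  obtain ⟨P, hP, hPX⟩ := (gcls_two hX0n hX (by rw [hX0, trace_fin_two, ht]; simp [trace_fin_two])
    (by rw [hX0, det_fin_two_of, hk]; simp)).exists_conj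
  obtain ⟨w, hw1, hw2⟩ : ∃ w : F, -w ^ 2 + 2 * t * w ≠ 0 ∧ -w ^ 2 + 2 * t * w ≠ 4 * k := by
    obtain ⟨a, h1, h2⟩ := exists_avoid_two h4 (one_ne_zero (α := F)) one_ne_zero (-t) (-t) (t ^ 2) (t ^ 2 - 4 * k)
    exact ⟨a, fun h => h1 (by linear_combination -h), fun h => h2 (by linear_combination -h)⟩
  obtain ⟨X1, hX1⟩ : ∃ X1 : Matrix (Fin 2) (Fin 2) F, X1 = !![t - w, (t - w) * w - k; 1, w] := ⟨_, rfl⟩
  have hX1n : NonScalar X1 := fun c hc => by
    have := congrFun (congrFun hc 1) 0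
    simp [hX1] at this
  obtain ⟨C, hC, hCX⟩ := ((gcls_two hX hX1n (by rw [hX1, trace_fin_two_of, ← ht]; ring)
    (by rw [hX1, det_fin_two_of, ← hk]; ring)).trans (GCls.of_conj X1 hP)).exists_conj
  refine ⟨C, hC, ?_⟩
  rw [← hCX, hPX]
  have e : P * X0 * P⁻¹ * (P * X1 * P⁻¹) = P * (X0 * X1) * P⁻¹ := by
    simp only [Matrix.mul_assoc, nonsing_inv_mul_cancel_left _ _ hP]
  rw [e, trace_mul_cycle, nonsing_inv_mul _ hP, Matrix.one_mul, det_conj ((isUnit_iff_isUnit_det _).2 hP), hX0, hX1,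
    det_mul, det_fin_two_of, det_fin_two_of, trace_fin_two]
  simp [Matrix.mul_apply, Fin.sum_univ_two]
  intro h
  have : (-w ^ 2 + 2 * t * w) * (-w ^ 2 + 2 * t * w - 4 * k) = 0 := by linear_combination h
  rcases mul_eq_zero.1 this with h' | h'
  · exact hw1 h'
  · exact hw2 (by linear_combination h')

/-- The basic product of two conjugates in dimension four. -/
theorem exists_x0 (h4 : 4 ≤ Fintype.card F) {X Y : Matrix (Fin 2) (Fin 2) F} (hX : IsUnit X.det) :
    ∃ (T V E : Matrix (Fin 2) (Fin 2) F) (c0 : F), c0 ^ 2 = X.det ^ 2 ∧ NoRoot T.trace T.det ∧ NoRoot V.trace V.det ∧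
      T.charpoly ≠ V.charpoly ∧ c0 * T.trace = V.trace * T.det ∧ V.det * T.det = c0 ^ 2 ∧
      ∃ A1 A2 : Matrix I4 I4 F, SCls (fromBlocks 0 X 1 Y) A1 ∧ SCls (fromBlocks 0 X 1 Y) A2 ∧
        A1 * A2 = fromBlocks T 0 E V := by
  classical
  obtain ⟨k, hk⟩ : ∃ k, k = X.det := ⟨_, rfl⟩
  have hk0 : k ≠ 0 := hk ▸ hX.ne_zero
  -- the twisting matrix
  obtain ⟨C, c0, hC, hc0, hcN, hgood⟩ : ∃ (C : Matrix (Fin 2) (Fin 2) F) (c0 : F), IsUnit C.det ∧ c0 ^ 2 = k ^ 2 ∧
      c0 ≠ k ^ 2 * C.det ^ 2 ∧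
      ((X * (C * X * C⁻¹)).trace ^ 2 - 4 * (X * (C * X * C⁻¹)).det ≠ 0 ∨ ∃ x : F, X = x • 1 ∧ c0 = x ^ 2) := by
    by_cases hXn : NonScalar X
    · obtain ⟨C, hC, hsep⟩ := exists_sep h4 hXn hX
      by_cases h1 : k = k ^ 2 * C.det ^ 2
      · rcases two_eq_zero_or_odd (F := F) with h2 | ⟨-, h2⟩
        · obtain ⟨t, ht⟩ : ∃ t : F, t ∉ ({0, 1} : Finset F) := by
            by_contra hcon
            push Not at hcon
            have := Finset.card_le_card (fun x _ => hcon x : (Finset.univ : Finset F) ⊆ {0, 1})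
            have := Finset.card_le_two (a := (0 : F)) (b := 1)
            simp only [Finset.card_univ] at *
            omega
          simp at ht
          have hti : (t • C)⁻¹ = t⁻¹ • C⁻¹ := by
            refine inv_eq_right_inv ?_
            rw [Matrix.smul_mul, Matrix.mul_smul, mul_nonsing_inv _ hC, smul_smul, mul_inv_cancel₀ ht.1, one_smul]
          refine ⟨t • C, k, ?_, rfl, ?_, Or.inl ?_⟩
          · rw [det_smul]; exact (isUnit_iff_ne_zero.2 (pow_ne_zero _ ht.1)).mul hC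
          · rw [det_smul, Fintype.card_fin]
            intro he
            refine ht.2 ?_
            have h3 : (k * (t ^ 2 * C.det) ^ 2 - k * C.det ^ 2) * k = 0 := by linear_combination h1 - he
            have h4' : (k * C.det ^ 2) * ((t ^ 4 - 1) * k) = 0 := by linear_combination h3
            have hd := hC.ne_zero
            simp [hk0, hd] at h4'
            have h5 : (t - 1) * (t - 1) * ((t - 1) * (t - 1)) = 0 := by
              linear_combination h4' + (-2 * t ^ 3 + 3 * t ^ 2 - 2 * t + 1) * h2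
            simpa [sub_eq_zero] using h5
          · rwa [hti, Matrix.smul_mul, Matrix.mul_smul, Matrix.smul_mul, smul_smul, inv_mul_cancel₀ ht.1, one_smul]
        · refine ⟨C, -k, hC, by ring, fun h => ?_, Or.inl hsep⟩
          have : (2 : F) * k = 0 := by linear_combination h1 - h
          simp [hk0, h2] at this
      · exact ⟨C, k, hC, rfl, h1, Or.inl hsep⟩
    · obtain ⟨x, hx⟩ : ∃ x : F, X = x • 1 := by simpa [NonScalar] using hXn
      have hkx : k = x ^ 2 := by rw [hk, hx, det_smul, det_one, mul_one, Fintype.card_fin]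
      obtain ⟨t, ht, -⟩ := exists_avoid_two h4 (p := x) (p' := 1) (fun h => hk0 (by rw [hkx, h]; ring)) one_ne_zero 0 0 1 0
      rcases eq_or_ne t 0 with rfl | ht0
      · obtain ⟨u, hu⟩ : ∃ u : F, u ∉ ({0, x⁻¹, -x⁻¹} : Finset F) := by
          by_contra hcon
          push Not at hcon
          have := Finset.card_le_card (fun a _ => hcon a : (Finset.univ : Finset F) ⊆ {0, x⁻¹, -x⁻¹})
          have := Finset.card_le_three (a := (0 : F)) (b := x⁻¹) (c := -x⁻¹)
          simp only [Finset.card_univ] at *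
          omega
        simp at hu
        refine ⟨diagonal ![u, 1], k, by simp [det_diagonal, hu.1], rfl, ?_, Or.inr ⟨x, hx, hkx⟩⟩
        rw [det_diagonal, Fin.prod_univ_two]
        simp
        intro he
        have h1 : (x * u) ^ 2 = 1 := by
          rw [hkx] at he
          have hx2 : x ^ 2 ≠ 0 := hkx ▸ hk0
          exact mul_left_cancel₀ hx2 (by linear_combination -he)
        have hx0 : x ≠ 0 := fun h => by simp [h] at h1
        rcases sq_eq_one_iff.1 h1 with h | h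
        · exact hu.2.1 (eq_inv_of_mul_eq_one_right h)
        · exact hu.2.2 (by field_simp; linear_combination h)
      · refine ⟨diagonal ![t, 1], k, by simp [det_diagonal, ht0], rfl, ?_, Or.inr ⟨x, hx, hkx⟩⟩
        rw [det_diagonal, Fin.prod_univ_two]
        simp
        intro he
        refine ht ?_
        rw [hkx] at he
        exact mul_left_cancel₀ (hkx ▸ hk0) (by linear_combination -he)
  obtain ⟨N, hN⟩ : ∃ N : F, N = (C.det ^ 2)⁻¹ := ⟨_, rfl⟩
  have hCd := hC.ne_zero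
  have hN0 : N ≠ 0 := by rw [hN]; exact inv_ne_zero (pow_ne_zero _ hCd)
  obtain ⟨s, hs0, hs⟩ := exists_irred h4 hN0 0
  have hc00 : c0 ≠ 0 := fun h => hk0 (by simpa [h] using hc0.symm)
  -- classes
  obtain ⟨V0, hV0⟩ : ∃ V0 : Matrix (Fin 2) (Fin 2) F, V0 = !![0, -N; 1, s] := ⟨_, rfl⟩
  have hV0t : V0.trace = s := by rw [hV0, trace_fin_two_of]; ring
  have hV0d : V0.det = N := by rw [hV0, det_fin_two_of]; ring
  obtain ⟨T0, hT0⟩ : ∃ T0 : Matrix (Fin 2) (Fin 2) F, T0 = !![0, -(c0 ^ 2 / N); 1, s * c0 / N] := ⟨_, rfl⟩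
  have hT0t : T0.trace = s * c0 / N := by rw [hT0, trace_fin_two_of]; ring
  have hT0d : T0.det = c0 ^ 2 / N := by rw [hT0, det_fin_two_of]; ring
  have hT0r : NoRoot T0.trace T0.det := by
    rw [hT0t, hT0d]
    intro x hx
    have hx0 : x ≠ 0 := fun h => by simp [h, hc00, hN0] at hx
    refine hs (c0 / x) ?_
    field_simp at hx ⊢
    linear_combination hx
  have hne : s * c0 / N ≠ s := by
    intro h
    refine hcN ?_
    rw [div_eq_iff hN0] at h
    rw [← hc0, mul_left_cancel₀ hs0 h, hN]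
    field_simp
  -- splitting the twisted square
  obtain ⟨G, hG⟩ : ∃ G, G = X * (C * X * C⁻¹) := ⟨_, rfl⟩
  have hGd : G.det = k * k := by rw [hG, det_mul, det_conj ((isUnit_iff_isUnit_det _).2 hC), hk]
  obtain ⟨T, V, hT, hV, hTV⟩ : ∃ T V, GCls T0 T ∧ GCls V0 V ∧ T * V = G := by
    rcases hgood with hsep | ⟨x, hx, hcx⟩
    · exact prod_two (hG ▸ hsep) hT0r (by rw [hV0t, hV0d]; exact hs)
        (by rw [hGd, hT0d, hV0d, div_mul_cancel₀ _ hN0, hc0]; ring)
    · have hV0u : IsUnit V0.det := by rw [hV0d]; exact isUnit_iff_ne_zero.2 hN0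
      have hGs : G = (x ^ 2) • 1 := by
        rw [hG, hx]
        simp [smul_smul, sq, mul_nonsing_inv _ hC]
      refine ⟨(x ^ 2) • V0⁻¹, V0, ?_, GCls.refl _, ?_⟩
      · refine gcls_two (hT0r.nonScalar rfl rfl) (hT0r.nonScalar ?_ ?_) ?_ ?_
        all_goals rw [inv_def, adjugate_fin_two, hV0d, Ring.inverse_eq_inv', hV0, ← hcx]
        all_goals simp [hT0t, hT0d, trace_fin_two, det_fin_two]
        all_goals field_simp
      · rw [hGs, Matrix.smul_mul, nonsing_inv_mul _ hV0u]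
  have hTt : T.trace = s * c0 / N := by
    have := congrArg (fun p => p.coeff 1) hT.charpoly_eq
    simp [charpoly_fin_two, coeff_X, coeff_C] at this
    rw [this, hT0t]
  have hVt : V.trace = s := by
    have := congrArg (fun p => p.coeff 1) hV.charpoly_eq
    simp [charpoly_fin_two, coeff_X, coeff_C] at this
    rw [this, hV0t]
  have hTd : T.det = c0 ^ 2 / N := hT.det_eq.trans hT0d
  have hVd : V.det = N := hV.det_eq.trans hV0d
  have hVu : IsUnit V.det := by rw [hVd]; exact isUnit_iff_ne_zero.2 hN0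
  refine ⟨T, V, V * C * Y * (-(C⁻¹ * V⁻¹)) * (-1) + Y * (-C) * X * (-(C⁻¹ * V⁻¹)), c0, hk ▸ hc0, by rwa [hTt, hTd, ← hT0t, ← hT0d],
    by rwa [hVt, hVd], charpoly_ne_two (Or.inl (by rw [hTt, hVt]; exact hne)), ?_, ?_, ?_⟩
  · rw [hTt, hVt, hTd]; ring
  · rw [hTd, hVd, mul_div_cancel₀ _ hN0]
  -- the two conjugates
  obtain ⟨J, hJ⟩ : ∃ J : Matrix I4 I4 F, J = fromBlocks 0 1 (-1) 0 := ⟨_, rfl⟩
  have hJd : J.det = 1 := by
    have e : J = fromBlocks 1 1 0 1 * fromBlocks 1 0 (-1) 1 * fromBlocks 1 1 0 1 := by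
      rw [hJ, fromBlocks_multiply, fromBlocks_multiply]; simp
    rw [e, det_mul, det_mul, det_fromBlocks_zero₂₁, det_fromBlocks_zero₁₂]; simp
  obtain ⟨K, hK⟩ : ∃ K : Matrix I4 I4 F, K = fromBlocks (-(V * C)) 0 0 C := ⟨_, rfl⟩
  have hKd : K.det = 1 := by
    rw [hK, det_fromBlocks_zero₁₂, det_neg, Fintype.card_fin, det_mul, hVd, hN]
    field_simp
  obtain ⟨A2, hA2⟩ : ∃ A2 : Matrix I4 I4 F,
      A2 = fromBlocks (V * C * Y * (C⁻¹ * V⁻¹)) (V) (C * X * (C⁻¹ * V⁻¹)) 0 := ⟨_, rfl⟩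
  refine ⟨fromBlocks 0 X 1 Y, A2, SCls.refl _, ⟨K * J, by rw [det_mul, hKd, hJd, one_mul], ?_⟩, ?_⟩
  · rw [hA2, hK, hJ, fromBlocks_multiply, fromBlocks_multiply, fromBlocks_multiply]
    simp [Matrix.mul_assoc, nonsing_inv_mul_cancel_left _ _ hC, mul_nonsing_inv_cancel_left _ _ hVu,
      nonsing_inv_mul_cancel_left _ _ hVu, nonsing_inv_mul _ hC, mul_nonsing_inv _ hC]
  · rw [hA2, fromBlocks_multiply, fromBlocks_inj]
    have e : X * (C * X * (C⁻¹ * V⁻¹)) = T := by
      rw [← Matrix.mul_assoc (C * X), ← Matrix.mul_assoc X, ← hG, ← hTV, Matrix.mul_assoc, mul_nonsing_inv _ hVu,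
        Matrix.mul_one]
    refine ⟨by simp [e], by simp, ?_, by simp⟩
    simp [Matrix.mul_assoc]

theorem det_one_add_vec (x φ : ι → F) : (1 + Matrix.vecMulVec x φ).det = 1 + φ ⬝ᵥ x := by
  rw [vecMulVec_eq Unit, det_one_add_replicateCol_mul_replicateRow]

theorem ker_dot_ne_top {φ : ι → F} (hφ : φ ≠ 0) : LinearMap.ker (dotProductBilin F F φ) ≠ ⊤ := fun h => hφ
  (dotProduct_eq_zero _ fun v => by
    have hv : v ∈ LinearMap.ker (dotProductBilin F F φ) := h ▸ Submodule.mem_top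
    simpa using hv)

theorem gcls_rankone (hι : 2 ≤ Fintype.card ι) (c : F) {u φ u' φ' : ι → F} (hu : u ≠ 0) (hu' : u' ≠ 0) (hφ : φ ≠ 0)
    (hφ' : φ' ≠ 0) (he : φ ⬝ᵥ u = φ' ⬝ᵥ u') :
    GCls (c • 1 + Matrix.vecMulVec u φ) (c • 1 + Matrix.vecMulVec u' φ') := by
  obtain ⟨i, j, hij⟩ := Fintype.exists_pair_of_one_lt_card (α := ι) (by omega)
  obtain ⟨P₁, hP₁, p₁⟩ := exists_col hij hu
  obtain ⟨P₂, hP₂, p₂⟩ := exists_col hij hu'
  obtain ⟨P₀, hP₀⟩ : ∃ P₀, P₀ = P₂ * P₁⁻¹ := ⟨_, rfl⟩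
  have hP₀u : IsUnit P₀.det := by rw [hP₀, det_mul]; exact hP₂.mul (isUnit_nonsing_inv_det _ hP₁)
  have h0 : P₀ *ᵥ u = u' := by
    rw [hP₀, ← p₁, mulVec_mulVec, Matrix.mul_assoc, nonsing_inv_mul _ hP₁, Matrix.mul_one, p₂]
  have hφ₁ : φ' ᵥ* P₀ ≠ 0 := fun h => hφ' (by
    simpa [vecMul_vecMul, mul_nonsing_inv _ hP₀u] using congrArg (· ᵥ* P₀⁻¹) h)
  have hφ₁u : (φ' ᵥ* P₀) ⬝ᵥ u = φ ⬝ᵥ u := by rw [← dotProduct_mulVec, h0, he]
  obtain ⟨w, hw1, hw2⟩ := exists_two_not_mem (ker_dot_ne_top hφ₁) (ker_dot_ne_top hφ)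
  simp only [LinearMap.mem_ker, dotProductBilin_apply_apply] at hw1 hw2
  obtain ⟨ψ, hψ⟩ : ∃ ψ, ψ = φ' ᵥ* P₀ := ⟨_, rfl⟩
  rw [← hψ] at hw1 hφ₁u
  refine ⟨P₀ * (1 + Matrix.vecMulVec ((ψ ⬝ᵥ w)⁻¹ • w) (φ - ψ)), ?_, ?_⟩
  · rw [det_mul, det_one_add_vec, sub_dotProduct, dotProduct_smul, dotProduct_smul, smul_eq_mul, smul_eq_mul,
      inv_mul_cancel₀ hw1]
    exact hP₀u.mul (isUnit_iff_ne_zero.2 (by simpa using mul_ne_zero (inv_ne_zero hw1) hw2))
  · have e1 : (P₀ * (1 + Matrix.vecMulVec ((ψ ⬝ᵥ w)⁻¹ • w) (φ - ψ))) *ᵥ u = u' := by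
      rw [← mulVec_mulVec, add_mulVec, one_mulVec, vecMulVec_mulVec, sub_dotProduct, hφ₁u, sub_self]
      simp [h0]
    have e2 : φ' ᵥ* (P₀ * (1 + Matrix.vecMulVec ((ψ ⬝ᵥ w)⁻¹ • w) (φ - ψ))) = φ := by
      rw [← vecMul_vecMul, ← hψ, Matrix.vecMul_add, vecMul_one, vecMul_vecMulVec, dotProduct_smul, smul_eq_mul,
        inv_mul_cancel₀ hw1]
      simp
    generalize P₀ * (1 + Matrix.vecMulVec ((ψ ⬝ᵥ w)⁻¹ • w) (φ - ψ)) = P at e1 e2 ⊢
    rw [Matrix.add_mul, Matrix.mul_add, Matrix.smul_mul, Matrix.mul_smul, Matrix.one_mul, Matrix.mul_one,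
      vecMulVec_mul, e2, mul_vecMulVec, e1]

theorem CycV.smul_mat {T : Matrix ι ι F} {x : ι → F} {c : F} (hc : c ≠ 0) (h : CycV T x) : CycV (c • T) x :=
  fun W hW hinv => h W hW fun y hy => by
    have := W.smul_mem c⁻¹ (hinv y hy)
    rwa [smul_mulVec, smul_smul, inv_mul_cancel₀ hc, one_smul] at this

theorem CycV.update {M : Matrix ι ι F} {w : ι → F} (h : CycV M w) (φ : ι → F) :
    CycV (M + Matrix.vecMulVec w φ) w := fun W hW hinv => h W hW fun y hy => by
  have := W.sub_mem (hinv y hy) (W.smul_mem (φ ⬝ᵥ y) hW)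
  convert this using 1
  rw [add_mulVec, vecMulVec_mulVec, op_smul_eq_smul, add_sub_cancel_right]

/-- A rank one change reaches every characteristic polynomial with the right constant term. -/
theorem exists_update {M : Matrix ι ι F} {w : ι → F} (hw : CycV M w) (hM : IsUnit M.det) {n : ℕ}
    (hn : Fintype.card ι = n + 1) {f : F[X]} (hf : f.Monic) (hdeg : f.natDegree = n + 1) {e : F} (he : 1 + e ≠ 0)
    (hf0 : f.coeff 0 = (-1) ^ (n + 1) * (M.det * (1 + e))) :
    ∃ φ : ι → F, φ ⬝ᵥ (M⁻¹ *ᵥ w) = e ∧ CycV (M + Matrix.vecMulVec w φ) w ∧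
      (M + Matrix.vecMulVec w φ).charpoly = f := by
  classical
  haveI : Nonempty ι := Fintype.card_pos_iff.1 (by omega)
  obtain ⟨x, hx⟩ : ∃ x, x = M⁻¹ *ᵥ w := ⟨_, rfl⟩
  have hMx : M *ᵥ x = w := by rw [hx, mulVec_mulVec, mul_nonsing_inv _ hM, one_mulVec]
  have hx0 : x ≠ 0 := fun h => hw.ne_zero (by rw [← hMx, h, mulVec_zero])
  obtain ⟨i, hi⟩ := Function.ne_iff.1 hx0
  simp at hi
  obtain ⟨φ₀, hφ₀⟩ : ∃ φ₀ : ι → F, φ₀ ⬝ᵥ x = e := ⟨Pi.single i (e / x i), by simp [div_mul_cancel₀ _ hi]⟩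
  obtain ⟨H, hH⟩ : ∃ H : Submodule F (ι → F), ∀ δ, δ ∈ H ↔ x ⬝ᵥ δ = 0 :=
    ⟨LinearMap.ker (dotProductBilin F F x), fun δ => by simp⟩
  have hHeq : H = LinearMap.ker (dotProductBilin F F x) := Submodule.ext fun δ => by simp [hH]
  have hrank : Module.finrank F ↥H = n := by
    have h1 := LinearMap.finrank_range_add_finrank_ker (dotProductBilin F F x)
    have h2 : LinearMap.range (dotProductBilin F F x) = ⊤ := by
      refine Submodule.eq_top_iff'.2 fun t => ⟨Pi.single i (t / x i), ?_⟩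
      simp [mul_div_cancel₀ _ hi]
    rw [h2, finrank_top, Module.finrank_self, Module.finrank_pi, ← hHeq] at h1
    omega
  have hdet : ∀ δ : H, (M + Matrix.vecMulVec w (φ₀ + (δ : ι → F))).det = M.det * (1 + e) := by
    intro δ
    have e1 : M + Matrix.vecMulVec w (φ₀ + (δ : ι → F)) = M * (1 + Matrix.vecMulVec x (φ₀ + (δ : ι → F))) := by
      rw [Matrix.mul_add, Matrix.mul_one, mul_vecMulVec, hMx]
    rw [e1, det_mul, det_one_add_vec, add_dotProduct, hφ₀, dotProduct_comm (δ : ι → F), (hH _).1 δ.2, add_zero]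
  have hcard : ∀ δ : H, (M + Matrix.vecMulVec w (φ₀ + (δ : ι → F))).charpoly.natDegree = n + 1 := fun δ => by
    rw [charpoly_natDegree_eq_dim, hn]
  have h0 : ∀ δ : H, (M + Matrix.vecMulVec w (φ₀ + (δ : ι → F))).charpoly.coeff 0 = f.coeff 0 := fun δ => by
    have := det_eq_sign_charpoly_coeff (M + Matrix.vecMulVec w (φ₀ + (δ : ι → F)))
    rw [hdet, hn] at this
    rw [hf0, this, ← mul_assoc, ← pow_add]
    simp
  have hext : ∀ (p q : F[X]), p.Monic → q.Monic → p.natDegree = n + 1 → q.natDegree = n + 1 →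
      p.coeff 0 = q.coeff 0 → (∀ i : Fin n, p.coeff (i + 1) = q.coeff (i + 1)) → p = q := by
    intro p q hp hq dp dq e0 e1
    refine Polynomial.ext fun j => ?_
    rcases Nat.eq_zero_or_pos j with rfl | hj
    · exact e0
    rcases lt_trichotomy j (n + 1) with h | rfl | h
    · have := e1 ⟨j - 1, by omega⟩
      simpa [Nat.sub_add_cancel hj] using this
    · have := hp.coeff_natDegree; have := hq.coeff_natDegree; simp_all
    · rw [coeff_eq_zero_of_natDegree_lt (by omega), coeff_eq_zero_of_natDegree_lt (by omega)]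
  obtain ⟨g, hg⟩ : ∃ g : H → Fin n → F, ∀ δ i, g δ i = (M + Matrix.vecMulVec w (φ₀ + (δ : ι → F))).charpoly.coeff (i + 1) :=
    ⟨fun δ i => (M + Matrix.vecMulVec w (φ₀ + (δ : ι → F))).charpoly.coeff (i + 1), fun _ _ => rfl⟩
  have hinj : Function.Injective g := by
    intro δ δ' hgg
    by_contra hne
    have hp : (M + Matrix.vecMulVec w (φ₀ + (δ' : ι → F))).charpoly = (M + Matrix.vecMulVec w (φ₀ + (δ : ι → F))).charpoly :=
      hext _ _ (charpoly_monic _) (charpoly_monic _) (hcard _) (hcard _) (by rw [h0, h0]) fun i => by rw [← hg, ← hg, hgg]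
    obtain ⟨T, hT⟩ : ∃ T, T = M + Matrix.vecMulVec w (φ₀ + (δ : ι → F)) := ⟨_, rfl⟩
    have hTu : IsUnit T.det := by rw [hT, hdet]; exact hM.mul (isUnit_iff_ne_zero.2 he)
    have hTx : T *ᵥ x = (1 + e) • w := by
      rw [hT, add_mulVec, vecMulVec_mulVec, add_dotProduct, hφ₀, dotProduct_comm (δ : ι → F), (hH _).1 δ.2, hMx,
        op_smul_eq_smul, add_zero, add_smul, one_smul]
    have hcx : CycV T x := by
      have h1 : CycV T w := hT ▸ hw.update _
      have h2 := ((h1.inv hTu).mulVec_self (isUnit_nonsing_inv_det _ hTu)).inv (isUnit_nonsing_inv_det _ hTu)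
      rw [nonsing_inv_nonsing_inv _ hTu] at h2
      have e2 : T⁻¹ *ᵥ w = (1 + e)⁻¹ • x := by
        have := congrArg (fun v => T⁻¹ *ᵥ v) hTx
        simp only [mulVec_mulVec, nonsing_inv_mul _ hTu, one_mulVec, mulVec_smul] at this
        rw [this, smul_smul, inv_mul_cancel₀ he, one_smul]
      rw [e2] at h2
      have := h2.smul he
      rwa [smul_smul, mul_inv_cancel₀ he, one_smul] at this
    refine charpoly_ne he hcx (u := w) (δ := (δ' : ι → F) - δ) hTx ?_ ?_ ?_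
    · rw [sub_dotProduct, dotProduct_comm (δ' : ι → F), (hH _).1 δ'.2, dotProduct_comm (δ : ι → F), (hH _).1 δ.2,
        sub_zero]
    · exact sub_ne_zero.2 fun h => hne (Subtype.ext h.symm)
    · rw [← hT] at hp
      refine Eq.trans ?_ hp
      congr 1
      rw [hT]
      ext i j; simp [vecMulVec_apply]; ring
  have hbij : Function.Bijective g := by
    haveI := Fintype.ofFinite H
    refine (Fintype.bijective_iff_injective_and_card g).2 ⟨hinj, ?_⟩
    rw [Module.card_eq_pow_finrank (K := F) (V := H), hrank]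
    simp
  obtain ⟨δ, hδ⟩ := hbij.2 fun i => f.coeff (i + 1)
  refine ⟨φ₀ + (δ : ι → F), ?_, hw.update _, hext _ _ (charpoly_monic _) hf (hcard _) hdeg (h0 _) fun i => by rw [← hg, hδ]⟩
  rw [← hx, add_dotProduct, hφ₀, dotProduct_comm (δ : ι → F), (hH _).1 δ.2, add_zero]

theorem inv_two_trace {T : Matrix (Fin 2) (Fin 2) F} (c : F) : (c • T⁻¹).trace = c * T.trace / T.det := by
  rw [inv_def, Ring.inverse_eq_inv', adjugate_fin_two, trace_fin_two, trace_fin_two]
  simp
  ring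

theorem inv_two_det {T : Matrix (Fin 2) (Fin 2) F} (c : F) : (c • T⁻¹).det = c ^ 2 / T.det := by
  rw [det_smul, det_nonsing_inv, Ring.inverse_eq_inv', Fintype.card_fin]
  ring

theorem NoRoot.inv_two {T : Matrix (Fin 2) (Fin 2) F} (h : NoRoot T.trace T.det) {c : F} (hc : c ≠ 0) :
    NoRoot (c • T⁻¹).trace (c • T⁻¹).det := by
  rw [inv_two_trace, inv_two_det]
  have hd := h.det_ne
  intro x hx
  have hx0 : x ≠ 0 := fun h0 => by simp [h0, hc, hd] at hx
  refine h (c / x) ?_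
  field_simp at hx ⊢
  linear_combination hx

theorem inv_lower {T V E : Matrix (Fin 2) (Fin 2) F} (hT : IsUnit T.det) (hV : IsUnit V.det) :
    (fromBlocks T 0 E V)⁻¹ = fromBlocks T⁻¹ 0 (-(V⁻¹ * E * T⁻¹)) V⁻¹ := by
  refine inv_eq_right_inv ?_
  rw [fromBlocks_multiply, ← fromBlocks_one]
  simp [mul_nonsing_inv _ hT, mul_nonsing_inv _ hV, ← Matrix.mul_assoc, Matrix.mul_neg]

theorem NoRoot.of_gcls {T T' : Matrix (Fin 2) (Fin 2) F} (h : NoRoot T.trace T.det) (h' : GCls T T') :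
    NoRoot T'.trace T'.det := by
  have e := h'.charpoly_eq
  rw [charpoly_fin_two, charpoly_fin_two] at e
  have e1 := congrArg (fun p => p.coeff 1) e
  simp [coeff_X, coeff_C] at e1
  rwa [e1, h'.det_eq]

section Pair

variable {T V E : Matrix (Fin 2) (Fin 2) F} (hT : NoRoot T.trace T.det) (hV : NoRoot V.trace V.det)
  (hne : T.charpoly ≠ V.charpoly)

include hT hV hne

theorem pair_gcls {Z : Matrix I4 I4 F} (hZ : Cyclic Z) (he : Z.charpoly = T.charpoly * V.charpoly) :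
    GCls (fromBlocks T 0 E V) Z :=
  Cyclic.gcls_of_charpoly (cyclic_pair E hT hV hne) hZ (by rw [charpoly_pair, he])

/-- Two copies of the basic class cover the non-scalar matrices. -/
theorem pair_cover (h4 : 4 ≤ Fintype.card F) {B : Matrix I4 I4 F} (hB : NonScalar B)
    (hd : B.det = (T.det * V.det) ^ 2) :
    ∃ Z1 Z2, GCls (fromBlocks T 0 E V) Z1 ∧ GCls (fromBlocks T 0 E V) Z2 ∧ Z1 * Z2 = B := by
  classical
  have hTd := hT.det_ne
  have hVd := hV.det_ne
  have hTu : IsUnit T.det := isUnit_iff_ne_zero.2 hTd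
  have hVu : IsUnit V.det := isUnit_iff_ne_zero.2 hVd
  suffices h : ∃ (B0 Z1 Z2 : Matrix I4 I4 F), GCls B0 B ∧ GCls (fromBlocks T 0 E V) Z1 ∧
      GCls (fromBlocks T 0 E V) Z2 ∧ Z1 * Z2 = B0 by
    obtain ⟨B0, Z1, Z2, hg, h1, h2, h12⟩ := h
    obtain ⟨P, hP, rfl⟩ := hg.exists_conj
    refine ⟨P * Z1 * P⁻¹, P * Z2 * P⁻¹, h1.trans (GCls.of_conj _ hP), h2.trans (GCls.of_conj _ hP), ?_⟩
    rw [← h12]
    simp only [Matrix.mul_assoc, nonsing_inv_mul_cancel_left _ _ hP]
  by_cases hBtwo : Two B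
  · obtain ⟨Q, Xg, Yg, hQ, hfr⟩ := exists_frame_four hBtwo
    have hXg : Xg.det = (T.det * V.det) ^ 2 := by
      rw [← hd]
      have := congrArg det hfr
      rw [det_mul, det_mul, det_nonsing_inv, Ring.inverse_eq_inv', mul_comm, ← mul_assoc, mul_inv_cancel₀ hQ.ne_zero,
        one_mul] at this
      rw [this]
      have e : fromBlocks (0 : Matrix (Fin 2) (Fin 2) F) Xg 1 Yg =
          fromBlocks 1 1 0 1 * fromBlocks 1 0 (-1) 1 * fromBlocks 1 1 0 1 * fromBlocks (-1) (-Yg) 0 Xg *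
            (1 : Matrix I4 I4 F) := by
        rw [fromBlocks_multiply, fromBlocks_multiply, Matrix.mul_one, fromBlocks_multiply]; simp
      rw [e, det_mul, det_mul, det_mul, det_mul, det_one, det_fromBlocks_zero₂₁, det_fromBlocks_zero₁₂,
        det_fromBlocks_zero₂₁]
      simp [det_neg]
    have hXgd : Xg.det ≠ 0 := by rw [hXg]; exact pow_ne_zero _ (mul_ne_zero hTd hVd)
    obtain ⟨d, hd1⟩ : ∃ d, d = T.det * T.det := ⟨_, rfl⟩
    have hd0 : d ≠ 0 := hd1 ▸ mul_ne_zero hTd hTd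
    obtain ⟨G, hGd, hGs, hSs⟩ : ∃ G : Matrix (Fin 2) (Fin 2) F, G.det = d ∧ G.trace ^ 2 - 4 * G.det ≠ 0 ∧
        (-(G⁻¹ * Xg)).trace ^ 2 - 4 * (-(G⁻¹ * Xg)).det ≠ 0 := by
      by_cases h22 : Xg 1 1 = 0
      · have h10 : Xg 1 0 ≠ 0 := fun h => hXgd (by rw [det_fin_two, h22, h]; ring)
        obtain ⟨a, ha0, ha⟩ : ∃ a : F, a ≠ 0 ∧ a * a ≠ d := by
          obtain ⟨a, h1, h2⟩ := exists_avoid_two h4 (one_ne_zero (α := F)) one_ne_zero 0 0 0 d
          exact ⟨a, by simpa using h1, fun h => h2 (by linear_combination h)⟩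
        obtain ⟨b, hb, -⟩ := exists_avoid_two h4 (p := -Xg 1 0) (p' := 1) (neg_ne_zero.2 h10) one_ne_zero
          ((d / a) * Xg 0 0) 0 (4 * d * Xg.det) 0
        refine ⟨!![a, b; 0, d / a], ?_, ?_, ?_⟩
        · rw [det_fin_two_of, mul_zero, sub_zero, mul_div_cancel₀ _ ha0]
        · rw [det_fin_two_of, trace_fin_two_of]
          intro h
          refine ha ?_
          field_simp at h
          have h' : (a * a - d) * (a * a - d) = 0 := by linear_combination h
          linear_combination mul_self_eq_zero.1 h'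
        · intro h
          refine hb ?_
          rw [inv_def, adjugate_fin_two, trace_fin_two, det_neg, det_mul, det_smul, det_fin_two_of,
            det_fin_two_of, Ring.inverse_eq_inv', mul_div_cancel₀ _ ha0] at h
          simp [Matrix.mul_apply, Fin.sum_univ_two, Matrix.trace_fin_two, Matrix.vecMul, dotProduct, h22] at h
          field_simp at h ⊢
          linear_combination h
      · obtain ⟨a, ha, hb⟩ := exists_avoid_two h4 (p := 1) (p' := Xg 1 1) one_ne_zero h22 0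
          (-(Xg 1 0) + d * Xg 0 1) (4 * d) (4 * d * Xg.det)
        refine ⟨!![a, 1; -d, 0], ?_, ?_, ?_⟩
        · rw [det_fin_two_of]; ring
        · rw [det_fin_two_of, trace_fin_two_of]
          intro h
          exact ha (by linear_combination h)
        · intro h
          refine hb ?_
          rw [inv_def, adjugate_fin_two, trace_fin_two, det_neg, det_mul, det_smul, det_fin_two_of,
            det_fin_two_of, Ring.inverse_eq_inv'] at h
          simp [Matrix.mul_apply, Fin.sum_univ_two, Matrix.trace_fin_two, Matrix.vecMul, dotProduct] at h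
          field_simp at h ⊢
          linear_combination h
    have hGu : IsUnit G.det := by rw [hGd]; exact isUnit_iff_ne_zero.2 hd0
    obtain ⟨T1, T2, hT1, hT2, hT12⟩ := prod_two hGs hT hT (by rw [hGd, hd1])
    obtain ⟨V1, V2, hV1, hV2, hV12⟩ := prod_two hSs hV hV (by
      rw [det_neg, det_mul, det_nonsing_inv, Ring.inverse_eq_inv', hGd, hXg, hd1, Fintype.card_fin]
      field_simp)
    have hT1u : IsUnit T1.det := by rw [hT1.det_eq]; exact hTu
    have hT2u : IsUnit T2.det := by rw [hT2.det_eq]; exact hTu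
    refine ⟨fromBlocks G (Xg + G * Yg - G * G) 1 (Yg - G), fromBlocks T1 0 T2⁻¹ V1,
      fromBlocks T2 (T1⁻¹ * (Xg + G * Yg - G * G)) 0 V2, ?_, ?_, ?_, ?_⟩
    · have hU : IsUnit (fromBlocks 1 G 0 (1 : Matrix (Fin 2) (Fin 2) F)).det := by
        rw [det_fromBlocks_zero₂₁]; simp
      have h1 : GCls (fromBlocks 0 Xg 1 Yg) B := by
        refine GCls.symm (hfr ▸ ?_)
        have := GCls.of_conj B (isUnit_nonsing_inv_det _ hQ)
        rwa [nonsing_inv_nonsing_inv _ hQ] at this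
      refine GCls.trans (GCls.symm ⟨fromBlocks 1 G 0 1, hU, ?_⟩) h1
      rw [fromBlocks_multiply, fromBlocks_multiply]
      simp [Matrix.mul_sub, Matrix.sub_mul]
    · exact pair_gcls hT hV hne (cyclic_pair _ (hT.of_gcls hT1) (hV.of_gcls hV1)
        (by rwa [hT1.charpoly_eq, hV1.charpoly_eq])) (by rw [charpoly_pair, hT1.charpoly_eq, hV1.charpoly_eq])
    · exact pair_gcls hT hV hne (cyclic_pair_upp _ (hT.of_gcls hT2) (hV.of_gcls hV2)
        (by rwa [hT2.charpoly_eq, hV2.charpoly_eq])) (by rw [charpoly_fromBlocks_zero₂₁, hT2.charpoly_eq, hV2.charpoly_eq])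
    · rw [fromBlocks_multiply, fromBlocks_inj]
      refine ⟨by simp [hT12], ?_, by simp [nonsing_inv_mul _ hT2u], ?_⟩
      · simp [← Matrix.mul_assoc, mul_nonsing_inv _ hT1u]
      · rw [hV12, ← Matrix.mul_assoc, ← Matrix.mul_inv_rev, hT12]
        simp [Matrix.mul_sub, Matrix.mul_add, nonsing_inv_mul_cancel_left _ _ hGu, ← Matrix.mul_assoc,
          nonsing_inv_mul _ hGu]
        abel
  · obtain ⟨c, u, φ, hBc⟩ : ∃ (c : F) (u φ : I4 → F), B - c • 1 = Matrix.vecMulVec u φ := by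
      simpa [Two] using hBtwo
    rw [sub_eq_iff_eq_add'] at hBc
    have hu0 : u ≠ 0 := fun h => hB c (by rw [hBc, h]; ext i j; simp [vecMulVec_apply])
    have hφ0 : φ ≠ 0 := fun h => hB c (by rw [hBc, h]; ext i j; simp [vecMulVec_apply])
    have hBd : B.det ≠ 0 := by rw [hd]; exact pow_ne_zero _ (mul_ne_zero hTd hVd)
    have hc : c ≠ 0 := by
      rintro rfl
      have hker : LinearMap.ker (dotProductBilin F F φ) ≠ ⊥ := by
        intro h
        have h1 := LinearMap.finrank_range_add_finrank_ker (dotProductBilin F F φ)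
        rw [h, finrank_bot, Module.finrank_pi] at h1
        have := Submodule.finrank_le (LinearMap.range (dotProductBilin F F φ))
        rw [Module.finrank_self] at this
        simp at h1
        omega
      obtain ⟨y, hy, hy0⟩ := Submodule.exists_mem_ne_zero_of_ne_bot hker
      simp at hy
      exact hBd (exists_mulVec_eq_zero_iff.1 ⟨y, hy0, by rw [hBc]; simp [vecMulVec_mulVec, hy]⟩)
    obtain ⟨e, he⟩ : ∃ e, e = φ ⬝ᵥ u / c := ⟨_, rfl⟩
    have hBdet : B.det = c ^ 4 * (1 + e) := by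
      have e1 : B = c • (1 + Matrix.vecMulVec (c⁻¹ • u) φ) := by
        rw [hBc, smul_add, smul_vecMulVec, smul_smul, mul_inv_cancel₀ hc, one_smul]
      rw [e1, det_smul, det_one_add_vec, dotProduct_smul, smul_eq_mul, he, Fintype.card_sum, Fintype.card_fin]
      ring
    have he1 : 1 + e ≠ 0 := fun h => hBd (by rw [hBdet, h, mul_zero])
    obtain ⟨Z, hZ⟩ : ∃ Z, Z = fromBlocks T 0 E V := ⟨_, rfl⟩
    have hZc : Cyclic Z := hZ ▸ cyclic_pair E hT hV hne
    have hZd : Z.det = T.det * V.det := by rw [hZ, det_fromBlocks_zero₁₂]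
    have hZu : IsUnit Z.det := by rw [hZd]; exact hTu.mul hVu
    obtain ⟨M, hM⟩ : ∃ M, M = c • Z⁻¹ := ⟨_, rfl⟩
    obtain ⟨x, hx⟩ := hZc.inv hZu
    have hMd : M.det = c ^ 4 / Z.det := by
      rw [hM, det_smul, det_nonsing_inv, Ring.inverse_eq_inv', Fintype.card_sum, Fintype.card_fin, div_eq_mul_inv]
    have hMu : IsUnit M.det := by rw [hMd]; exact isUnit_iff_ne_zero.2 (div_ne_zero (pow_ne_zero _ hc) hZu.ne_zero)
    obtain ⟨ψ, hψe, hψc, hψf⟩ := exists_update (M := M) (n := 3) (hM ▸ hx.smul_mat hc) hMu (by simp)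
      (f := Z.charpoly) (charpoly_monic _) (by rw [charpoly_natDegree_eq_dim]; simp) he1 (by
        have h1 := det_eq_sign_charpoly_coeff Z
        norm_num at h1
        rw [show (-1 : F) ^ (3 + 1) = 1 by norm_num, one_mul, ← h1, hMd, div_mul_eq_mul_div, ← hBdet, hd, hZd]
        field_simp)
    have hMinv : M⁻¹ = c⁻¹ • Z := inv_eq_right_inv (by
      rw [hM, Matrix.smul_mul, Matrix.mul_smul, nonsing_inv_mul _ hZu, smul_smul, mul_inv_cancel₀ hc, one_smul])
    rw [hMinv, smul_mulVec, dotProduct_smul, smul_eq_mul, he] at hψe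
    have hψu : φ ⬝ᵥ u = ψ ⬝ᵥ (Z *ᵥ x) := by
      field_simp at hψe
      exact hψe.symm
    have hg2 : GCls Z (M + Matrix.vecMulVec x ψ) := Cyclic.gcls_of_charpoly hZc ⟨x, hψc⟩ hψf.symm
    have hprod : Z * (M + Matrix.vecMulVec x ψ) = c • 1 + Matrix.vecMulVec (Z *ᵥ x) ψ := by
      rw [Matrix.mul_add, hM, Matrix.mul_smul, mul_nonsing_inv _ hZu, mul_vecMulVec]
    have hZx : Z *ᵥ x ≠ 0 := fun h => hx.ne_zero (by
      simpa [mulVec_mulVec, nonsing_inv_mul _ hZu] using congrArg (Z⁻¹ *ᵥ ·) h)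
    rcases eq_or_ne ψ 0 with hψ0 | hψ0
    · have hMf : M.charpoly = Z.charpoly := by
        rw [← hψf, hψ0]; congr 1; ext i j; simp [vecMulVec_apply]
      have hφu : φ ⬝ᵥ u = 0 := by rw [hψu, hψ0, zero_dotProduct]
      obtain ⟨G1, hG1⟩ : ∃ G1 : Matrix (Fin 2) (Fin 2) F, G1 = Matrix.single 0 0 1 := ⟨_, rfl⟩
      have hMs : M = fromBlocks (c • T⁻¹) 0 (c • -(V⁻¹ * E * T⁻¹)) (c • V⁻¹) := by
        rw [hM, hZ, inv_lower hTu hVu, fromBlocks_smul, smul_zero]
      have hcp : (c • T⁻¹).charpoly ≠ (c • V⁻¹).charpoly := by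
        intro h
        rw [charpoly_fin_two, charpoly_fin_two, inv_two_trace, inv_two_trace, inv_two_det, inv_two_det] at h
        have h0 := congrArg (fun p => p.coeff 0) h
        have h1 := congrArg (fun p => p.coeff 1) h
        simp only [coeff_add, coeff_sub, coeff_X_pow, coeff_C_mul, coeff_X_zero, coeff_X_one, coeff_C_zero,
          coeff_C_ne_zero, ne_eq, one_ne_zero, not_false_eq_true, mul_zero, mul_one, OfNat.one_ne_ofNat,
          OfNat.zero_ne_ofNat, if_false, zero_sub, zero_add, add_zero, sub_zero, neg_inj] at h0 h1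
        have hdd : T.det = V.det := by
          field_simp at h0
          exact h0.symm
        rw [hdd] at h1
        field_simp at h1
        exact hne (by rw [charpoly_fin_two, charpoly_fin_two, h1, hdd])
      obtain ⟨u₁, hu₁⟩ : ∃ u₁ : I4 → F, u₁ = Pi.single (Sum.inr 0) c := ⟨_, rfl⟩
      obtain ⟨φ₁, hφ₁⟩ : ∃ φ₁ : I4 → F, φ₁ = Pi.single (Sum.inl 0) 1 := ⟨_, rfl⟩
      refine ⟨c • 1 + Matrix.vecMulVec u₁ φ₁, Z,
        M * fromBlocks 1 0 G1 1, ?_, hZ ▸ GCls.refl _, ?_, ?_⟩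
      · rw [hBc]
        refine gcls_rankone (by simp) c (u := u₁) (φ := φ₁)
          (fun h => hc (by simpa [hu₁] using congrFun h (Sum.inr 0))) hu0
          (fun h => one_ne_zero (α := F) (by simpa [hφ₁] using congrFun h (Sum.inl 0))) hφ0 ?_
        rw [hφu, hu₁, hφ₁]; simp
      · rw [hMs, fromBlocks_multiply]
        refine pair_gcls hT hV hne ?_ ?_
        · simp only [Matrix.mul_one, Matrix.mul_zero, Matrix.zero_mul, add_zero, zero_add]
          exact cyclic_pair _ (hT.inv_two hc) (hV.inv_two hc) hcp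
        · simp only [Matrix.mul_one, Matrix.mul_zero, Matrix.zero_mul, add_zero, zero_add]
          rw [charpoly_pair, ← charpoly_pair (E := c • -(V⁻¹ * E * T⁻¹)), ← hMs, hMf, hZ, charpoly_pair]
      · rw [← Matrix.mul_assoc, hM, Matrix.mul_smul, mul_nonsing_inv _ hZu, Matrix.smul_mul, Matrix.one_mul]
        ext (i | i) (j | j) <;> simp [hG1, hu₁, hφ₁, vecMulVec_apply, Matrix.one_apply, Matrix.single, Pi.single_apply]
        all_goals fin_cases i <;> fin_cases j <;> simp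
    · refine ⟨c • 1 + Matrix.vecMulVec (Z *ᵥ x) ψ, Z, M + Matrix.vecMulVec x ψ, ?_, hZ ▸ GCls.refl _, hZ ▸ hg2, hprod⟩
      rw [hBc]
      exact gcls_rankone (by simp) c hZx hu0 hψ0 hφ0 hψu.symm

/-- A scalar in the square of the basic class. -/
theorem pair_scalar {c0 : F} (hc : c0 * T.trace = V.trace * T.det) (hcd : V.det * T.det = c0 ^ 2) :
    GCls (fromBlocks T 0 E V) (c0 • (fromBlocks T 0 E V)⁻¹) := by
  have hTd := hT.det_ne
  have hVd := hV.det_ne
  have hc0 : c0 ≠ 0 := fun h => by simp [h, hTd, hVd] at hcd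
  have hTu : IsUnit T.det := isUnit_iff_ne_zero.2 hTd
  have hVu : IsUnit V.det := isUnit_iff_ne_zero.2 hVd
  have e1 : (c0 • T⁻¹).charpoly = V.charpoly := by
    rw [charpoly_fin_two, charpoly_fin_two, inv_two_trace, inv_two_det, hc, mul_div_assoc, div_self hTd, mul_one,
      ← hcd, mul_div_assoc, div_self hTd, mul_one]
  have e2 : (c0 • V⁻¹).charpoly = T.charpoly := by
    have ht : c0 * V.trace / V.det = T.trace := by
      rw [div_eq_iff hVd]
      exact mul_left_cancel₀ hTd (by linear_combination (-c0) * hc - T.trace * hcd)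
    rw [charpoly_fin_two, charpoly_fin_two, inv_two_trace, inv_two_det, ht,
      show c0 ^ 2 / V.det = T.det by rw [← hcd]; field_simp]
  rw [inv_lower hTu hVu, fromBlocks_smul, smul_zero]
  refine pair_gcls hT hV hne (cyclic_pair _ (hT.inv_two hc0) (hV.inv_two hc0) ?_) ?_
  · rw [e1, e2]; exact hne.symm
  · rw [charpoly_pair, e1, e2, mul_comm]

end Pair

theorem SCls.conj_both {A X Q : Matrix ι ι F} (hQ : IsUnit Q.det) (h : SCls A X) :
    SCls (Q * A * Q⁻¹) (Q * X * Q⁻¹) := by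
  obtain ⟨P, hP, e⟩ := h
  refine ⟨Q * P * Q⁻¹, by rw [det_conj ((isUnit_iff_isUnit_det _).2 hQ), hP], ?_⟩
  simp only [Matrix.mul_assoc, nonsing_inv_mul_cancel_left _ _ hQ]
  rw [← Matrix.mul_assoc X, e, Matrix.mul_assoc]

/-- The theorem in dimension four. -/
theorem cov_four (h4 : 4 ≤ Fintype.card F) {A : Matrix I4 I4 F} (hu : IsUnit A.det) (hA : Two A) :
    CovA A 4 ∧ ∃ (c0 : F) (l : List (Matrix I4 I4 F)),
      l.length = 4 ∧ (∀ X ∈ l, SCls A X) ∧ l.prod = c0 • 1 := by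
  obtain ⟨Q, X, Y, hQ, hfr⟩ := exists_frame_four hA
  have hAeq : A = Q * fromBlocks 0 X 1 Y * Q⁻¹ := by
    rw [← hfr]; simp [Matrix.mul_assoc, mul_nonsing_inv _ hQ, mul_nonsing_inv_cancel_left _ _ hQ]
  have hXd : X.det = A.det := by
    rw [hAeq, det_conj ((isUnit_iff_isUnit_det _).2 hQ)]
    have e : fromBlocks (0 : Matrix (Fin 2) (Fin 2) F) X 1 Y =
        fromBlocks 1 1 0 1 * fromBlocks 1 0 (-1) 1 * fromBlocks 1 1 0 1 * fromBlocks (-1) (-Y) 0 X := by
      rw [fromBlocks_multiply, fromBlocks_multiply, fromBlocks_multiply]; simp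
    rw [e, det_mul, det_mul, det_mul, det_fromBlocks_zero₂₁, det_fromBlocks_zero₁₂, det_fromBlocks_zero₂₁]
    simp [det_neg]
  obtain ⟨T, V, E, c0, hc0, hT, hV, hne, hct, hcd, A1, A2, h1, h2, h12⟩ := exists_x0 h4 (Y := Y) (hXd ▸ hu)
  obtain ⟨Z, hZ⟩ : ∃ Z, Z = fromBlocks T 0 E V := ⟨_, rfl⟩
  have hlist : ∀ Z', GCls Z Z' → ∃ B1 B2 : Matrix I4 I4 F,
      SCls (fromBlocks 0 X 1 Y) B1 ∧ SCls (fromBlocks 0 X 1 Y) B2 ∧ B1 * B2 = Z' := by
    intro Z' hZ'
    obtain ⟨P, hP, e⟩ := (hZ ▸ fullDet_pair E hT hV hne : FullDet Z).scls hZ'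
    have hPu : IsUnit P.det := by rw [hP]; exact isUnit_one
    refine ⟨P * A1 * P⁻¹, P * A2 * P⁻¹, h1.trans ⟨P, hP, ?_⟩, h2.trans ⟨P, hP, ?_⟩, ?_⟩
    · rw [Matrix.mul_assoc, nonsing_inv_mul _ hPu, Matrix.mul_one]
    · rw [Matrix.mul_assoc, nonsing_inv_mul _ hPu, Matrix.mul_one]
    · simp only [Matrix.mul_assoc, nonsing_inv_mul_cancel_left _ _ hPu]
      rw [← Matrix.mul_assoc A1, h12, ← hZ, ← Matrix.mul_assoc, ← e, Matrix.mul_assoc, mul_nonsing_inv _ hPu,
        Matrix.mul_one]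
  have lift : ∀ Z1 Z2, GCls Z Z1 → GCls Z Z2 → ∃ l : List (Matrix I4 I4 F), l.length = 4 ∧ (∀ W ∈ l, SCls A W) ∧
      l.prod = Q * (Z1 * Z2) * Q⁻¹ ∧ ∀ c : F, NoCommon l c := by
    intro Z1 Z2 g1 g2
    obtain ⟨B1, B2, b1, b2, b12⟩ := hlist Z1 g1
    obtain ⟨B3, B4, b3, b4, b34⟩ := hlist Z2 g2
    refine ⟨[Q * B1 * Q⁻¹, Q * B2 * Q⁻¹, Q * B3 * Q⁻¹, Q * B4 * Q⁻¹], rfl, ?_, ?_, ?_⟩
    · rw [hAeq]
      simp only [List.mem_cons, List.not_mem_nil, or_false]
      rintro W (rfl | rfl | rfl | rfl)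
      exacts [b1.conj_both hQ, b2.conj_both hQ, b3.conj_both hQ, b4.conj_both hQ]
    · simp only [List.prod_cons, List.prod_nil, mul_one, ← b12, ← b34, Matrix.mul_assoc,
        nonsing_inv_mul_cancel_left _ _ hQ]
    · intro c w hw
      have hz : (Q * Z1 * Q⁻¹) *ᵥ w = (c * c) • w := by
        have e1 := hw (Q * B1 * Q⁻¹) (by simp)
        have e2 := hw (Q * B2 * Q⁻¹) (by simp)
        have e : Q * Z1 * Q⁻¹ = Q * B1 * Q⁻¹ * (Q * B2 * Q⁻¹) := by
          simp only [← b12, Matrix.mul_assoc, nonsing_inv_mul_cancel_left _ _ hQ]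
        rw [e, ← mulVec_mulVec, e2, mulVec_smul, e1, smul_smul]
      exact (((hZ ▸ noEig_pair hT hV : NoEig Z).gcls g1).gcls (GCls.of_conj _ hQ)).vec hz
  constructor
  · intro B hB hd
    have hB' : NonScalar (Q⁻¹ * B * Q) := fun c hc => hB c (by
      have := congrArg (fun M => Q * M * Q⁻¹) hc
      simp only [Matrix.mul_assoc, mul_nonsing_inv _ hQ, mul_nonsing_inv_cancel_left _ _ hQ, Matrix.mul_one] at this
      rw [this, Matrix.smul_mul, Matrix.mul_smul, Matrix.one_mul, mul_nonsing_inv _ hQ])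
    obtain ⟨Z1, Z2, g1, g2, g12⟩ := pair_cover (E := E) hT hV hne h4 hB' (by
      rw [det_mul, det_mul, hd, det_nonsing_inv, Ring.inverse_eq_inv', mul_comm, ← mul_assoc,
        mul_inv_cancel₀ hQ.ne_zero, one_mul, ← hXd, mul_comm T.det, hcd, hc0]
      ring)
    obtain ⟨l, l1, l2, l3, l4⟩ := lift Z1 Z2 (hZ ▸ g1) (hZ ▸ g2)
    refine ⟨l, l1, l2, ?_, l4⟩
    rw [l3, g12]
    simp [Matrix.mul_assoc, mul_nonsing_inv _ hQ, mul_nonsing_inv_cancel_left _ _ hQ]
  · obtain ⟨l, l1, l2, l3, -⟩ := lift Z (c0 • Z⁻¹) (GCls.refl _) (hZ ▸ pair_scalar hT hV hne hct hcd)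
    refine ⟨c0, l, l1, l2, ?_⟩
    have hZu : IsUnit Z.det := by
      rw [hZ, det_fromBlocks_zero₁₂]; exact (isUnit_iff_ne_zero.2 hT.det_ne).mul (isUnit_iff_ne_zero.2 hV.det_ne)
    rw [l3, Matrix.mul_smul, mul_nonsing_inv _ hZu, Matrix.mul_smul, Matrix.smul_mul, Matrix.mul_one,
      mul_nonsing_inv _ hQ]

end CfsgLib.SLCover
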