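import Cfsg.Agent.Lib.Classical.SLCover.Cyclic

/-!
# Products with a triangular matrix that are cyclic
-/

set_option autoImplicit false
set_option linter.unusedSectionVars false
set_option linter.unusedSimpArgs false

namespace CfsgLib.SLCover

open Matrix Polynomial

variable {F : Type*} [Field F] {ι κ : Type} [Fintype ι] [DecidableEq ι] [Fintype κ] [DecidableEq κ]

theorem exists_col {i j : ι} (hij : i ≠ j) {v : ι → F} (hv : v ≠ 0) :
    ∃ P : Matrix ι ι F, IsUnit P.det ∧ P *ᵥ Pi.single i 1 = v := by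
  obtain ⟨y, hy⟩ : ∃ y : ι → F, LinearIndependent F ![v, y] := by
    by_contra hcon
    push Not at hcon
    have key : ∀ k, ∃ c : F, c • v = Pi.single k 1 := fun k => by
      by_contra hk
      push Not at hk
      exact hcon _ ((LinearIndependent.pair_iff' hv).2 hk)
    obtain ⟨a, ha⟩ := key i
    obtain ⟨b, hb⟩ := key j
    have e1 := congrFun ha i
    have e2 := congrFun hb j
    have e3 := congrFun ha j
    simp [hij, Ne.symm hij] at e1 e2 e3
    rcases e3 with h | h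
    · simp [h] at e1
    · simp [h] at e2
  obtain ⟨P, hP, h1, -⟩ := exists_cols hij hy
  exact ⟨P, hP, h1⟩

theorem CycV.mulVec_self [Fintype F] {T : Matrix ι ι F} {x : ι → F} (hT : IsUnit T.det) (h : CycV T x) :
    CycV T (T *ᵥ x) := by
  intro W hx hinv
  obtain ⟨f, hf⟩ : ∃ f : W → W, ∀ y : W, (f y : ι → F) = T *ᵥ (y : ι → F) :=
    ⟨fun y => ⟨_, hinv _ y.2⟩, fun _ => rfl⟩
  have hinj : Function.Injective f := fun a b hab => Subtype.ext
    (Matrix.mulVec_injective_iff_isUnit.2 ((isUnit_iff_isUnit_det _).2 hT) (by rw [← hf, ← hf, hab]))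
  obtain ⟨y, hy⟩ := (Finite.injective_iff_surjective.1 hinj) ⟨_, hx⟩
  have e : (y : ι → F) = x := Matrix.mulVec_injective_iff_isUnit.2 ((isUnit_iff_isUnit_det _).2 hT)
    (by rw [← hf, hy])
  exact h W (e ▸ y.2) hinv

theorem CycV.pow_mulVec [Fintype F] {T : Matrix ι ι F} {x : ι → F} (hT : IsUnit T.det) (h : CycV T x) (k : ℕ) :
    CycV T (T ^ k *ᵥ x) := by
  induction k with
  | zero => simpa
  | succ k ih => rw [pow_succ', ← mulVec_mulVec]; exact ih.mulVec_self hT

/-- Upper triangular, glued. -/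
theorem upp_glue {a b : ℕ} {β : Fin (a + b) → F} {A : Matrix (Fin a) (Fin a) F} {B : Matrix (Fin a) (Fin b) F}
    {D : Matrix (Fin b) (Fin b) F} (hA : Upp A fun i => β (finSumFinEquiv (.inl i)))
    (hD : Upp D fun i => β (finSumFinEquiv (.inr i))) :
    Upp ((fromBlocks A B 0 D).submatrix finSumFinEquiv.symm finSumFinEquiv.symm) β := by
  refine ⟨fun i j hij => ?_, fun i => ?_⟩
  · obtain ⟨i, rfl⟩ := finSumFinEquiv.surjective i
    obtain ⟨j, rfl⟩ := finSumFinEquiv.surjective j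
    simp only [submatrix_apply, Equiv.symm_apply_apply]
    rcases i with i | i <;> rcases j with j | j <;>
      simp only [finSumFinEquiv_apply_left, finSumFinEquiv_apply_right, Fin.lt_def, Fin.val_castAdd,
        Fin.val_natAdd] at hij <;>
      simp only [fromBlocks_apply₁₁, fromBlocks_apply₁₂, fromBlocks_apply₂₁, fromBlocks_apply₂₂]
    · exact hA.1 i j (Fin.lt_def.2 hij)
    · omega
    · rfl
    · exact hD.1 i j (Fin.lt_def.2 (by omega))
  · obtain ⟨i, rfl⟩ := finSumFinEquiv.surjective i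
    rcases i with i | i
    · simpa using hA.2 i
    · simpa using hD.2 i

theorem upp_one (c : F) : Upp (c • (1 : Matrix (Fin 1) (Fin 1) F)) fun _ => c :=
  ⟨fun i j h => absurd h (by rw [Subsingleton.elim i j]; exact lt_irrefl _), fun i => by simp⟩

/-- A row on top keeps a cyclic vector. -/
theorem cyclic_row {U₁ : Matrix ι ι F} {x₁ z : ι → F} (hx : CycV U₁ x₁) (β a : F)
    (ha : ∀ φ : ι → F, φ ᵥ* (U₁ - β • 1) = z → φ ⬝ᵥ x₁ ≠ a) :
    Cyclic (fromBlocks (β • (1 : Matrix (Fin 1) (Fin 1) F)) (Matrix.replicateRow (Fin 1) z) 0 U₁) := by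
  refine ⟨Sum.elim (fun _ => a) x₁, fun W hW hinv => ?_⟩
  have hU : ∀ (t : F) (y : ι → F), fromBlocks (β • (1 : Matrix (Fin 1) (Fin 1) F)) (Matrix.replicateRow (Fin 1) z) 0 U₁ *ᵥ Sum.elim (fun _ => t) y =
      Sum.elim (fun _ => β * t + z ⬝ᵥ y) (U₁ *ᵥ y) := by
    intro t y
    rw [fromBlocks_mulVec]
    funext i; rcases i with i | i <;> simp [smul_mulVec, mulVec, dotProduct, replicateRow]
  have hrep : ∀ w : Fin 1 ⊕ ι → F, Sum.elim (fun _ => w (.inl 0)) (w ∘ Sum.inr) = w := fun w => by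
    funext i; rcases i with i | i
    · simp [Subsingleton.elim i 0]
    · rfl
  have hproj : ∀ y : ι → F, ∃ t : F, Sum.elim (fun _ => t) y ∈ W := by
    obtain ⟨V₁, hV₁⟩ : ∃ V₁ : Submodule F (ι → F), V₁ = W.map (LinearMap.funLeft F F Sum.inr) := ⟨_, rfl⟩
    have htop : V₁ = ⊤ := hx V₁ (hV₁ ▸ ⟨_, hW, by funext i; simp [LinearMap.funLeft]⟩) fun y hy => by
      rw [hV₁] at hy ⊢
      obtain ⟨w, hw, rfl⟩ := hy
      refine ⟨_, hinv w hw, ?_⟩
      conv_lhs => rw [← hrep w, hU]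
      funext i; simp [LinearMap.funLeft]
    intro y
    obtain ⟨w, hw, rfl⟩ : y ∈ W.map (LinearMap.funLeft F F Sum.inr) := hV₁ ▸ htop ▸ Submodule.mem_top
    refine ⟨w (.inl 0), ?_⟩
    exact (congrArg (· ∈ W) (hrep w)).mpr hw
  by_cases he : Sum.elim (fun _ => (1 : F)) (0 : ι → F) ∈ W
  · refine Submodule.eq_top_iff'.2 fun w => ?_
    obtain ⟨t, ht⟩ := hproj (w ∘ Sum.inr)
    have := W.add_mem ht (W.smul_mem (w (.inl 0) - t) he)
    convert this using 1
    funext i; rcases i with i | i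
    · simp [Subsingleton.elim i 0]
    · simp
  exfalso
  have huniq : ∀ (y : ι → F) (t t' : F), Sum.elim (fun _ => t) y ∈ W → Sum.elim (fun _ => t') y ∈ W → t = t' := by
    intro y t t' h h'
    by_contra hne
    refine he ?_
    have := W.smul_mem (t - t')⁻¹ (W.sub_mem h h')
    convert this using 1
    funext i; rcases i with i | i <;> simp [sub_ne_zero.2 hne]
  choose φ hφ using fun i : ι => hproj (Pi.single i 1)
  have hgraph : ∀ y : ι → F, Sum.elim (fun _ => φ ⬝ᵥ y) y ∈ W := by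
    intro y
    have := W.sum_mem (fun i (_ : i ∈ Finset.univ) => W.smul_mem (y i) (hφ i))
    convert this using 1
    funext k; rcases k with k | k
    · simp [dotProduct, mul_comm]
    · simp [Finset.sum_apply, Pi.single_apply]
  refine ha φ ?_ (huniq x₁ _ _ (hgraph x₁) hW)
  refine funext fun i => ?_
  have h1 := hinv _ (hgraph (Pi.single i 1))
  rw [hU] at h1
  have h2 := huniq _ _ _ h1 (hgraph _)
  simp only [dotProduct_single, mul_one, dotProduct_mulVec] at h2
  rw [Matrix.vecMul_sub, Pi.sub_apply, vecMul_smul, vecMul_one, Pi.smul_apply, smul_eq_mul, ← h2]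
  ring

/-- A column on the right keeps a cyclic vector. -/
theorem cyclic_col {U₀ : Matrix ι ι F} {u : ι → F} (hU : Cyclic U₀) (β : F)
    (hu : u ∉ LinearMap.range (Matrix.toLin' (U₀ - β • 1)) ∨ LinearMap.range (Matrix.toLin' (U₀ - β • 1)) = ⊤) :
    Cyclic (fromBlocks U₀ (Matrix.replicateCol (Fin 1) u) 0 (β • (1 : Matrix (Fin 1) (Fin 1) F))) := by
  obtain ⟨y, hy⟩ := hU
  obtain ⟨x₀, hx₀⟩ : ∃ x₀ : ι → F, CycV U₀ ((U₀ - β • 1) *ᵥ x₀ + u) := by
    obtain ⟨R, hR⟩ : ∃ R, R = LinearMap.range (Matrix.toLin' (U₀ - β • 1)) := ⟨_, rfl⟩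
    rw [← hR] at hu
    rcases hu with hu | hu
    · have hRy : R ⊔ F ∙ y = ⊤ := by
        refine hy _ (Submodule.mem_sup_right (Submodule.mem_span_singleton_self y)) fun z hz => ?_
        have : U₀ *ᵥ z = (U₀ - β • 1) *ᵥ z + β • z := by rw [sub_mulVec, smul_mulVec, one_mulVec, sub_add_cancel]
        rw [this]
        refine Submodule.add_mem _ (Submodule.mem_sup_left ?_) (Submodule.smul_mem _ β hz)
        rw [hR]; exact ⟨z, by rw [Matrix.toLin'_apply]⟩
      obtain ⟨r, hr, w, hw, hrw⟩ := Submodule.mem_sup.1 (hRy ▸ Submodule.mem_top : u ∈ R ⊔ F ∙ y)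
      obtain ⟨s, rfl⟩ := Submodule.mem_span_singleton.1 hw
      have hs : s ≠ 0 := fun h => hu (by rw [← hrw, h, zero_smul, add_zero]; exact hr)
      rw [hR] at hr
      obtain ⟨r₀, hr₀⟩ := hr
      refine ⟨-r₀, ?_⟩
      rw [mulVec_neg, ← hrw, ← hr₀, Matrix.toLin'_apply, ← add_assoc, neg_add_cancel, zero_add]
      exact hy.smul hs
    · obtain ⟨r₀, hr₀⟩ : y - u ∈ LinearMap.range (Matrix.toLin' (U₀ - β • 1)) := by
        rw [← hR, hu]; exact Submodule.mem_top
      exact ⟨r₀, by rw [← Matrix.toLin'_apply, hr₀, sub_add_cancel]; exact hy⟩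
  refine ⟨Sum.elim x₀ fun _ => 1, fun W hW hinv => ?_⟩
  have hmul : ∀ (p : ι → F) (t : F), fromBlocks U₀ (Matrix.replicateCol (Fin 1) u) 0 (β • (1 : Matrix (Fin 1) (Fin 1) F)) *ᵥ Sum.elim p (fun _ => t) =
      Sum.elim (U₀ *ᵥ p + t • u) fun _ => β * t := by
    intro p t
    rw [fromBlocks_mulVec]
    congr 1
    · simp; funext i; simp [mulVec, dotProduct, replicateCol, mul_comm]
    · funext i; simp [smul_mulVec]
  obtain ⟨V₀, hV₀⟩ : ∃ V₀ : Submodule F (ι → F), ∀ p, p ∈ V₀ ↔ Sum.elim p (fun _ : Fin 1 => (0 : F)) ∈ W :=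
    ⟨{ carrier := {p | Sum.elim p (fun _ : Fin 1 => (0 : F)) ∈ W}
       add_mem' := fun {a b} ha hb => by
        simp only [Set.mem_setOf_eq] at ha hb ⊢
        have := W.add_mem ha hb
        convert this using 1; funext i; rcases i with i | i <;> simp
       zero_mem' := by
        simp only [Set.mem_setOf_eq]
        convert W.zero_mem using 1; funext i; rcases i with i | i <;> simp
       smul_mem' := fun c a ha => by
        simp only [Set.mem_setOf_eq] at ha ⊢
        have := W.smul_mem c ha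
        convert this using 1; funext i; rcases i with i | i <;> simp }, fun p => Iff.rfl⟩
  have htop : V₀ = ⊤ := by
    refine hx₀ V₀ ?_ fun p hp => ?_
    · rw [hV₀]
      have := W.sub_mem (hinv _ hW) (W.smul_mem β hW)
      rw [hmul] at this
      convert this using 1
      funext i; rcases i with i | i <;> simp [sub_mulVec, smul_mulVec]
      ring
    · rw [hV₀] at hp ⊢
      have := hinv _ hp
      rw [hmul] at this
      simpa using this
  refine Submodule.eq_top_iff'.2 fun w => ?_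
  have h1 := (hV₀ (w ∘ Sum.inl - w (.inr 0) • x₀)).1 (htop ▸ Submodule.mem_top)
  have := W.add_mem h1 (W.smul_mem (w (.inr 0)) hW)
  convert this using 1
  funext i; rcases i with i | i
  · simp
  · simp [Subsingleton.elim i 0]

/-- The bordered product is cyclic at the first basis vector. -/
theorem cycV_border {a β : F} (ha : a ≠ 0) (hβ : β ≠ 0) {r c z : ι → F} {S U₁ : Matrix ι ι F}
    (h : CycV ((S - a⁻¹ • Matrix.vecMulVec c r) * U₁) c) :
    CycV (fromBlocks (a • (1 : Matrix (Fin 1) (Fin 1) F)) (Matrix.replicateRow (Fin 1) r) (Matrix.replicateCol (Fin 1) c) S *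
      fromBlocks (β • (1 : Matrix (Fin 1) (Fin 1) F)) (Matrix.replicateRow (Fin 1) z) 0 U₁) (Sum.elim (fun _ => 1) 0) := by
  intro W hW hinv
  have hT : ∀ (t : F) (y : ι → F), (fromBlocks (a • (1 : Matrix (Fin 1) (Fin 1) F)) (Matrix.replicateRow (Fin 1) r) (Matrix.replicateCol (Fin 1) c) S *
      fromBlocks (β • (1 : Matrix (Fin 1) (Fin 1) F)) (Matrix.replicateRow (Fin 1) z) 0 U₁) *ᵥ Sum.elim (fun _ => t) y =
      Sum.elim (fun _ => a * (β * t + z ⬝ᵥ y) + r ⬝ᵥ (U₁ *ᵥ y)) ((β * t + z ⬝ᵥ y) • c + S *ᵥ (U₁ *ᵥ y)) := by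
    intro t y
    rw [← mulVec_mulVec, fromBlocks_mulVec, fromBlocks_mulVec]
    funext i; rcases i with i | i <;>
      simp only [Sum.elim_comp_inl, Sum.elim_comp_inr, Sum.elim_inl, Sum.elim_inr, zero_mulVec, zero_add, Pi.add_apply,
        smul_mulVec, one_mulVec, Pi.smul_apply, smul_eq_mul, mulVec, dotProduct, replicateRow, replicateCol, of_apply] <;>
      simp [mul_comm]
  have he : ∀ t : F, Sum.elim (fun _ => t) (0 : ι → F) ∈ W := fun t => by
    have := W.smul_mem t hW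
    convert this using 1; funext i; rcases i with i | i <;> simp
  obtain ⟨V₁, hV₁⟩ : ∃ V₁ : Submodule F (ι → F), ∀ p, p ∈ V₁ ↔ Sum.elim (fun _ : Fin 1 => (0 : F)) p ∈ W :=
    ⟨{ carrier := {p | Sum.elim (fun _ : Fin 1 => (0 : F)) p ∈ W}
       add_mem' := fun {a b} ha hb => by
        simp only [Set.mem_setOf_eq] at ha hb ⊢
        have := W.add_mem ha hb
        convert this using 1; funext i; rcases i with i | i <;> simp
       zero_mem' := by
        simp only [Set.mem_setOf_eq]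
        convert W.zero_mem using 1; funext i; rcases i with i | i <;> simp
       smul_mem' := fun c a ha => by
        simp only [Set.mem_setOf_eq] at ha ⊢
        have := W.smul_mem c ha
        convert this using 1; funext i; rcases i with i | i <;> simp }, fun p => Iff.rfl⟩
  have hdrop : ∀ (t : F) (p : ι → F), Sum.elim (fun _ => t) p ∈ W → p ∈ V₁ := fun t p hp => by
    rw [hV₁]
    have := W.sub_mem hp (he t)
    convert this using 1; funext i; rcases i with i | i <;> simp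
  have hc : c ∈ V₁ := by
    have h1 := hinv _ hW
    rw [hT] at h1
    have := hdrop _ _ h1
    simp at this
    simpa [smul_smul, hβ] using V₁.smul_mem β⁻¹ this
  have htop : V₁ = ⊤ := h V₁ hc fun p hp => by
    have h1 := hinv _ ((hV₁ p).1 hp)
    rw [hT] at h1
    have h2 := hdrop _ _ h1
    have := V₁.add_mem h2 (V₁.smul_mem (-(β * 0 + z ⬝ᵥ p) - a⁻¹ * (r ⬝ᵥ (U₁ *ᵥ p))) hc)
    convert this using 1
    rw [← mulVec_mulVec, sub_mulVec, smul_mulVec, vecMulVec_mulVec, op_smul_eq_smul, smul_smul, sub_smul, neg_smul]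
    abel
  refine Submodule.eq_top_iff'.2 fun w => ?_
  have := W.add_mem (he (w (.inl 0))) ((hV₁ (w ∘ Sum.inr)).1 (htop ▸ Submodule.mem_top))
  convert this using 1
  funext i; rcases i with i | i
  · simp [Subsingleton.elim i 0]
  · simp

/-- The shape at a vector which is not an eigenvector. -/
theorem exists_border {m : ℕ} (hm : 1 ≤ m) {Y : Matrix (Fin 1 ⊕ Fin m) (Fin 1 ⊕ Fin m) F} (hY : IsUnit Y.det)
    {w : Fin 1 ⊕ Fin m → F} (hw : ∀ c : F, Y *ᵥ w ≠ c • w) :
    ∃ (P : Matrix (Fin 1 ⊕ Fin m) (Fin 1 ⊕ Fin m) F) (r c : Fin m → F) (S : Matrix (Fin m) (Fin m) F),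
      IsUnit P.det ∧ P *ᵥ w = Sum.elim (fun _ => 1) 0 ∧ c ≠ 0 ∧
      P * Y * P⁻¹ = fromBlocks ((1 : F) • 1) (Matrix.replicateRow (Fin 1) r) (Matrix.replicateCol (Fin 1) c) S ∧
      IsUnit (S - (1 : F)⁻¹ • Matrix.vecMulVec c r).det := by
  have hind : LinearIndependent F ![w, Y *ᵥ w - w] := by
    refine (LinearIndependent.pair_iff' (fun e => hw 0 (by rw [e]; simp))).2 fun c e => hw (1 + c) ?_
    rw [add_smul, one_smul, e]; abel
  obtain ⟨Q, hQ, q1, q2⟩ := exists_cols (i := (Sum.inl 0 : Fin 1 ⊕ Fin m)) (j := Sum.inr ⟨0, hm⟩) (by simp) hind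
  have hQ' : IsUnit Q⁻¹.det := isUnit_nonsing_inv_det _ hQ
  obtain ⟨N, hN⟩ : ∃ N, N = Q⁻¹ * Y * Q⁻¹⁻¹ := ⟨_, rfl⟩
  obtain ⟨c, hc⟩ : ∃ c : Fin m → F, c = Pi.single ⟨0, hm⟩ 1 := ⟨_, rfl⟩
  have hcol : N *ᵥ Pi.single (Sum.inl 0) 1 = Sum.elim (fun _ => 1) c := by
    have e : Q *ᵥ Sum.elim (fun _ => 1) c = Y *ᵥ w := by
      have : (Sum.elim (fun _ => 1) c : Fin 1 ⊕ Fin m → F) = Pi.single (Sum.inl 0) 1 + Pi.single (Sum.inr ⟨0, hm⟩) 1 := by
        funext i; rcases i with i | i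
        · simp [Subsingleton.elim i 0]
        · simp [hc, Pi.single_apply]
      rw [this, mulVec_add, q1, q2]; abel
    rw [hN, nonsing_inv_nonsing_inv _ hQ, ← mulVec_mulVec, ← mulVec_mulVec, q1, ← e, mulVec_mulVec,
      nonsing_inv_mul _ hQ, one_mulVec]
  have hshape : N = fromBlocks ((1 : F) • 1) (Matrix.replicateRow (Fin 1) fun j => N (.inl 0) (.inr j))
      (Matrix.replicateCol (Fin 1) c) N.toBlocks₂₂ := by
    ext (i | i) (j | j)
    · simpa [mulVec_single, Subsingleton.elim i 0, Subsingleton.elim j 0] using congrFun hcol (.inl 0)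
    · simp [Subsingleton.elim i 0]
    · simpa [mulVec_single, Subsingleton.elim j 0] using congrFun hcol (.inr i)
    · simp [toBlocks₂₂]
  refine ⟨Q⁻¹, fun j => N (.inl 0) (.inr j), c, N.toBlocks₂₂, hQ', ?_, ?_, by rw [← hN]; exact hshape, ?_⟩
  · rw [← q1, mulVec_mulVec, nonsing_inv_mul _ hQ, one_mulVec]
    funext i; rcases i with i | i
    · simp [Subsingleton.elim i 0]
    · simp
  · simp [hc]
  · have hfac : N = fromBlocks 1 0 (Matrix.replicateCol (Fin 1) c) 1 *
        fromBlocks 1 (Matrix.replicateRow (Fin 1) fun j => N (.inl 0) (.inr j)) 0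
          (N.toBlocks₂₂ - (1 : F)⁻¹ • Matrix.vecMulVec c fun j => N (.inl 0) (.inr j)) := by
      conv_lhs => rw [hshape]
      rw [fromBlocks_multiply, fromBlocks_inj]
      refine ⟨by simp, by simp, by simp, ?_⟩
      rw [inv_one, one_smul, Matrix.one_mul]
      ext i j
      simp [Matrix.mul_apply, vecMulVec_apply]
    have hd : IsUnit N.det := by
      rw [hN, det_mul, det_mul, nonsing_inv_nonsing_inv _ hQ]
      exact (hQ'.mul hY).mul hQ
    rw [hfac, det_mul, det_fromBlocks_zero₁₂, det_fromBlocks_zero₂₁] at hd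
    simpa using hd

theorem conj_border {m : ℕ} (P₁ : Matrix (Fin m) (Fin m) F) (hP₁ : IsUnit P₁.det) (a : F) (r c : Fin m → F)
    (S : Matrix (Fin m) (Fin m) F) :
    fromBlocks 1 0 0 P₁ * fromBlocks (a • (1 : Matrix (Fin 1) (Fin 1) F)) (Matrix.replicateRow (Fin 1) r) (Matrix.replicateCol (Fin 1) c) S *
      (fromBlocks 1 0 0 P₁)⁻¹ =
    fromBlocks (a • (1 : Matrix (Fin 1) (Fin 1) F)) (Matrix.replicateRow (Fin 1) (r ᵥ* P₁⁻¹)) (Matrix.replicateCol (Fin 1) (P₁ *ᵥ c))
      (P₁ * S * P₁⁻¹) := by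
  have hinv : (fromBlocks 1 0 0 P₁ : Matrix (Fin 1 ⊕ Fin m) (Fin 1 ⊕ Fin m) F)⁻¹ = fromBlocks 1 0 0 P₁⁻¹ := by
    refine inv_eq_right_inv ?_
    rw [fromBlocks_multiply]; simp [mul_nonsing_inv _ hP₁, fromBlocks_one]
  rw [hinv, fromBlocks_multiply, fromBlocks_multiply, fromBlocks_inj]
  refine ⟨by simp, ?_, ?_, by simp⟩ <;> simp [replicateRow_vecMul, replicateCol_mulVec]

theorem schur_conj {m : ℕ} (P₁ : Matrix (Fin m) (Fin m) F) (a : F) (r c : Fin m → F) (S : Matrix (Fin m) (Fin m) F) :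
    P₁ * S * P₁⁻¹ - a • Matrix.vecMulVec (P₁ *ᵥ c) (r ᵥ* P₁⁻¹) = P₁ * (S - a • Matrix.vecMulVec c r) * P₁⁻¹ := by
  rw [Matrix.mul_sub, Matrix.sub_mul, Matrix.mul_smul, Matrix.smul_mul, mul_vecMulVec, vecMulVec_mul]

variable [Fintype F]

/-- A given vector becomes cyclic. -/
theorem exists_cyc : ∀ (n : ℕ) (Y : Matrix (Fin n) (Fin n) F), IsUnit Y.det → ∀ w : Fin n → F, w ≠ 0 →
    ∀ β : Fin n → F, (∀ i, β i ≠ 0) →
      ∃ P U : Matrix (Fin n) (Fin n) F, IsUnit P.det ∧ Upp U β ∧ Cyclic U ∧ CycV (P * Y * P⁻¹ * U) (P *ᵥ w) := by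
  intro n
  induction n using Nat.strong_induction_on with
  | _ n ih =>
    intro Y hY w hw β hβ
    rcases Nat.lt_or_ge n 2 with hn | hn
    · have hcyc : ∀ (T : Matrix (Fin n) (Fin n) F) (x : Fin n → F), x ≠ 0 → CycV T x := by
        intro T x hx W hxW _
        haveI : Subsingleton (Fin n) := Fin.subsingleton_iff_le_one.2 (by omega)
        refine Submodule.eq_top_iff'.2 fun y => ?_
        obtain ⟨i, hi⟩ := Function.ne_iff.1 hx
        have := W.smul_mem (y i / x i) hxW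
        convert this using 1
        funext j
        simp at hi
        simp [Subsingleton.elim j i, hi]
      refine ⟨1, diagonal β, by simp, ⟨fun i j h => by simp [ne_of_gt h], fun i => by simp⟩, ⟨w, hcyc _ _ hw⟩, hcyc _ _ ?_⟩
      simpa using hw
    obtain ⟨m, rfl⟩ : ∃ m, n = m + 1 := ⟨n - 1, by omega⟩
    by_cases hev : ∃ c : F, Y *ᵥ w = c • w
    · obtain ⟨c, hc⟩ := hev
      obtain ⟨e, he⟩ : ∃ e : Fin m ⊕ Fin 1 ≃ Fin (m + 1), e = finSumFinEquiv := ⟨_, rfl⟩
      obtain ⟨Q, hQ, hq⟩ := exists_col (i := (Sum.inr 0 : Fin m ⊕ Fin 1)) (j := Sum.inl ⟨0, by omega⟩) (by simp)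
        (v := w ∘ e) (fun h => hw (funext fun i => by simpa using congrFun h (e.symm i)))
      have hY' : IsUnit (Y.submatrix e e).det := by rwa [det_submatrix_equiv_self]
      obtain ⟨N, hN⟩ : ∃ N, N = Q⁻¹ * Y.submatrix e e * Q := ⟨_, rfl⟩
      have hcol : N *ᵥ Pi.single (Sum.inr 0) 1 = c • Pi.single (Sum.inr 0) 1 := by
        rw [hN, ← mulVec_mulVec, ← mulVec_mulVec, hq, submatrix_mulVec_equiv, Function.comp_assoc,
          Equiv.self_comp_symm, Function.comp_id, hc, show (c • w) ∘ e = c • (w ∘ e) from rfl, mulVec_smul, ← hq,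
          mulVec_mulVec, nonsing_inv_mul _ hQ, one_mulVec]
      have hshape : N = fromBlocks N.toBlocks₁₁ 0 N.toBlocks₂₁ (c • 1) := by
        ext (i | i) (j | j)
        · simp [toBlocks₁₁]
        · simpa [mulVec_single, Subsingleton.elim j 0] using congrFun hcol (.inl i)
        · simp [toBlocks₂₁]
        · simpa [mulVec_single, Subsingleton.elim i 0, Subsingleton.elim j 0] using congrFun hcol (.inr 0)
      have hN0 : IsUnit N.toBlocks₁₁.det := by
        have hd : IsUnit N.det := by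
          rw [hN, det_mul, det_mul]
          exact ((isUnit_nonsing_inv_det _ hQ).mul hY').mul hQ
        rw [hshape, det_fromBlocks_zero₁₂] at hd
        exact isUnit_of_mul_isUnit_left hd
      obtain ⟨P₁, U₀, hP₁, hU₀, hU₀c, hcy⟩ := ih m (by omega) _ hN0 (Pi.single ⟨0, by omega⟩ 1) (by simp)
        (fun i => β (e (.inl i))) (fun i => hβ _)
      obtain ⟨Y₀, hY₀⟩ : ∃ Y₀, Y₀ = P₁ * N.toBlocks₁₁ * P₁⁻¹ := ⟨_, rfl⟩
      obtain ⟨y, hy⟩ : ∃ y, y = P₁ *ᵥ Pi.single ⟨0, by omega⟩ 1 := ⟨_, rfl⟩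
      rw [← hY₀, ← hy] at hcy
      have hY₀u : IsUnit Y₀.det := by
        rw [hY₀, det_mul, det_mul]
        exact (hP₁.mul hN0).mul (isUnit_nonsing_inv_det _ hP₁)
      have hU₀u : IsUnit U₀.det := by
        rw [det_of_upperTriangular (fun i j h => hU₀.1 i j h), isUnit_iff_ne_zero]
        exact Finset.prod_ne_zero_iff.2 fun i _ => by rw [hU₀.2 i]; exact hβ _
      have hHu : IsUnit (Y₀ * U₀).det := by rw [det_mul]; exact hY₀u.mul hU₀u
      obtain ⟨γ, hγ⟩ : ∃ γ, γ = β (e (.inr 0)) := ⟨_, rfl⟩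
      obtain ⟨u, hu, huR⟩ : ∃ u : Fin m → F, CycV (Y₀ * U₀) (Y₀ *ᵥ u) ∧
          (u ∉ LinearMap.range (Matrix.toLin' (U₀ - γ • 1)) ∨ LinearMap.range (Matrix.toLin' (U₀ - γ • 1)) = ⊤) := by
        by_contra hcon
        push Not at hcon
        have key : ∀ k : ℕ, Y₀⁻¹ *ᵥ ((Y₀ * U₀) ^ k *ᵥ y) ∈ LinearMap.range (Matrix.toLin' (U₀ - γ • 1)) ∧
            LinearMap.range (Matrix.toLin' (U₀ - γ • 1)) ≠ ⊤ := fun k => by
          refine hcon _ ?_
          rw [mulVec_mulVec, mul_nonsing_inv _ hY₀u, one_mulVec]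
          exact hcy.pow_mulVec hHu k
        refine (key 0).2 (Submodule.eq_top_iff'.2 fun v => ?_)
        have hsp : Y₀ *ᵥ v ∈ Submodule.span F (Set.range fun k : Fin (Fintype.card (Fin m)) =>
            (Y₀ * U₀) ^ (k : ℕ) *ᵥ y) := hcy.span_pow ▸ Submodule.mem_top
        have hle : Submodule.span F (Set.range fun k : Fin (Fintype.card (Fin m)) => (Y₀ * U₀) ^ (k : ℕ) *ᵥ y) ≤
            (LinearMap.range (Matrix.toLin' (U₀ - γ • 1))).comap (Matrix.toLin' Y₀⁻¹) := by
          rw [Submodule.span_le]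
          rintro _ ⟨k, rfl⟩
          simpa using (key k).1
        simpa [mulVec_mulVec, nonsing_inv_mul _ hY₀u] using hle hsp
      obtain ⟨D, hD⟩ : ∃ D : Matrix (Fin m ⊕ Fin 1) (Fin m ⊕ Fin 1) F, D = fromBlocks P₁ 0 0 1 := ⟨_, rfl⟩
      have hDu : IsUnit D.det := by rw [hD, det_fromBlocks_zero₂₁, det_one, mul_one]; exact hP₁
      obtain ⟨U, hU⟩ : ∃ U : Matrix (Fin m ⊕ Fin 1) (Fin m ⊕ Fin 1) F,
          U = fromBlocks U₀ (Matrix.replicateCol (Fin 1) u) 0 (γ • 1) := ⟨_, rfl⟩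
      have hDN : D * N * D⁻¹ = fromBlocks Y₀ 0 (N.toBlocks₂₁ * P₁⁻¹) (c • 1) := by
        have hinv : D⁻¹ = fromBlocks P₁⁻¹ 0 0 1 := by
          refine inv_eq_right_inv ?_
          rw [hD, fromBlocks_multiply]; simp [mul_nonsing_inv _ hP₁, fromBlocks_one]
        conv_lhs => rw [hshape, hinv, hD]
        rw [fromBlocks_multiply, fromBlocks_multiply, hY₀]
        simp
      have hcycT : CycV (D * N * D⁻¹ * U) (Sum.elim (0 : Fin m → F) fun _ => 1) := by
        intro W hW hinv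
        have hT : ∀ (p : Fin m → F) (t : F), (D * N * D⁻¹ * U) *ᵥ Sum.elim p (fun _ => t) =
            Sum.elim (Y₀ *ᵥ (U₀ *ᵥ p + t • u)) ((N.toBlocks₂₁ * P₁⁻¹) *ᵥ (U₀ *ᵥ p + t • u) + fun _ => c * (γ * t)) := by
          intro p t
          have hUm : U *ᵥ Sum.elim p (fun _ => t) = Sum.elim (U₀ *ᵥ p + t • u) fun _ => γ * t := by
            rw [hU, fromBlocks_mulVec]
            congr 1
            · simp; funext i; simp [mulVec, dotProduct, replicateCol, mul_comm]
            · funext i; simp [smul_mulVec]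
          rw [← mulVec_mulVec, hUm, hDN, fromBlocks_mulVec]
          congr 1
          · simp
          · funext i; simp [smul_mulVec]
        obtain ⟨V₀, hV₀⟩ : ∃ V₀ : Submodule F (Fin m → F), ∀ p, p ∈ V₀ ↔ Sum.elim p (fun _ : Fin 1 => (0 : F)) ∈ W :=
          ⟨{ carrier := {p | Sum.elim p (fun _ : Fin 1 => (0 : F)) ∈ W}
             add_mem' := fun {a b} ha hb => by
              simp only [Set.mem_setOf_eq] at ha hb ⊢
              have := W.add_mem ha hb
              convert this using 1; funext i; rcases i with i | i <;> simp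
             zero_mem' := by
              simp only [Set.mem_setOf_eq]
              convert W.zero_mem using 1; funext i; rcases i with i | i <;> simp
             smul_mem' := fun c a ha => by
              simp only [Set.mem_setOf_eq] at ha ⊢
              have := W.smul_mem c ha
              convert this using 1; funext i; rcases i with i | i <;> simp }, fun p => Iff.rfl⟩
        have hdrop : ∀ (p : Fin m → F) (q : Fin 1 → F), Sum.elim p q ∈ W → p ∈ V₀ := fun p q hp => by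
          rw [hV₀]
          have := W.sub_mem hp (W.smul_mem (q 0) hW)
          convert this using 1; funext i; rcases i with i | i
          · simp
          · simp [Subsingleton.elim i 0]
        have htop : V₀ = ⊤ := by
          refine hu V₀ ?_ fun p hp => ?_
          · have h1 := hinv _ hW
            rw [hT] at h1
            simpa using hdrop _ _ h1
          · have h1 := hinv _ ((hV₀ p).1 hp)
            rw [hT] at h1
            simpa [mulVec_mulVec] using hdrop _ _ h1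
        refine Submodule.eq_top_iff'.2 fun v => ?_
        have := W.add_mem ((hV₀ (v ∘ Sum.inl)).1 (htop ▸ Submodule.mem_top)) (W.smul_mem (v (.inr 0)) hW)
        convert this using 1
        funext i; rcases i with i | i
        · simp
        · simp [Subsingleton.elim i 0]
      refine ⟨(D * Q⁻¹).submatrix e.symm e.symm, U.submatrix e.symm e.symm, ?_, ?_, ?_, ?_⟩
      · rw [det_submatrix_equiv_self, det_mul]; exact hDu.mul (isUnit_nonsing_inv_det _ hQ)
      · rw [hU, he]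
        exact upp_glue (he ▸ hU₀) (by convert upp_one γ using 1; funext i; rw [hγ, he, Subsingleton.elim i 0])
      · obtain ⟨x, hx⟩ := cyclic_col hU₀c γ huR
        exact ⟨_, (hU ▸ hx).submatrix e.symm⟩
      · have hx := hcycT.submatrix e.symm
        have e1 : (D * Q⁻¹).submatrix e.symm e.symm *ᵥ w = (Sum.elim (0 : Fin m → F) fun _ => 1) ∘ e.symm := by
          rw [submatrix_mulVec_equiv, Equiv.symm_symm, ← hq, mulVec_mulVec, Matrix.mul_assoc, nonsing_inv_mul _ hQ,
            Matrix.mul_one, hD, fromBlocks_mulVec]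
          congr 1
          funext i; rcases i with i | i
          · have h0 : Pi.single (M := fun _ => F) (Sum.inr (0 : Fin 1) : Fin m ⊕ Fin 1) 1 ∘ Sum.inl = 0 := by funext k; simp
            simp [h0]
          · simp [Subsingleton.elim i 0]
        rw [e1]
        convert hx using 1
        have e2 : ((D * Q⁻¹).submatrix e.symm e.symm)⁻¹ = (Q * D⁻¹).submatrix e.symm e.symm := by
          rw [inv_submatrix_equiv, Matrix.mul_inv_rev, nonsing_inv_nonsing_inv _ hQ]
        conv_lhs => rw [e2, show Y = (Y.submatrix e e).submatrix e.symm e.symm by simp]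
        rw [submatrix_mul_equiv, submatrix_mul_equiv, submatrix_mul_equiv, hN]
        simp only [Matrix.mul_assoc]
    push Not at hev
    obtain ⟨e, he⟩ : ∃ e : Fin 1 ⊕ Fin m ≃ Fin (m + 1), e = finSumFinEquiv.trans (finCongr (Nat.add_comm 1 m)) :=
      ⟨_, rfl⟩
    obtain ⟨P₀, r, c, S, hP₀, hp0, hc0, hshape, hS⟩ := exists_border (by omega) (Y := Y.submatrix e e)
      (by rwa [det_submatrix_equiv_self]) (w := w ∘ e) fun t h => hev t (by
        rw [submatrix_mulVec_equiv] at h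
        funext i
        simpa [Function.comp_assoc] using congrFun h (e.symm i))
    obtain ⟨P₁, U₁, hP₁, hU₁, hU₁c, hcy⟩ := ih m (by omega) _ hS c hc0 (fun i => β (e (.inr i))) (fun i => hβ _)
    rw [← schur_conj] at hcy
    obtain ⟨γ, hγ⟩ : ∃ γ, γ = β (e (.inl 0)) := ⟨_, rfl⟩
    obtain ⟨x₁, hx₁⟩ := hU₁c
    obtain ⟨z, hz⟩ : ∃ z : Fin m → F, ∀ φ : Fin m → F, φ ⬝ᵥ x₁ = 0 → φ ᵥ* (U₁ - γ • 1) ≠ z := by
      by_contra hcon
      push Not at hcon
      choose f hf1 hf2 using hcon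
      have hinj : Function.Injective f := fun z z' h => by rw [← hf2 z, ← hf2 z', h]
      have hsurj := Finite.injective_iff_surjective.1 hinj
      refine (show x₁ ≠ 0 from fun h => ?_) (dotProduct_eq_zero _ fun v => ?_)
      · haveI : Nonempty (Fin m) := ⟨⟨0, by omega⟩⟩
        exact hx₁.ne_zero h
      · obtain ⟨z, rfl⟩ := hsurj v
        rw [dotProduct_comm, hf1]
    obtain ⟨U, hU⟩ : ∃ U : Matrix (Fin 1 ⊕ Fin m) (Fin 1 ⊕ Fin m) F,
        U = fromBlocks (γ • 1) (Matrix.replicateRow (Fin 1) z) 0 U₁ := ⟨_, rfl⟩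
    refine ⟨(fromBlocks 1 0 0 P₁ * P₀).submatrix e.symm e.symm, U.submatrix e.symm e.symm, ?_, ?_, ?_, ?_⟩
    · rw [det_submatrix_equiv_self, det_mul, det_fromBlocks_zero₂₁, det_one, one_mul]; exact hP₁.mul hP₀
    · have := upp_glue (a := 1) (b := m) (β := β ∘ finCongr (Nat.add_comm 1 m))
        (A := γ • 1) (B := Matrix.replicateRow (Fin 1) z) (D := U₁)
        (by convert upp_one γ using 1; funext i; rw [hγ, he, Subsingleton.elim i 0]; rfl) (by rw [he] at hU₁; exact hU₁)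
      refine ⟨fun i j hij => ?_, fun i => ?_⟩
      · have h1 := this.1 ((finCongr (Nat.add_comm 1 m)).symm i) ((finCongr (Nat.add_comm 1 m)).symm j) hij
        simpa [hU, he] using h1
      · have h1 := this.2 ((finCongr (Nat.add_comm 1 m)).symm i)
        simpa [hU, he] using h1
    · obtain ⟨x, hx⟩ := cyclic_row hx₁ γ 0 (fun φ hφ h0 => hz φ h0 hφ)
      exact ⟨_, (hU ▸ hx).submatrix e.symm⟩
    · have hx := (cycV_border (z := z) one_ne_zero (hγ ▸ hβ _) hcy).submatrix e.symm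
      rw [← hU, ← conj_border P₁ hP₁, ← hshape] at hx
      have e1 : (fromBlocks 1 0 0 P₁ * P₀).submatrix e.symm e.symm *ᵥ w =
          (Sum.elim (fun _ => 1) (0 : Fin m → F)) ∘ e.symm := by
        rw [submatrix_mulVec_equiv, Equiv.symm_symm, ← mulVec_mulVec, hp0, fromBlocks_mulVec]
        congr 1
        funext i; rcases i with i | i <;> simp
      rw [e1]
      convert hx using 1
      have e2 : ((fromBlocks 1 0 0 P₁ * P₀).submatrix e.symm e.symm)⁻¹ =
          (P₀⁻¹ * (fromBlocks 1 0 0 P₁)⁻¹).submatrix e.symm e.symm := by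
        rw [inv_submatrix_equiv, Matrix.mul_inv_rev]
      conv_lhs => rw [e2, show Y = (Y.submatrix e e).submatrix e.symm e.symm by simp]
      rw [submatrix_mul_equiv, submatrix_mul_equiv, submatrix_mul_equiv]
      simp only [Matrix.mul_assoc]

/-- Rank one changes in the first row change the characteristic polynomial. -/
theorem charpoly_ne {T : Matrix ι ι F} {x u δ : ι → F} {β : F} (hβ : β ≠ 0) (hx : CycV T x) (hu : T *ᵥ x = β • u)
    (hδx : δ ⬝ᵥ x = 0) (hδ : δ ≠ 0) : (T + Matrix.vecMulVec u δ).charpoly ≠ T.charpoly := by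
  intro heq
  obtain ⟨T', hT'⟩ : ∃ T', T' = T + Matrix.vecMulVec u δ := ⟨_, rfl⟩
  rw [← hT'] at heq
  have hstep : ∀ y, T' *ᵥ y = T *ᵥ y + ((δ ⬝ᵥ y) / β) • (T *ᵥ x) := fun y => by
    rw [hT', add_mulVec, vecMulVec_mulVec, hu, smul_smul, div_mul_cancel₀ _ hβ, op_smul_eq_smul]
  obtain ⟨n, hn⟩ : ∃ n, n = Fintype.card ι := ⟨_, rfl⟩
  have hex : ∃ k, k < n ∧ δ ⬝ᵥ (T ^ k *ᵥ x) ≠ 0 := by
    by_contra hcon
    push Not at hcon
    refine hδ (dotProduct_eq_zero _ fun v => ?_)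
    have hv : v ∈ Submodule.span F (Set.range fun k : Fin (Fintype.card ι) => T ^ (k : ℕ) *ᵥ x) :=
      hx.span_pow ▸ Submodule.mem_top
    induction hv using Submodule.span_induction with
    | mem y hy => obtain ⟨k, rfl⟩ := hy; exact hcon k (hn ▸ k.2)
    | zero => simp
    | add a b _ _ ha hb => rw [dotProduct_add, ha, hb, add_zero]
    | smul c a _ ha => rw [dotProduct_smul, ha, smul_zero]
  classical
  obtain ⟨k, hk⟩ : ∃ k, k = Nat.find hex := ⟨_, rfl⟩
  obtain ⟨hkn, hks⟩ := hk ▸ Nat.find_spec hex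
  have hk1 : 1 ≤ k := Nat.one_le_iff_ne_zero.2 fun h => hks (by rw [h, pow_zero, one_mulVec, hδx])
  have hlow : ∀ j, j < k → δ ⬝ᵥ (T ^ j *ᵥ x) = 0 := fun j hj => by
    have := Nat.find_min hex (hk ▸ hj)
    push Not at this
    exact this (by omega)
  have hsame : ∀ j, j ≤ k → T' ^ j *ᵥ x = T ^ j *ᵥ x := by
    intro j hj
    induction j with
    | zero => simp
    | succ j ih =>
      rw [pow_succ', ← mulVec_mulVec, ih (by omega), hstep, hlow j (by omega), zero_div, zero_smul, add_zero,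
        mulVec_mulVec, ← pow_succ']
  obtain ⟨Fl, hFl⟩ : ∃ Fl : ℕ → Submodule F (ι → F), ∀ i, Fl i = Submodule.span F ((fun l => T ^ l *ᵥ x) '' Set.Iio i) :=
    ⟨_, fun _ => rfl⟩
  have hmem : ∀ l i, l < i → T ^ l *ᵥ x ∈ Fl i := fun l i h => (hFl i) ▸ Submodule.subset_span ⟨l, h, rfl⟩
  have hmul : ∀ i y, y ∈ Fl i → T *ᵥ y ∈ Fl (i + 1) := by
    intro i y hy
    rw [hFl] at hy
    induction hy using Submodule.span_induction with
    | mem y hy =>
      obtain ⟨l, hl, rfl⟩ := hy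
      rw [mulVec_mulVec, ← pow_succ']
      exact hmem _ _ (Nat.succ_lt_succ hl)
    | zero => simp
    | add a b _ _ ha hb => rw [mulVec_add]; exact Submodule.add_mem _ ha hb
    | smul c a _ ha => rw [mulVec_smul]; exact Submodule.smul_mem _ c ha
  obtain ⟨s, hs⟩ : ∃ s, s = (δ ⬝ᵥ (T ^ k *ᵥ x)) / β := ⟨_, rfl⟩
  have hs0 : s ≠ 0 := hs ▸ div_ne_zero hks hβ
  have hdiff : ∀ i, 1 ≤ i → T' ^ (k + i) *ᵥ x - T ^ (k + i) *ᵥ x - s • (T ^ i *ᵥ x) ∈ Fl i := by
    intro i hi
    induction i, hi using Nat.le_induction with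
    | base =>
      rw [pow_succ', ← mulVec_mulVec, hsame k le_rfl, hstep, ← hs, pow_one, mulVec_mulVec, ← pow_succ']
      simp
    | succ i hi ih =>
      have e : T' ^ (k + i) *ᵥ x = T ^ (k + i) *ᵥ x + s • (T ^ i *ᵥ x) +
          (T' ^ (k + i) *ᵥ x - T ^ (k + i) *ᵥ x - s • (T ^ i *ᵥ x)) := by abel
      rw [← add_assoc k, pow_succ' T', ← mulVec_mulVec, hstep]
      have h1 := hmul _ _ ih
      rw [mulVec_sub, mulVec_sub, mulVec_smul, mulVec_mulVec _ T (T ^ (k + i)), mulVec_mulVec _ T (T ^ i), ← pow_succ', ← pow_succ'] at h1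
      have h2 : T *ᵥ x ∈ Fl (i + 1) := by simpa using hmem 1 (i + 1) (by omega)
      convert Submodule.add_mem _ h1 (Submodule.smul_mem _ ((δ ⬝ᵥ (T' ^ (k + i) *ᵥ x)) / β) h2) using 1
      abel
  have hdeg : T.charpoly.natDegree = n := hn ▸ charpoly_natDegree_eq_dim T
  have h0 : ∀ M : Matrix ι ι F, M.charpoly = T.charpoly →
      ∑ j ∈ Finset.range (n + 1), T.charpoly.coeff j • (M ^ j *ᵥ x) = 0 := fun M hM => by
    have := aeval_self_charpoly M
    rw [hM, aeval_eq_sum_range, hdeg] at this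
    simpa [sum_mulVec, smul_mulVec] using congrArg (fun X => X *ᵥ x) this
  have hsum : ∑ j ∈ Finset.range (n + 1), T.charpoly.coeff j • (T' ^ j *ᵥ x - T ^ j *ᵥ x) = 0 := by
    simp only [smul_sub, Finset.sum_sub_distrib, h0 T' heq, h0 T rfl, sub_zero]
  obtain ⟨i₀, rfl⟩ : ∃ i, n = k + i := ⟨n - k, by omega⟩
  rw [Finset.sum_range_succ, show T.charpoly.coeff (k + i₀) = 1 from hdeg ▸ T.charpoly_monic.coeff_natDegree, one_smul]
    at hsum
  have hrest : ∑ j ∈ Finset.range (k + i₀), T.charpoly.coeff j • (T' ^ j *ᵥ x - T ^ j *ᵥ x) ∈ Fl i₀ := by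
    refine Submodule.sum_mem _ fun j hj => Submodule.smul_mem _ _ ?_
    rcases le_or_gt j k with hjk | hjk
    · simp [hsame j hjk]
    · obtain ⟨i, rfl⟩ : ∃ i, j = k + i := ⟨j - k, by omega⟩
      rw [Finset.mem_range] at hj
      have h1 := hdiff i (by omega)
      have hle : Fl i ≤ Fl i₀ := by
        rw [hFl, hFl]
        exact Submodule.span_mono (Set.image_mono (Set.Iio_subset_Iio (by omega)))
      have := Submodule.add_mem _ (hle h1) (Submodule.smul_mem _ s (hmem i i₀ (by omega)))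
      simpa using this
  have htop : T ^ i₀ *ᵥ x ∈ Fl i₀ := by
    have h1 := hdiff i₀ (by omega)
    have h2 : s • (T ^ i₀ *ᵥ x) ∈ Fl i₀ := by
      have h3 := Submodule.add_mem _ h1 hrest
      rw [eq_neg_of_add_eq_zero_left hsum] at h3
      simpa [sub_eq_add_neg, add_comm, add_left_comm] using Submodule.neg_mem _ h3
    simpa [smul_smul, hs0] using Submodule.smul_mem _ s⁻¹ h2
  rw [hFl] at htop
  have hi : i₀ < Fintype.card ι := by omega
  refine hx.indep.notMem_span_image (s := {l : Fin (Fintype.card ι) | (l : ℕ) < i₀}) (x := ⟨i₀, hi⟩) (by simp) ?_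
  convert htop using 2
  ext v
  simp only [Set.mem_image, Set.mem_setOf_eq, Set.mem_Iio]
  exact ⟨fun ⟨l, hl, e⟩ => ⟨l, hl, e⟩, fun ⟨l, hl, e⟩ => ⟨⟨l, by omega⟩, hl, e⟩⟩

theorem charpoly_of_upp {n : ℕ} {U : Matrix (Fin n) (Fin n) F} {β : Fin n → F} (h : Upp U β) :
    U.charpoly = ∏ i, (Polynomial.X - C (β i)) := by
  rw [charpoly_of_upperTriangular U fun i j hij => h.1 i j hij]
  exact Finset.prod_congr rfl fun i _ => by rw [h.2 i]

theorem det_of_upp {n : ℕ} {U : Matrix (Fin n) (Fin n) F} {β : Fin n → F} (h : Upp U β) : U.det = ∏ i, β i := by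
  rw [det_of_upperTriangular fun i j hij => h.1 i j hij]
  exact Finset.prod_congr rfl fun i _ => h.2 i

/-- The factorisation of Lev: a cyclic product with any characteristic polynomial. -/
theorem lev_eig {m : ℕ} (hm : 1 ≤ m) {Y : Matrix (Fin 1 ⊕ Fin m) (Fin 1 ⊕ Fin m) F} (hYn : NonScalar Y)
    (hY : IsUnit Y.det) {b : F} (hb : b ≠ 0) {β : Fin m → F} (hβ : ∀ i, β i ≠ 0) (hbβ : ∀ i, β i ≠ b)
    {f : F[X]} (hf : f.Monic) (hdeg : f.natDegree = 1 + m)
    (hcoeff : f.coeff 0 = (-1) ^ (1 + m) * (Y.det * (b * ∏ i, β i))) :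
    ∃ P U : Matrix (Fin 1 ⊕ Fin m) (Fin 1 ⊕ Fin m) F, IsUnit P.det ∧ Cyclic U ∧
      U.charpoly = (Polynomial.X - C b) * ∏ i, (Polynomial.X - C (β i)) ∧ U.det = b * ∏ i, β i ∧
      CycV (P * Y * P⁻¹ * U) (Sum.elim (fun _ => 1) 0) ∧ (P * Y * P⁻¹ * U).charpoly = f ∧
      U *ᵥ Sum.elim (fun _ => 1) 0 = b • Sum.elim (fun _ => 1) 0 ∧
      ∀ w, U *ᵥ w = b • w → w ∘ Sum.inr = 0 := by
  classical
  obtain ⟨v, hv⟩ := hYn.exists_vec
  obtain ⟨P₀, r, c, S, hP₀, hp0, hc0, hshape, hS⟩ := exists_border hm hY hv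
  obtain ⟨P₁, U₁, hP₁, hU₁, hU₁c, hcy⟩ := exists_cyc m _ hS c hc0 β hβ
  rw [← schur_conj] at hcy
  obtain ⟨P, hP⟩ : ∃ P, P = fromBlocks 1 0 0 P₁ * P₀ := ⟨_, rfl⟩
  have hPu : IsUnit P.det := by
    rw [hP, det_mul, det_fromBlocks_zero₂₁, det_one, one_mul]; exact hP₁.mul hP₀
  have hN : P * Y * P⁻¹ = fromBlocks ((1 : F) • 1) (Matrix.replicateRow (Fin 1) (r ᵥ* P₁⁻¹))
      (Matrix.replicateCol (Fin 1) (P₁ *ᵥ c)) (P₁ * S * P₁⁻¹) := by
    rw [← conj_border P₁ hP₁, ← hshape, hP, Matrix.mul_inv_rev]; simp only [Matrix.mul_assoc]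
  obtain ⟨U, hU⟩ : ∃ U : (Fin m → F) → Matrix (Fin 1 ⊕ Fin m) (Fin 1 ⊕ Fin m) F,
      ∀ z, U z = fromBlocks (b • 1) (Matrix.replicateRow (Fin 1) z) 0 U₁ := ⟨_, fun _ => rfl⟩
  have hUdet : ∀ z, (U z).det = b * ∏ i, β i := fun z => by
    rw [hU, det_fromBlocks_zero₂₁, det_of_upp hU₁]; simp
  have hUpoly : ∀ z, (U z).charpoly = (Polynomial.X - C b) * ∏ i, (Polynomial.X - C (β i)) := fun z => by
    rw [hU, charpoly_fromBlocks_zero₂₁, charpoly_of_upp hU₁]
    congr 1
    rw [← Matrix.diagonal_one, ← Matrix.diagonal_smul, charpoly_diagonal]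
    simp
  have hUc : ∀ z, Cyclic (U z) := by
    intro z
    obtain ⟨x₁, hx₁⟩ := hU₁c
    have hB : IsUnit (U₁ - b • 1).det := by
      rw [det_of_upperTriangular (fun i j hij => by simp [hU₁.1 i j hij, Matrix.one_apply, (show i ≠ j from fun h => by simp [h] at hij)]), isUnit_iff_ne_zero]
      exact Finset.prod_ne_zero_iff.2 fun i _ => by simpa [hU₁.2 i, sub_ne_zero] using hbβ i
    rw [hU]
    refine cyclic_row hx₁ b ((z ᵥ* (U₁ - b • 1)⁻¹) ⬝ᵥ x₁ + 1) fun φ hφ h0 => ?_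
    rw [← hφ, vecMul_vecMul, mul_nonsing_inv _ hB, vecMul_one] at h0
    simp at h0
  obtain ⟨T, hT⟩ : ∃ T : (Fin m → F) → Matrix (Fin 1 ⊕ Fin m) (Fin 1 ⊕ Fin m) F, ∀ z, T z = P * Y * P⁻¹ * U z :=
    ⟨_, fun _ => rfl⟩
  have hTc : ∀ z, CycV (T z) (Sum.elim (fun _ => 1) (0 : Fin m → F)) := fun z => by
    rw [hT, hN, hU]; exact cycV_border one_ne_zero hb hcy
  have hTdet : ∀ z, (T z).det = Y.det * (b * ∏ i, β i) := fun z => by
    rw [hT, det_mul, hUdet, det_conj ((isUnit_iff_isUnit_det _).2 hPu)]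
  have hTdeg : ∀ z, (T z).charpoly.natDegree = 1 + m := fun z => by rw [charpoly_natDegree_eq_dim]; simp
  have hT0 : ∀ z, (T z).charpoly.coeff 0 = f.coeff 0 := fun z => by
    have := det_eq_sign_charpoly_coeff (T z)
    rw [hTdet] at this
    rw [hcoeff, this, ← mul_assoc, ← pow_add]
    simp
  obtain ⟨g, hg⟩ : ∃ g : (Fin m → F) → (Fin m → F), ∀ z i, g z i = (T z).charpoly.coeff (i + 1) :=
    ⟨fun z i => (T z).charpoly.coeff (i + 1), fun _ _ => rfl⟩
  have hext : ∀ (p q : F[X]), p.Monic → q.Monic → p.natDegree = 1 + m → q.natDegree = 1 + m →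
      p.coeff 0 = q.coeff 0 → (∀ i : Fin m, p.coeff (i + 1) = q.coeff (i + 1)) → p = q := by
    intro p q hp hq dp dq e0 e1
    refine Polynomial.ext fun j => ?_
    rcases Nat.eq_zero_or_pos j with rfl | hj
    · exact e0
    rcases lt_trichotomy j (1 + m) with h | rfl | h
    · have := e1 ⟨j - 1, by omega⟩
      simpa [Nat.sub_add_cancel hj] using this
    · have := hp.coeff_natDegree; have := hq.coeff_natDegree; simp_all
    · rw [coeff_eq_zero_of_natDegree_lt (by omega), coeff_eq_zero_of_natDegree_lt (by omega)]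
  have hinj : Function.Injective g := by
    intro z z' hzz
    by_contra hne
    have hp : (T z').charpoly = (T z).charpoly := hext _ _ (charpoly_monic _) (charpoly_monic _) (hTdeg _) (hTdeg _)
      (by rw [hT0, hT0]) fun i => by rw [← hg, ← hg, hzz]
    obtain ⟨u, hu⟩ : ∃ u, u = (P * Y * P⁻¹) *ᵥ Sum.elim (fun _ => 1) (0 : Fin m → F) := ⟨_, rfl⟩
    refine charpoly_ne hb (hTc z) (u := u) (δ := Sum.elim (fun _ => 0) (z' - z)) ?_ ?_ ?_ ?_
    · rw [hT, hu, hU, ← mulVec_mulVec, fromBlocks_mulVec, ← mulVec_smul]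
      congr 1
      funext i; rcases i with i | i <;> simp [smul_mulVec]
    · simp [dotProduct]
    · intro h
      refine hne ?_
      funext i
      have := congrFun h (.inr i)
      simp [sub_eq_zero] at this
      exact this.symm
    · rw [← hp]
      congr 1
      rw [hT, hT, hu, ← mul_vecMulVec, ← Matrix.mul_add]
      congr 1
      rw [hU, hU]
      ext (i | i) (j | j) <;> simp [vecMulVec_apply]
  obtain ⟨z, hz⟩ := (Finite.injective_iff_surjective.1 hinj) fun i => f.coeff (i + 1)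
  refine ⟨P, U z, hPu, hUc z, hUpoly z, hUdet z, hT z ▸ hTc z, ?_, ?_, fun w hw => ?_⟩
  · rw [← hT]
    exact hext _ _ (charpoly_monic _) hf (hTdeg z) hdeg (hT0 z) fun i => by rw [← hg, hz]
  · rw [hU, fromBlocks_mulVec]
    funext i; rcases i with i | i <;> simp [smul_mulVec]
  · have hB : IsUnit (U₁ - b • 1).det := by
      rw [det_of_upperTriangular (fun i j hij => by simp [hU₁.1 i j hij, Matrix.one_apply, (show i ≠ j from fun h => by simp [h] at hij)]), isUnit_iff_ne_zero]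
      exact Finset.prod_ne_zero_iff.2 fun i _ => by simpa [hU₁.2 i, sub_ne_zero] using hbβ i
    have h0 : (U₁ - b • 1) *ᵥ (w ∘ Sum.inr) = 0 := by
      funext i
      have := congrFun hw (.inr i)
      rw [hU, fromBlocks_mulVec] at this
      simpa [sub_mulVec, smul_mulVec, sub_eq_zero] using this
    have h1 := congrArg ((U₁ - b • 1)⁻¹ *ᵥ ·) h0
    simp only [mulVec_mulVec, mulVec_zero] at h1
    rwa [nonsing_inv_mul _ hB, one_mulVec] at h1

/-- The factorisation of Lev: a cyclic product with any characteristic polynomial. -/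
theorem lev {m : ℕ} (hm : 1 ≤ m) {Y : Matrix (Fin 1 ⊕ Fin m) (Fin 1 ⊕ Fin m) F} (hYn : NonScalar Y)
    (hY : IsUnit Y.det) {b : F} (hb : b ≠ 0) {β : Fin m → F} (hβ : ∀ i, β i ≠ 0) (hbβ : ∀ i, β i ≠ b)
    {f : F[X]} (hf : f.Monic) (hdeg : f.natDegree = 1 + m)
    (hcoeff : f.coeff 0 = (-1) ^ (1 + m) * (Y.det * (b * ∏ i, β i))) :
    ∃ P U : Matrix (Fin 1 ⊕ Fin m) (Fin 1 ⊕ Fin m) F, IsUnit P.det ∧ Cyclic U ∧
      U.charpoly = (Polynomial.X - C b) * ∏ i, (Polynomial.X - C (β i)) ∧ U.det = b * ∏ i, β i ∧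
      Cyclic (P * Y * P⁻¹ * U) ∧ (P * Y * P⁻¹ * U).charpoly = f := by
  obtain ⟨P, U, h1, h2, h3, h4, h5, h6, -, -⟩ := lev_eig hm hYn hY hb hβ hbβ hf hdeg hcoeff
  exact ⟨P, U, h1, h2, h3, h4, ⟨_, h5⟩, h6⟩

end CfsgLib.SLCover
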