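import Mathlib

/-!
# Products of fewer than `n` conjugates of a transvection do not cover `PSL(n, q)`
-/

set_option autoImplicit false
set_option linter.unusedSectionVars false
set_option linter.unusedSimpArgs false

namespace CfsgLib.SLCover

open Matrix

/-- The companion matrix of `X ^ (m + 1) - a X - k`. -/
def lbMat {F : Type*} [Field F] {m : ℕ} (a k : F) : Matrix (Fin (m + 1)) (Fin (m + 1)) F :=
  Matrix.of fun i => Fin.lastCases (if i = 0 then k else if (i : ℕ) = 1 then a else 0)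
    fun j => if i = j.succ then (1 : F) else 0

theorem lbMat_det {F : Type*} [Field F] {m : ℕ} (a k : F) : (lbMat (m := m) a k).det = (-1) ^ m * k := by
  rw [det_succ_row_zero, Finset.sum_eq_single (Fin.last m)]
  · have h : (lbMat (m := m) a k).submatrix Fin.succ (Fin.last m).succAbove = 1 := by
      ext i j
      simp [lbMat, Fin.succAbove_last, one_apply]
    rw [h, det_one]
    simp [lbMat]
  · intro j _ hj
    obtain ⟨j', rfl⟩ := Fin.exists_castSucc_eq.2 hj
    simp [lbMat, (Fin.succ_ne_zero j').symm]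
  · simp

theorem lbMat_eigen {F : Type*} [Field F] {m : ℕ} (hm : 1 ≤ m) (a k l : F) {v : Fin (m + 1) → F} (hv : v ≠ 0)
    (h : lbMat a k *ᵥ v = l • v) : l ^ (m + 1) - a * l - k = 0 := by
  have h0 : k * v (Fin.last m) = l * v 0 := by
    have := congrFun h 0
    rw [mulVec, dotProduct, Fin.sum_univ_castSucc] at this
    simpa [lbMat, (Fin.succ_ne_zero _).symm] using this
  have hs : ∀ t : Fin m, v t.castSucc + (if (t : ℕ) = 0 then a else 0) * v (Fin.last m) = l * v t.succ := by
    intro t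
    have := congrFun h t.succ
    rw [mulVec, dotProduct, Fin.sum_univ_castSucc] at this
    simpa [lbMat, Fin.succ_ne_zero, ite_mul, Finset.sum_ite_eq] using this
  have hp : ∀ i : Fin (m + 1), (i : ℕ) ≠ 0 → v i = l ^ (m - i : ℕ) * v (Fin.last m) := by
    intro i
    induction i using Fin.reverseInduction with
    | last => simp
    | cast t ih =>
      intro ht
      simp only [Fin.val_castSucc] at ht ⊢
      have e := hs t
      rw [if_neg ht, zero_mul, add_zero, ih (by simp), Fin.val_succ, ← mul_assoc, ← pow_succ'] at e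
      rw [e, show m - ((t : ℕ) + 1) + 1 = m - t by omega]
  have hz : v 0 = (l ^ m - a) * v (Fin.last m) := by
    have e := hs ⟨0, hm⟩
    rw [hp (Fin.succ ⟨0, hm⟩) (by simp)] at e
    simp only [Fin.succ_mk, zero_add, if_true] at e
    rw [show (Fin.castSucc ⟨0, hm⟩ : Fin (m + 1)) = 0 from rfl, ← mul_assoc, ← pow_succ',
      show m - 1 + 1 = m by omega] at e
    linear_combination e
  have hlast : v (Fin.last m) ≠ 0 := by
    intro h1
    apply hv
    funext i
    rcases eq_or_ne i 0 with rfl | hi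
    · rw [hz, h1, mul_zero]; rfl
    · rw [hp i (fun e => hi (Fin.ext e)), h1, mul_zero]; rfl
  refine (mul_eq_zero.1 ?_).resolve_right hlast
  rw [hz] at h0
  linear_combination (-1 : F) * h0

/-- A determinant one matrix without eigenvalue. -/
theorem exists_noEigen {F : Type*} [Field F] [Fintype F] {n : ℕ} (hn : 2 ≤ n) :
    ∃ M : Matrix (Fin n) (Fin n) F, M.det = 1 ∧ ∀ (l : F) (v : Fin n → F), M *ᵥ v = l • v → v = 0 := by
  classical
  obtain ⟨m, rfl⟩ : ∃ m, n = m + 1 := ⟨n - 1, by omega⟩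
  obtain ⟨a, ha⟩ : ∃ a : F, ∀ l : F, l ^ (m + 1) - a * l - (-1) ^ m ≠ 0 := by
    by_contra hcon
    push Not at hcon
    choose r hr using hcon
    have hr0 : ∀ a, r a ≠ 0 := fun a e => by
      have := hr a
      rw [e] at this
      simp [zero_pow (Nat.succ_ne_zero m)] at this
    have hinj : Function.Injective r := fun a b e => by
      have h1 := hr a
      have h2 := hr b
      rw [e] at h1
      have : (a - b) * r b = 0 := by linear_combination h2 - h1
      exact sub_eq_zero.1 ((mul_eq_zero.1 this).resolve_right (hr0 b))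
    obtain ⟨a, e⟩ := (Finite.injective_iff_surjective.1 hinj) 0
    exact hr0 a e
  refine ⟨lbMat a ((-1) ^ m), ?_, fun l v h => by_contra fun hv => ha l (lbMat_eigen (by omega) _ _ l hv h)⟩
  rw [lbMat_det, ← pow_add, Even.neg_one_pow ⟨m, rfl⟩]

theorem prod_fix {F : Type*} [Field F] {n : ℕ} {v : Fin n → F} :
    ∀ L : List (Matrix.SpecialLinearGroup (Fin n) F), (∀ X ∈ L, (X : Matrix (Fin n) (Fin n) F) *ᵥ v = v) →
      (L.prod : Matrix (Fin n) (Fin n) F) *ᵥ v = v
  | [], _ => by simp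
  | X :: L, h => by
    rw [List.prod_cons, Matrix.SpecialLinearGroup.coe_mul, ← mulVec_mulVec, prod_fix L fun Y hY => h Y (List.mem_cons_of_mem _ hY),
      h X (List.mem_cons_self ..)]

/-- The lower bound for the covering number of `PSL(n, q)`. -/
theorem psl_lower_bound {F : Type*} [Field F] [Fintype F] (h4 : 4 ≤ Fintype.card F) (n : ℕ) (hn : 3 ≤ n) :
    ∃ x : Matrix.ProjectiveSpecialLinearGroup (Fin n) F, x ≠ 1 ∧ ∃ g : Matrix.ProjectiveSpecialLinearGroup (Fin n) F,
      ∀ f : Fin (n - 1) → Matrix.ProjectiveSpecialLinearGroup (Fin n) F,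
        g ≠ (List.ofFn fun i => f i * x * (f i)⁻¹).prod := by
  classical
  obtain ⟨i, j, hij⟩ : ∃ i j : Fin n, i ≠ j := ⟨⟨0, by omega⟩, ⟨1, by omega⟩, by simp⟩
  obtain ⟨t, ht⟩ : ∃ t : Matrix.SpecialLinearGroup (Fin n) F, (t : Matrix (Fin n) (Fin n) F) = transvection i j 1 :=
    ⟨⟨_, det_transvection_of_ne i j hij 1⟩, rfl⟩
  obtain ⟨M, hM, hM'⟩ := exists_noEigen (F := F) (n := n) (by omega)
  obtain ⟨g, hg⟩ : ∃ g : Matrix.SpecialLinearGroup (Fin n) F, (g : Matrix (Fin n) (Fin n) F) = M := ⟨⟨M, hM⟩, rfl⟩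
  refine ⟨QuotientGroup.mk t, ?_, QuotientGroup.mk g, ?_⟩
  · intro hx
    obtain ⟨r, -, hr⟩ := Matrix.SpecialLinearGroup.mem_center_iff.1 ((QuotientGroup.eq_one_iff t).1 hx)
    have := congrFun (congrFun hr i) j
    rw [ht] at this
    simp [transvection, hij] at this
  intro f hf
  choose P hP using fun k => QuotientGroup.mk_surjective (f k)
  obtain ⟨Q, hQ⟩ : ∃ Q : Matrix.SpecialLinearGroup (Fin n) F, Q = (List.ofFn fun k => P k * t * (P k)⁻¹).prod := ⟨_, rfl⟩
  have hmk : (QuotientGroup.mk g : Matrix.ProjectiveSpecialLinearGroup (Fin n) F) = QuotientGroup.mk Q := by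
    rw [hf, hQ]
    show _ = QuotientGroup.mk' _ _
    rw [map_list_prod, List.map_ofFn]
    congr 2
    funext k
    simp [← hP k]
  obtain ⟨r, hr, hr'⟩ := Matrix.SpecialLinearGroup.mem_center_iff.1 (QuotientGroup.eq.1 hmk)
  have hr0 : r ≠ 0 := by
    rintro rfl
    rw [zero_pow (by simp; omega)] at hr
    exact zero_ne_one hr
  have hQM : (Q : Matrix (Fin n) (Fin n) F) = r • M := by
    have h : M * scalar (Fin n) r = (Q : Matrix (Fin n) (Fin n) F) := by
      rw [hr', ← hg, ← Matrix.SpecialLinearGroup.coe_mul, mul_inv_cancel_left]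
    rw [← h, scalar_apply, ← smul_one_eq_diagonal, Matrix.mul_smul, Matrix.mul_one]
  obtain ⟨φ, hφ⟩ : ∃ φ : (Fin n → F) →ₗ[F] (Fin (n - 1) → F),
      ∀ v k, φ v k = (((P k)⁻¹ : Matrix.SpecialLinearGroup (Fin n) F) *ᵥ v : Fin n → F) j :=
    ⟨LinearMap.pi fun k => (LinearMap.proj j).comp (Matrix.toLin' (((P k)⁻¹ : Matrix.SpecialLinearGroup (Fin n) F) :
      Matrix (Fin n) (Fin n) F)), fun v k => by simp [Matrix.toLin'_apply]⟩
  obtain ⟨v, hv, hv0⟩ : ∃ v, v ∈ LinearMap.ker φ ∧ v ≠ 0 := by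
    refine Submodule.exists_mem_ne_zero_of_ne_bot (LinearMap.ker_ne_bot_of_finrank_lt ?_)
    simp [Module.finrank_pi]
    omega
  have hfix : (Q : Matrix (Fin n) (Fin n) F) *ᵥ v = v := by
    rw [hQ]
    refine prod_fix _ fun X hX => ?_
    obtain ⟨k, rfl⟩ := List.mem_ofFn.1 hX
    have hk : (((P k)⁻¹ : Matrix.SpecialLinearGroup (Fin n) F) *ᵥ v : Fin n → F) j = 0 := by
      rw [← hφ, LinearMap.mem_ker.1 hv]; rfl
    rw [Matrix.SpecialLinearGroup.coe_mul, Matrix.SpecialLinearGroup.coe_mul, ← mulVec_mulVec, ← mulVec_mulVec, ht]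
    have key : ∀ w : Fin n → F, w j = 0 → transvection i j (1 : F) *ᵥ w = w := by
      intro w hw
      rw [transvection, add_mulVec, one_mulVec]
      funext l
      simp [single_mulVec, Function.update_apply, hw]
    have htv := key _ hk
    rw [htv, mulVec_mulVec, ← Matrix.SpecialLinearGroup.coe_mul, mul_inv_cancel, Matrix.SpecialLinearGroup.coe_one, one_mulVec]
  rw [hQM, smul_mulVec] at hfix
  refine hv0 (hM' r⁻¹ v ?_)
  conv_rhs => rw [← hfix]
  rw [smul_smul, inv_mul_cancel₀ hr0, one_smul]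

end CfsgLib.SLCover
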