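import Cfsg.Agent.Lib.Classical.SLCover.Four

/-!
# Matrices without eigenvectors
-/

set_option autoImplicit false
set_option linter.unusedSectionVars false
set_option linter.unusedSimpArgs false

namespace CfsgLib.SLCover

open Matrix Polynomial

set_option maxHeartbeats 1000000

variable {F : Type*} [Field F] [Fintype F] {ι κ : Type} [Fintype ι] [DecidableEq ι] [Fintype κ] [DecidableEq κ]

/-- The twist between the two conjugates. -/
def Jtw (F : Type*) [Field F] (m o : ℕ) : Matrix (J3 m o) (J3 m o) F :=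
  fromBlocks (fromBlocks 0 0 0 1) (Matrix.fromRows 1 0) (Matrix.fromCols (-1 : Matrix (Fin m) (Fin m) F) 0) 0

theorem det_jtw (m o : ℕ) : (Jtw F m o).det = 1 := by
  have e : Jtw F m o = fromBlocks 1 (Matrix.fromRows (1 : Matrix (Fin m) (Fin m) F) (0 : Matrix (Fin o) (Fin m) F)) 0 1 * fromBlocks 1 0 (Matrix.fromCols (-1 : Matrix (Fin m) (Fin m) F) (0 : Matrix (Fin m) (Fin o) F)) 1 *
      fromBlocks 1 (Matrix.fromRows (1 : Matrix (Fin m) (Fin m) F) (0 : Matrix (Fin o) (Fin m) F)) 0 1 := by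
    simp only [Jtw, fromBlocks_multiply, Matrix.one_mul, Matrix.mul_one, Matrix.zero_mul, Matrix.mul_zero, add_zero,
      zero_add]
    rw [fromBlocks_inj]
    have h1 : (Matrix.fromRows (1 : Matrix (Fin m) (Fin m) F) (0 : Matrix (Fin o) (Fin m) F)) *
        Matrix.fromCols (-1 : Matrix (Fin m) (Fin m) F) (0 : Matrix (Fin m) (Fin o) F) = fromBlocks (-1) 0 0 0 := by
      rw [fromRows_mul_fromCols]; simp
    refine ⟨?_, ?_, by simp, ?_⟩
    · rw [h1, ← fromBlocks_one, fromBlocks_add]; simp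
    · rw [Matrix.add_mul, Matrix.one_mul, h1, fromBlocks_mul_fromRows]
      ext (i | i) j <;> simp
    · rw [fromCols_mul_fromRows]; simp
  rw [e, det_mul, det_mul, det_fromBlocks_zero₂₁, det_fromBlocks_zero₁₂]
  simp

/-- Scaling on a frame. -/
def Kdg {m o : ℕ} (K₁ : Matrix (Fin m) (Fin m) F) (σ : F) (K₂ : Matrix (Fin m) (Fin m) F) :
    Matrix (J3 m o) (J3 m o) F := fromBlocks (fromBlocks K₁ 0 0 (σ • 1)) 0 0 K₂

/-- Two conjugates with a block triangular product. -/
theorem exists_tri {m o : ℕ} {X : Matrix (Fin m) (Fin m) F} {z : Matrix (Fin o) (Fin m) F}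
    {y : Matrix (Fin m) (Fin o) F} {Y C V : Matrix (Fin m) (Fin m) F} {σ : F} (hC : IsUnit C.det) (hV : IsUnit V.det)
    (hσ : σ ≠ 0) :
    ∃ (e : Matrix (Fin o) (Fin m) F) (E : Matrix (Fin m) (Fin m ⊕ Fin o) F) (A2 : Matrix (J3 m o) (J3 m o) F),
      GCls (Mfrm X z y Y) A2 ∧
      ((-(V * C)).det * σ ^ o * C.det = 1 → SCls (Mfrm X z y Y) A2) ∧
      Mfrm X z y Y * A2 = fromBlocks (fromBlocks (X * (C * X * C⁻¹) * V⁻¹) 0 e 1) 0 E V := by
  obtain ⟨K, hK⟩ : ∃ K : Matrix (J3 m o) (J3 m o) F, K = Kdg (-(V * C)) σ C := ⟨_, rfl⟩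
  have hKd : K.det = (-(V * C)).det * σ ^ o * C.det := by
    rw [hK, Kdg, det_fromBlocks_zero₁₂, det_fromBlocks_zero₁₂, det_smul, det_one, Fintype.card_fin, mul_one]
  obtain ⟨A2, hA2⟩ : ∃ A2 : Matrix (J3 m o) (J3 m o) F, A2 = fromBlocks
      (fromBlocks (V * C * Y * (C⁻¹ * V⁻¹)) (-(σ⁻¹ • (V * C * y))) (-(σ • (z * (C⁻¹ * V⁻¹)))) 1)
      (Matrix.fromRows V 0) (Matrix.fromCols (C * X * (C⁻¹ * V⁻¹)) 0) 0 := ⟨_, rfl⟩
  have heq : A2 * (K * Jtw F m o) = K * Jtw F m o * Mfrm X z y Y := by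
    have c1 : C⁻¹ * V⁻¹ * (V * C) = 1 := by
      rw [Matrix.mul_assoc, nonsing_inv_mul_cancel_left _ _ hV, nonsing_inv_mul _ hC]
    rw [hK, hA2, Kdg, Jtw, Mfrm]
    ext ((i | i) | i) ((j | j) | j) <;>
      simp [fromBlocks_multiply, fromBlocks_mul_fromRows, fromCols_mul_fromBlocks, fromRows_mul, mul_fromCols,
        fromCols_mul_fromRows, fromRows_mul_fromCols, Matrix.mul_assoc, c1, smul_smul, hσ,
        Matrix.one_apply]
  have hu : IsUnit (K * Jtw F m o).det := by
    rw [det_mul, det_jtw, mul_one, hKd, det_neg, det_mul, isUnit_iff_ne_zero]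
    simp [hC.ne_zero, hV.ne_zero, hσ]
  obtain ⟨P, hP⟩ : ∃ P, P = Mfrm X z y Y * A2 := ⟨_, rfl⟩
  refine ⟨P.toBlocks₁₁.toBlocks₂₁, P.toBlocks₂₁, A2, ⟨_, hu, heq⟩,
    fun h => ⟨_, by rw [det_mul, det_jtw, mul_one, hKd, h], heq⟩, ?_⟩
  rw [← hP]
  have e : X * (C * X * (C⁻¹ * V⁻¹)) = X * (C * X * C⁻¹) * V⁻¹ := by simp only [Matrix.mul_assoc]
  ext ((i | i) | i) ((j | j) | j) <;>
    simp [hP, hA2, Mfrm, toBlocks₁₁, toBlocks₂₁, fromBlocks_multiply, fromBlocks_mul_fromRows, fromCols_mul_fromBlocks,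
      fromRows_mul, mul_fromCols, fromCols_mul_fromRows, fromRows_mul_fromCols, e]

theorem exists_companion {m : ℕ} (hm : 1 ≤ m) {f : F[X]} (hf : f.Monic) (hdeg : f.natDegree = m)
    (h0 : f.coeff 0 ≠ 0) : ∃ T : Matrix (Fin m) (Fin m) F, Cyclic T ∧ T.charpoly = f := by
  obtain ⟨n, rfl⟩ : ∃ n, m = n + 1 := ⟨m - 1, by omega⟩
  obtain ⟨M, hM, x, hx⟩ := exists_upp (F := F) (n + 1) hm (fun _ => 1) fun _ => one_ne_zero
  have hMd : M.det = 1 := by rw [det_of_upp hM]; simp
  obtain ⟨φ, -, hc, hp⟩ := exists_update hx (by rw [hMd]; exact isUnit_one) (by simp) hf hdeg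
    (e := (-1) ^ (n + 1) * f.coeff 0 - 1) (by simp [h0]) (by
      rw [hMd, one_mul, add_sub_cancel, ← mul_assoc, ← pow_add]; simp)
  exact ⟨_, ⟨x, hc⟩, hp⟩

/-- Splitting off a cyclic matrix with prescribed roots. -/
theorem exists_split {m : ℕ} {G : Matrix (Fin m) (Fin m) F} (hGn : NonScalar G) (hG : IsUnit G.det) {T0 : Matrix (Fin m) (Fin m) F}
    (hT0 : Cyclic T0) (hm : 2 ≤ m) {b : F} {l : List F} (hl : l.length + 1 = m) (hb : b ∉ l) (h0 : (0 : F) ∉ b :: l)
    (hdet : T0.det * (b * l.prod) = G.det) :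
    ∃ T V : Matrix (Fin m) (Fin m) F, GCls T0 T ∧ Cyclic V ∧ HasRoots V (b :: l) ∧ IsUnit V.det ∧ G * V⁻¹ = T := by
  simp only [List.mem_cons, not_or] at h0
  have hp : b * l.prod ≠ 0 := mul_ne_zero (Ne.symm h0.1) (by rw [Ne, List.prod_eq_zero_iff]; exact h0.2)
  have hlinv : ∀ t : List F, (t.map (·⁻¹)).prod = t.prod⁻¹ := by
    intro t; induction t with
    | nil => simp
    | cons a t ih => simp [ih, mul_comm]
  obtain ⟨P, U, hP, hUc, hUr, hT⟩ := lev_list (by simp; omega) hGn hG hT0 (b := b⁻¹) (l := l.map (·⁻¹))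
    (by simpa using hl) (by simpa using hb) (by simp [h0.1, Ne.symm h0.1, h0.2]) (by
      rw [hlinv, ← hdet]
      field_simp [mul_ne_zero_iff.1 hp |>.1, mul_ne_zero_iff.1 hp |>.2])
  have hUu : IsUnit U.det := by
    rw [hUr.det, isUnit_iff_ne_zero, Ne, List.prod_eq_zero_iff]
    simp [h0.1, Ne.symm h0.1, h0.2]
  have hU0 : (0 : F) ∉ b⁻¹ :: l.map (·⁻¹) := by simp [h0.1, Ne.symm h0.1, h0.2]
  obtain ⟨W, hW⟩ : ∃ W, W = P⁻¹ * U * P := ⟨_, rfl⟩
  have hPi := isUnit_nonsing_inv_det _ hP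
  have hgW : GCls U W := by
    have := GCls.of_conj U hPi
    rwa [nonsing_inv_nonsing_inv _ hP, ← hW] at this
  have hWu : IsUnit W.det := by rw [hgW.det_eq]; exact hUu
  refine ⟨G * W, W⁻¹, ?_, (hUc.gcls hgW).inv hWu, ?_, isUnit_nonsing_inv_det _ hWu, ?_⟩
  · refine hT.trans ?_
    have := GCls.of_conj (P * G * P⁻¹ * U) hPi
    rw [nonsing_inv_nonsing_inv _ hP] at this
    convert this using 1
    rw [hW]
    simp only [Matrix.mul_assoc, nonsing_inv_mul_cancel_left _ _ hP]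
  · have := (hUr.gcls hgW).inv (hUc.gcls hgW) hU0
    simpa [List.map_map, Function.comp_def] using this
  · rw [nonsing_inv_nonsing_inv _ hWu]

theorem hasRoots_one (o : ℕ) : HasRoots (1 : Matrix (Fin o) (Fin o) F) (List.replicate o 1) := by
  rw [HasRoots, charpoly_one, List.map_replicate, List.prod_replicate, Fintype.card_fin]
  simp

theorem cyclic_tiny {o : ℕ} (ho : o ≤ 1) : Cyclic (1 : Matrix (Fin o) (Fin o) F) := by
  haveI : Subsingleton (Fin o) := Fin.subsingleton_iff_le_one.2 ho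
  refine ⟨fun _ => 1, fun W hW _ => Submodule.eq_top_iff'.2 fun y => ?_⟩
  obtain rfl | rfl : o = 0 ∨ o = 1 := by omega
  · convert W.zero_mem using 1
  · convert W.smul_mem (y 0) hW using 1
    funext i; simp [Subsingleton.elim i 0]

theorem exists_poly (h4 : 4 ≤ Fintype.card F) {m : ℕ} (hm : 2 ≤ m) {c₀ : F} {S : Finset F} (hS : S.card ≤ 3)
    (h0 : (0 : F) ∉ S) : ∃ f : F[X], f.Monic ∧ f.natDegree = m ∧ f.coeff 0 = c₀ ∧ ∀ r ∈ S, f.eval r ≠ 0 := by
  classical
  obtain ⟨t, ht⟩ : ∃ t : F, t ∉ S.image fun r => -(r ^ m + c₀) / r := by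
    by_contra hcon
    push Not at hcon
    have := Finset.card_le_card (fun x _ => hcon x : (Finset.univ : Finset F) ⊆ S.image fun r => -(r ^ m + c₀) / r)
    have := Finset.card_image_le (s := S) (f := fun r => -(r ^ m + c₀) / r)
    simp only [Finset.card_univ] at *
    omega
  obtain ⟨q, hq⟩ : ∃ q : F[X], q = C t * Polynomial.X + C c₀ := ⟨_, rfl⟩
  have hq1 : q.degree < (Polynomial.X ^ m : F[X]).degree := by
    rw [degree_X_pow, hq]
    exact lt_of_le_of_lt degree_linear_le (by exact_mod_cast hm)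
  refine ⟨Polynomial.X ^ m + q, monic_X_pow m |>.add_of_left hq1, ?_, ?_, fun r hr he => ?_⟩
  · exact natDegree_eq_of_degree_eq_some (by rw [degree_add_eq_left_of_degree_lt hq1, degree_X_pow])
  · rw [coeff_add, coeff_X_pow, if_neg (by omega), hq]; simp
  · refine ht (Finset.mem_image.2 ⟨r, hr, ?_⟩)
    have hr0 : r ≠ 0 := fun h => h0 (h ▸ hr)
    rw [hq] at he
    simp at he
    rw [div_eq_iff hr0]
    linear_combination -he

/-- A cyclic product of two conjugates. -/
def Pairable (A : Matrix ι ι F) : Prop :=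
  ∃ Z : Matrix ι ι F, IsUnit Z.det ∧ Cyclic Z ∧
    ∀ Z', GCls Z Z' → ∃ B1 B2 : Matrix ι ι F, SCls A B1 ∧ SCls A B2 ∧ B1 * B2 = Z'

theorem Pairable.of_scls {A A1 A2 Z : Matrix ι ι F} (hu : IsUnit Z.det) (hc : Cyclic Z) (hf : FullDet Z)
    (h1 : SCls A A1) (h2 : SCls A A2) (h : A1 * A2 = Z) : Pairable A := by
  refine ⟨Z, hu, hc, fun Z' hZ' => ?_⟩
  obtain ⟨P, hP, e⟩ := hf.scls hZ'
  have hPu : IsUnit P.det := by rw [hP]; exact isUnit_one
  refine ⟨P * A1 * P⁻¹, P * A2 * P⁻¹, h1.trans ⟨P, hP, ?_⟩, h2.trans ⟨P, hP, ?_⟩, ?_⟩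
  · rw [Matrix.mul_assoc, nonsing_inv_mul _ hPu, Matrix.mul_one]
  · rw [Matrix.mul_assoc, nonsing_inv_mul _ hPu, Matrix.mul_one]
  · simp only [Matrix.mul_assoc, nonsing_inv_mul_cancel_left _ _ hPu]
    rw [← Matrix.mul_assoc A1, h, ← Matrix.mul_assoc, ← e, Matrix.mul_assoc, mul_nonsing_inv _ hPu, Matrix.mul_one]

theorem Pairable.of_gcls {A A1 A2 Z : Matrix ι ι F} (hA : FullDet A) (hu : IsUnit Z.det) (hc : Cyclic Z)
    (h1 : GCls A A1) (h2 : GCls A A2) (h : A1 * A2 = Z) : Pairable A := by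
  refine ⟨Z, hu, hc, fun Z' hZ' => ?_⟩
  obtain ⟨P, hP, rfl⟩ := hZ'.exists_conj
  refine ⟨P * A1 * P⁻¹, P * A2 * P⁻¹, hA.scls (h1.trans (GCls.of_conj _ hP)), hA.scls (h2.trans (GCls.of_conj _ hP)), ?_⟩
  simp only [Matrix.mul_assoc, nonsing_inv_mul_cancel_left _ _ hP, ← h]

theorem Pairable.conj {A Q : Matrix ι ι F} (hQ : IsUnit Q.det) (h : Pairable A) : Pairable (Q * A * Q⁻¹) := by
  obtain ⟨Z, hu, hc, hp⟩ := h
  refine ⟨Z, hu, hc, fun Z' hZ' => ?_⟩
  have hg := hZ'.trans (GCls.of_conj Z' (isUnit_nonsing_inv_det _ hQ))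
  rw [nonsing_inv_nonsing_inv _ hQ] at hg
  obtain ⟨B1, B2, b1, b2, b12⟩ := hp _ hg
  refine ⟨Q * B1 * Q⁻¹, Q * B2 * Q⁻¹, b1.conj_both hQ, b2.conj_both hQ, ?_⟩
  simp only [Matrix.mul_assoc, nonsing_inv_mul_cancel_left _ _ hQ]
  rw [← Matrix.mul_assoc B1, b12]
  simp [Matrix.mul_assoc, mul_nonsing_inv _ hQ, mul_nonsing_inv_cancel_left _ _ hQ]

theorem pairable_frame (h4 : 4 ≤ Fintype.card F) {m o : ℕ} {X : Matrix (Fin m) (Fin m) F}
    {z : Matrix (Fin o) (Fin m) F} {y : Matrix (Fin m) (Fin o) F} {Y : Matrix (Fin m) (Fin m) F}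
    (hM : NoEig (Mfrm X z y Y)) (hX : NonScalar X) (hsize : (o = 1 ∧ 2 ≤ m) ∨ (o = 0 ∧ 3 ≤ m)) :
    Pairable (Mfrm X z y Y) := by
  classical
  have hm : 2 ≤ m := by omega
  have ho : o ≤ 1 := by omega
  have hXu : IsUnit X.det := by
    rw [isUnit_iff_ne_zero]
    intro h0
    obtain ⟨v, hv, hv0⟩ := exists_vecMul_eq_zero_iff.2 h0
    refine hM 0 (exists_vecMul_eq_zero_iff.1 ⟨Sum.elim (Sum.elim v 0) 0, fun h => hv ?_, ?_⟩)
    · funext i; simpa using congrFun h (.inl (.inl i))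
    · simp only [zero_smul, sub_zero, Mfrm]
      funext i
      rcases i with (i | i) | i <;> simp [vecMul, dotProduct, Fintype.sum_sum_type]
      simpa [vecMul, dotProduct] using congrFun hv0 i
  -- the twist
  obtain ⟨C, hC, hGn⟩ : ∃ C : Matrix (Fin m) (Fin m) F, IsUnit C.det ∧ NonScalar (X * (C * X * C⁻¹)) := by
    by_cases hsq : NonScalar (X * X)
    · exact ⟨1, by simp, by simpa using hsq⟩
    obtain ⟨κ, hκ⟩ : ∃ κ : F, X * X = κ • 1 := by simpa [NonScalar] using hsq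
    obtain ⟨v, hv⟩ := hX.exists_vec
    obtain ⟨j, k, hjk⟩ := Fintype.exists_pair_of_one_lt_card (α := Fin m) (by simp; omega)
    have hli := indep_of_vec hv
    have hli' : LinearIndependent F ![v, X *ᵥ v + v] := by
      rw [LinearIndependent.pair_iff] at hli ⊢
      intro a b hab
      obtain ⟨h1, h2⟩ := hli (a + b) b (by rw [← hab]; module)
      exact ⟨by simpa [h2] using h1, h2⟩
    obtain ⟨P1, hP1, p1, p2⟩ := exists_cols hjk hli
    obtain ⟨P2, hP2, q1, q2⟩ := exists_cols hjk hli'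
    refine ⟨P2 * P1⁻¹, by rw [det_mul]; exact hP2.mul (isUnit_nonsing_inv_det _ hP1), fun g hg => ?_⟩
    have hCv : (P2 * P1⁻¹) *ᵥ v = v := by
      rw [← p1, mulVec_mulVec, Matrix.mul_assoc, nonsing_inv_mul _ hP1, Matrix.mul_one, q1, p1]
    have hCXv : (P2 * P1⁻¹) *ᵥ (X *ᵥ v) = X *ᵥ v + v := by
      rw [← p2, mulVec_mulVec, Matrix.mul_assoc, nonsing_inv_mul _ hP1, Matrix.mul_one, q2, p2]
    have hCu : IsUnit (P2 * P1⁻¹).det := by rw [det_mul]; exact hP2.mul (isUnit_nonsing_inv_det _ hP1)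
    have hCiv : (P2 * P1⁻¹)⁻¹ *ᵥ v = v := by
      conv_lhs => rw [← hCv]
      rw [mulVec_mulVec, nonsing_inv_mul _ hCu, one_mulVec]
    have e1 := congrArg (fun N => N *ᵥ v) hg
    simp only [← mulVec_mulVec, smul_mulVec, one_mulVec, hCiv, hCXv, mulVec_add] at e1
    rw [mulVec_mulVec, hκ, smul_mulVec, one_mulVec] at e1
    refine hv (g - κ) ?_
    rw [sub_smul, ← e1]; abel
  obtain ⟨G, hG⟩ : ∃ G, G = X * (C * X * C⁻¹) := ⟨_, rfl⟩
  rw [← hG] at hGn
  have hGu : IsUnit G.det := by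
    rw [hG, det_mul, det_conj ((isUnit_iff_isUnit_det _).2 hC)]; exact hXu.mul hXu
  obtain ⟨κ, hκ⟩ : ∃ κ : F, κ = (-1) ^ m / (C.det * C.det) := ⟨_, rfl⟩
  have hκ0 : κ ≠ 0 := by rw [hκ]; simp [hC.ne_zero]
  -- the roots
  obtain ⟨b, l, hl, hb, h0, hS, hone, hprod⟩ : ∃ (b : F) (l : List F), l.length + 1 = m ∧ b ∉ l ∧ (0 : F) ∉ b :: l ∧
      (insert b (insert (1 : F) l.toFinset)).card ≤ 3 ∧ (o = 1 → (1 : F) ∉ b :: l) ∧ (o = 0 → b * l.prod = κ) := by
    rcases hsize with ⟨rfl, -⟩ | ⟨rfl, hm3⟩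
    · obtain ⟨a, ha⟩ : ∃ a : F, a ∉ ({0, 1} : Finset F) := by
        by_contra hcon
        push Not at hcon
        have := Finset.card_le_card (fun x _ => hcon x : (Finset.univ : Finset F) ⊆ {0, 1})
        have := Finset.card_le_two (a := (0 : F)) (b := 1)
        simp only [Finset.card_univ] at *
        omega
      obtain ⟨b, hb⟩ : ∃ b : F, b ∉ ({0, 1, a} : Finset F) := by
        by_contra hcon
        push Not at hcon
        have := Finset.card_le_card (fun x _ => hcon x : (Finset.univ : Finset F) ⊆ {0, 1, a})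
        have := Finset.card_le_three (a := (0 : F)) (b := 1) (c := a)
        simp only [Finset.card_univ] at *
        omega
      simp at ha hb
      refine ⟨b, List.replicate (m - 1) a, by simp; omega, fun h => hb.2.2 (List.eq_of_mem_replicate h), ?_, ?_, ?_,
        fun h => absurd h one_ne_zero⟩
      · simp [Ne.symm hb.1, Ne.symm ha.1]
      · refine (Finset.card_le_card (t := {b, 1, a}) fun x hx => ?_).trans Finset.card_le_three
        simp at hx ⊢
        tauto
      · intro _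
        simp [Ne.symm hb.2.1, Ne.symm ha.2]
    · obtain ⟨b, hb1, hb2⟩ : ∃ b : F, b ≠ 0 ∧ b ≠ 1 ∧ b * b ≠ κ := by
        obtain ⟨b, h1, h2⟩ := exists_avoid_two h4 (one_ne_zero (α := F)) one_ne_zero 0 0 0 κ
        rcases eq_or_ne b 1 with rfl | hb1
        · obtain ⟨t, ht⟩ : ∃ t : F, t ∉ ((Finset.univ.filter fun x : F => x * x = κ) ∪ {0, 1}) := by
            by_contra hcon
            push Not at hcon
            have h3 := Finset.card_le_card (fun x _ => hcon x :
              (Finset.univ : Finset F) ⊆ (Finset.univ.filter fun x : F => x * x = κ) ∪ {0, 1})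
            have h4' := Finset.card_union_le (Finset.univ.filter fun x : F => x * x = κ) {0, 1}
            have h5 := Finset.card_le_two (a := (0 : F)) (b := 1)
            rcases (Finset.univ.filter fun x : F => x * x = κ).eq_empty_or_nonempty with he | ⟨r, hr⟩
            · rw [he] at h4' h3; simp only [Finset.card_univ, Finset.card_empty] at *; omega
            simp only [Finset.mem_filter, Finset.mem_univ, true_and] at hr
            rcases two_eq_zero_or_odd (F := F) with h2' | ⟨hodd, -⟩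
            · have h6 := Finset.card_le_card (t := {r}) (s := Finset.univ.filter fun x : F => x * x = κ) fun x hx => by
                simp only [Finset.mem_filter, Finset.mem_univ, true_and] at hx
                have : (x - r) * (x - r) = 0 := by linear_combination hx + hr + (κ - x * r) * h2'
                simp [sub_eq_zero.1 (mul_self_eq_zero.1 this)]
              simp only [Finset.card_univ, Finset.card_singleton] at *; omega
            · have h6 := Finset.card_le_card (t := {r, -r}) (s := Finset.univ.filter fun x : F => x * x = κ) fun x hx => by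
                simp only [Finset.mem_filter, Finset.mem_univ, true_and] at hx
                simpa using mul_self_eq_mul_self_iff.1 (hx.trans hr.symm)
              have := Finset.card_le_two (a := r) (b := -r)
              simp only [Finset.card_univ] at *; omega
          simp at ht
          exact ⟨t, ht.1, ht.2.1, ht.2.2⟩
        · exact ⟨b, by simpa using h1, hb1, fun h => h2 (by linear_combination h)⟩
      refine ⟨b, κ / b :: List.replicate (m - 2) 1, by simp; omega, ?_, ?_, ?_, fun h => absurd h zero_ne_one, ?_⟩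
      · simp only [List.mem_cons, not_or]
        exact ⟨fun h => hb2.2 ((eq_div_iff hb1).1 h), fun h => hb2.1 (List.eq_of_mem_replicate h)⟩
      · simp [Ne.symm hb1, hb1, hκ0, Ne.symm (div_ne_zero hκ0 hb1)]
      · refine (Finset.card_le_card (t := {b, 1, κ / b}) fun x hx => ?_).trans Finset.card_le_three
        simp at hx ⊢
        tauto
      · intro _
        simp [mul_div_cancel₀ _ hb1]
  have h0' := h0
  simp only [List.mem_cons, not_or] at h0'
  have hp0 : b * l.prod ≠ 0 := mul_ne_zero (Ne.symm h0'.1) (by rw [Ne, List.prod_eq_zero_iff]; exact h0'.2)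
  obtain ⟨f, hf, hfd, hf0, hfS⟩ := exists_poly h4 hm (c₀ := (-1) ^ m * (G.det / (b * l.prod))) hS
    (by simp [h0'.1, h0'.2])
  obtain ⟨T0, hT0c, hT0p⟩ := exists_companion (by omega) hf hfd (by
    rw [hf0]; exact mul_ne_zero (pow_ne_zero _ (by simp)) (div_ne_zero hGu.ne_zero hp0))
  have hT0d : T0.det = G.det / (b * l.prod) := by
    rw [det_eq_sign_charpoly_coeff, hT0p, hf0, Fintype.card_fin, ← mul_assoc, ← pow_add]
    simp
  obtain ⟨T, V, hT, hVc, hVr, hVu, hTV⟩ := exists_split hGn hGu hT0c hm hl hb h0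
    (by rw [hT0d, div_mul_cancel₀ _ hp0])
  obtain ⟨σ, hσ, hσd⟩ : ∃ σ : F, σ ≠ 0 ∧ (-(V * C)).det * σ ^ o * C.det = 1 := by
    have hd : (-(V * C)).det * C.det = (-1) ^ m * ((b * l.prod) * (C.det * C.det)) := by
      rw [det_neg, det_mul, hVr.det, List.prod_cons, Fintype.card_fin]; ring
    rcases hsize with ⟨rfl, -⟩ | ⟨rfl, -⟩
    · have hne : (-(V * C)).det * C.det ≠ 0 := by
        rw [hd]; exact mul_ne_zero (pow_ne_zero _ (by simp)) (mul_ne_zero hp0 (mul_ne_zero hC.ne_zero hC.ne_zero))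
      exact ⟨((-(V * C)).det * C.det)⁻¹, inv_ne_zero hne, by rw [pow_one, mul_right_comm, mul_inv_cancel₀ hne]⟩
    · refine ⟨1, one_ne_zero, ?_⟩
      rw [pow_zero, mul_one, hd, hprod rfl, hκ, div_mul_cancel₀ _ (mul_ne_zero hC.ne_zero hC.ne_zero), ← pow_add]
      simp
  obtain ⟨e, E, A2, -, h2, h12⟩ := exists_tri (X := X) (z := z) (y := y) (Y := Y) hC hVu hσ
  rw [← hG, hTV] at h12
  have hTf : T.charpoly = f := hT.charpoly_eq.trans hT0p
  have hmem : ∀ r ∈ b :: l, f.eval r ≠ 0 := fun r hr => hfS r (by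
    simp only [List.mem_cons] at hr
    simp only [Finset.mem_insert, List.mem_toFinset]
    tauto)
  have hin : Cyclic (fromBlocks T 0 e (1 : Matrix (Fin o) (Fin o) F)) :=
    cyclic_lower e (hT0c.gcls hT) (cyclic_tiny ho) (hasRoots_one o) (fun h => zero_ne_one (List.eq_of_mem_replicate h))
      fun r hr => by rw [hTf, List.eq_of_mem_replicate hr]; exact hfS 1 (by simp)
  have hinp : ∀ r ∈ b :: l, (fromBlocks T 0 e (1 : Matrix (Fin o) (Fin o) F)).charpoly.eval r ≠ 0 := by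
    intro r hr
    rw [charpoly_fromBlocks_zero₁₂, hTf, eval_mul]
    refine mul_ne_zero (hmem r hr) (eval_roots_ne (hasRoots_one o) fun h => ?_)
    have ho1 : o = 1 := by
      have := List.length_pos_of_mem h
      simp at this
      omega
    exact hone ho1 (List.eq_of_mem_replicate h ▸ hr)
  have hZc := cyclic_lower E hin hVc hVr h0 hinp
  have hMu : IsUnit (Mfrm X z y Y).det := hM.isUnit
  refine Pairable.of_scls (Z := fromBlocks (fromBlocks T 0 e 1) 0 E V) ?_ hZc ?_ (SCls.refl _) (h2 hσd) h12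
  · rw [← h12, det_mul, (h2 hσd).det_eq]; exact hMu.mul hMu
  · refine fullDet_simple (b := b)
      (g := (fromBlocks T 0 e (1 : Matrix (Fin o) (Fin o) F)).charpoly * (l.map fun a => Polynomial.X - Polynomial.C a).prod) ?_ ?_
    · rw [charpoly_fromBlocks_zero₁₂, show V.charpoly = _ from hVr, List.map_cons, List.prod_cons]
      ring
    · rw [eval_mul]
      refine mul_ne_zero (hinp b (by simp)) ?_
      rw [eval_list_prod, Ne, List.prod_eq_zero_iff]
      simp [sub_eq_zero]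
      exact hb

/-- The quadratic case. -/
theorem pairable_quad (h4 : 4 ≤ Fintype.card F) {m : ℕ} (hm : 1 ≤ m) {c d : F} {z : Matrix (Fin 0) (Fin m) F}
    {y : Matrix (Fin m) (Fin 0) F} (hM : NoEig (Mfrm (c • 1) z y (d • (1 : Matrix (Fin m) (Fin m) F)))) :
    Pairable (Mfrm (c • 1) z y (d • (1 : Matrix (Fin m) (Fin m) F))) := by
  classical
  obtain ⟨M, hMdef⟩ : ∃ M, M = Mfrm (c • 1) z y (d • (1 : Matrix (Fin m) (Fin m) F)) := ⟨_, rfl⟩
  have hroot : NoRoot d (-c) := by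
    intro x hx
    have := hM.vec (v := Sum.elim (Sum.elim (fun _ => c) Fin.elim0) fun _ => x) (c := x) (by
      funext i
      rcases i with (i | i) | i
      · simp [Mfrm, mulVec, dotProduct, Fintype.sum_sum_type, Matrix.one_apply]; ring
      · exact i.elim0
      · simp [Mfrm, mulVec, dotProduct, Fintype.sum_sum_type, Matrix.one_apply]; linear_combination -hx)
    have hc := congrFun this (.inl (.inl ⟨0, hm⟩))
    simp at hc
    refine hM.isUnit.ne_zero (det_eq_zero_of_row_eq_zero (.inl (.inl ⟨0, hm⟩)) fun j => ?_)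
    rcases j with (j | j) | j <;> simp [Mfrm, hc]
  have hc0 : c ≠ 0 := fun h => hroot.det_ne (by simp [h])
  have hFull : FullDet M := by
    intro t _
    obtain ⟨α, β, hab⟩ := conic hroot.sep 0 0 (-t)
    obtain ⟨S, hS⟩ : ∃ S : Matrix (J3 m 0) (J3 m 0) F, S = (Matrix.blockDiagonal fun i : Fin m =>
      if i = ⟨0, hm⟩ then !![α, β * c; β, α + β * d] else 1).submatrix
        (Sum.elim (Sum.elim (fun i => ((0 : Fin 2), i)) Fin.elim0) fun i => (1, i))
        (Sum.elim (Sum.elim (fun i => ((0 : Fin 2), i)) Fin.elim0) fun i => (1, i)) := ⟨_, rfl⟩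
    refine ⟨S, ?_, ?_⟩
    · let f : J3 m 0 ≃ Fin 2 × Fin m := {
        toFun := Sum.elim (Sum.elim (fun i => (0, i)) Fin.elim0) fun i => (1, i)
        invFun := fun p => if p.1 = 0 then .inl (.inl p.2) else .inr p.2
        left_inv := by rintro ((i | i) | i) <;> first | exact i.elim0 | simp
        right_inv := by rintro ⟨a, i⟩; fin_cases a <;> simp }
      rw [hS]
      show ((Matrix.blockDiagonal _).submatrix f f).det = t
      rw [det_submatrix_equiv_self, det_blockDiagonal,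
        Finset.prod_eq_single ⟨0, hm⟩ (fun i _ hi => by simp [hi]) (by simp), if_pos rfl, det_fin_two_of]
      linear_combination hab
    · rw [hMdef, hS, Mfrm]
      ext ((i | i) | i) ((j | j) | j) <;> first | exact i.elim0 | exact j.elim0 |
        (rcases eq_or_ne i j with rfl | hij <;> by_cases hi : i = ⟨0, hm⟩ <;>
          simp_all [Matrix.mul_apply, Fintype.sum_sum_type, Matrix.blockDiagonal_apply, Matrix.one_apply] <;>
          first | ring | skip)
  obtain ⟨a, ha0, ha⟩ : ∃ a : F, a ≠ 0 ∧ a * a ≠ c * c := by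
    obtain ⟨a, h1, h2⟩ := exists_avoid_two h4 (one_ne_zero (α := F)) one_ne_zero 0 0 0 (c * c)
    exact ⟨a, by simpa using h1, fun h => h2 (by linear_combination h)⟩
  obtain ⟨V, hV, hVc⟩ := exists_upp m hm (fun _ => a) fun _ => ha0
  have hVr : HasRoots V (List.replicate m a) := by simpa [List.ofFn_const] using hasRoots_upp hV
  have h0 : (0 : F) ∉ List.replicate m a := fun h => ha0 (List.eq_of_mem_replicate h).symm
  have hVu : IsUnit V.det := by
    rw [det_of_upp hV, isUnit_iff_ne_zero]; simp [ha0]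
  obtain ⟨e, E, A2, h2, -, h12⟩ := exists_tri (X := c • 1) (z := z) (y := y) (Y := d • (1 : Matrix (Fin m) (Fin m) F))
    (C := 1) (by simp) hVu (one_ne_zero (α := F))
  have hT : (c • (1 : Matrix (Fin m) (Fin m) F)) * (1 * (c • 1) * 1⁻¹) * V⁻¹ = (c * c) • V⁻¹ := by
    simp [smul_smul]
  rw [hT] at h12
  obtain ⟨x, hx⟩ := hVc
  have hTc : Cyclic ((c * c) • V⁻¹) := ⟨x, (hx.inv hVu).smul_mat (mul_ne_zero hc0 hc0)⟩
  have hTr : ((c * c) • V⁻¹).charpoly.eval a ≠ 0 := by
    rw [isRoot_of_det]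
    intro h
    have e1 : a • (1 : Matrix (Fin m) (Fin m) F) - (c * c) • V⁻¹ = (a • V - (c * c) • 1) * V⁻¹ := by
      rw [Matrix.sub_mul, Matrix.smul_mul, mul_nonsing_inv _ hVu, Matrix.smul_mul, Matrix.one_mul]
    rw [e1, det_mul, mul_eq_zero] at h
    rcases h with h | h
    · rw [det_of_upperTriangular fun i j hij => by
        simp [hV.1 i j hij, Matrix.one_apply, (show i ≠ j from fun h => by simp [h] at hij)]] at h
      obtain ⟨i, -, hi⟩ := Finset.prod_eq_zero_iff.1 h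
      simp [hV.2 i, sub_eq_zero] at hi
      exact ha hi
    · exact (isUnit_nonsing_inv_det _ hVu).ne_zero h
  have hin : Cyclic (fromBlocks ((c * c) • V⁻¹) 0 e (1 : Matrix (Fin 0) (Fin 0) F)) :=
    cyclic_lower e hTc (cyclic_tiny (by omega)) (hasRoots_one 0) (by simp) (by simp)
  have hZc := cyclic_lower E hin ⟨x, hx⟩ hVr h0 fun r hr => by
    rw [List.eq_of_mem_replicate hr, charpoly_fromBlocks_zero₁₂, eval_mul]
    refine mul_ne_zero hTr (eval_roots_ne (hasRoots_one 0) (by simp))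
  rw [← hMdef] at h12 h2 hM ⊢
  exact Pairable.of_gcls (Z := fromBlocks (fromBlocks ((c * c) • V⁻¹) 0 e 1) 0 E V) hFull
    (by rw [← h12, det_mul, h2.det_eq]; exact hM.isUnit.mul hM.isUnit) hZc (GCls.refl _) h2 h12

theorem pairable_noEig (h4 : 4 ≤ Fintype.card F) {A : Matrix ι ι F} (hA : NoEig A) (hn : 5 ≤ Fintype.card ι) :
    Pairable A := by
  obtain ⟨m, o, ho, hmo⟩ : ∃ m o, ((o = 1 ∧ 2 ≤ m) ∨ (o = 0 ∧ 3 ≤ m)) ∧ 2 * m + o = Fintype.card ι := by
    refine ⟨Fintype.card ι / 2, Fintype.card ι % 2, ?_, Nat.div_add_mod _ 2⟩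
    omega
  obtain ⟨e⟩ : Nonempty (J3 m o ≃ ι) := ⟨Fintype.equivOfCardEq (by simp; omega)⟩
  obtain ⟨Q, X, z, y, Y, hQ, hfr, hgood⟩ := exists_good_frame h4 (hA.submatrix e) ho
  have hA' : A.submatrix e e = Q * Mfrm X z y Y * Q⁻¹ := by
    rw [← hfr]; simp [Matrix.mul_assoc, mul_nonsing_inv _ hQ, mul_nonsing_inv_cancel_left _ _ hQ]
  have hM : NoEig (Mfrm X z y Y) := by
    have hg := GCls.of_conj (Mfrm X z y Y) hQ
    rw [← hA'] at hg
    exact (hA.submatrix e).gcls hg.symm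
  have hp : Pairable (Mfrm X z y Y) := by
    rcases hgood with hX | ⟨rfl, c, d, rfl, rfl⟩
    · exact pairable_frame h4 hM hX ho
    · exact pairable_quad h4 (by omega) hM
  obtain ⟨Z, hu, hc, hp'⟩ := hA' ▸ hp.conj hQ
  obtain ⟨x, hx⟩ := hc
  refine ⟨Z.submatrix e.symm e.symm, by rwa [det_submatrix_equiv_self], ⟨_, hx.submatrix e.symm⟩, fun Z' hZ' => ?_⟩
  obtain ⟨P, hP, he⟩ := hZ'
  obtain ⟨B1, B2, b1, b2, b12⟩ := hp' (Z'.submatrix e e) ⟨P.submatrix e e, by rwa [det_submatrix_equiv_self], by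
    rw [submatrix_mul_equiv, he, ← submatrix_mul_equiv _ _ _ e, submatrix_submatrix]
    simp⟩
  refine ⟨B1.submatrix e.symm e.symm, B2.submatrix e.symm e.symm, ?_, ?_, ?_⟩
  · simpa [submatrix_submatrix] using b1.submatrix e.symm
  · simpa [submatrix_submatrix] using b2.submatrix e.symm
  · rw [submatrix_mul_equiv, b12, submatrix_submatrix]; simp

/-- A split cyclic matrix of given determinant. -/
theorem exists_spl (h4 : 4 ≤ Fintype.card F) (hn : 2 ≤ Fintype.card ι) {δ : F} (hδ : δ ≠ 0) :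
    ∃ D : Matrix ι ι F, Spl D ∧ D.det = δ := by
  classical
  obtain ⟨r, hr0, hr1, hr2⟩ : ∃ r : F, r ≠ 0 ∧ r ≠ δ ∧ r * r ≠ δ := by
    obtain ⟨a, h1, h2⟩ := exists_avoid_two h4 (p := 1) (p' := 1) one_ne_zero one_ne_zero 0 0 0 δ
    by_cases ha : a = δ
    · by_contra hcon
      push Not at hcon
      have hsub : (Finset.univ : Finset F) ⊆ {0, δ} ∪ Finset.univ.filter fun x => (1 * x + 0) ^ 2 = δ := fun x _ => by
        simp only [Finset.mem_union, Finset.mem_insert, Finset.mem_singleton, Finset.mem_filter, Finset.mem_univ, true_and]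
        by_cases hx : x = 0 ∨ x = δ
        · exact Or.inl hx
        push Not at hx
        exact Or.inr (by rw [← hcon x hx.1 hx.2]; ring)
      rcases (Finset.univ.filter fun x : F => (1 * x + 0) ^ 2 = δ).eq_empty_or_nonempty with he | ⟨s, hs⟩
      · have := (Finset.card_le_card hsub).trans (Finset.card_union_le _ _)
        rw [he] at this
        have := Finset.card_le_two (a := (0 : F)) (b := δ)
        simp only [Finset.card_univ, Finset.card_empty] at *; omega
      simp only [Finset.mem_filter, Finset.mem_univ, true_and, one_mul, add_zero] at hs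
      have h5 := (Finset.card_le_card hsub).trans (Finset.card_union_le _ _)
      have h6 := Finset.card_le_two (a := (0 : F)) (b := δ)
      rcases two_eq_zero_or_odd (F := F) with h2' | ⟨hodd, -⟩
      · have h7 := Finset.card_le_card (t := {s}) (s := Finset.univ.filter fun x : F => (1 * x + 0) ^ 2 = δ) fun x hx => by
          simp only [Finset.mem_filter, Finset.mem_univ, true_and, one_mul, add_zero] at hx
          have : (x - s) ^ 2 = 0 := by linear_combination hx - hs + (s * s - x * s) * h2'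
          simp [sub_eq_zero.1 (pow_eq_zero_iff two_ne_zero |>.1 this)]
        simp only [Finset.card_univ, Finset.card_singleton] at *; omega
      · have h7 := Finset.card_le_card (t := {s, -s}) (s := Finset.univ.filter fun x : F => (1 * x + 0) ^ 2 = δ) fun x hx => by
          simp only [Finset.mem_filter, Finset.mem_univ, true_and, one_mul, add_zero] at hx
          simpa using sq_eq_sq_iff_eq_or_eq_neg.1 (hx.trans hs.symm)
        have := Finset.card_le_two (a := s) (b := -s)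
        simp only [Finset.card_univ] at *; omega
    · exact ⟨a, by simpa using h1, ha, fun h => h2 (by linear_combination h)⟩
  obtain ⟨n, hn'⟩ : ∃ n, n = Fintype.card ι := ⟨_, rfl⟩
  obtain ⟨rts, hrts⟩ : ∃ rts : List F, rts = δ / r :: r :: List.replicate (n - 2) 1 := ⟨_, rfl⟩
  have hlen : rts.length = n := by simp [hrts]; omega
  have h0 : (0 : F) ∉ rts := by simp [hrts, hr0, hδ, Ne.symm hr0, Ne.symm (div_ne_zero hδ hr0)]
  obtain ⟨U, hU, x, hx⟩ := exists_upp n (by omega) (fun i => rts.get (Fin.cast hlen.symm i))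
    fun i h => h0 (h ▸ List.get_mem rts _)
  obtain ⟨e⟩ : Nonempty (ι ≃ Fin n) := ⟨Fintype.equivFinOfCardEq hn'.symm⟩
  have hr : HasRoots (U.submatrix e e) rts := by
    have hs := charpoly_reindex e.symm U
    rw [Matrix.reindex_apply, Equiv.symm_symm] at hs
    rw [HasRoots, hs, show U.charpoly = _ from hasRoots_upp hU]
    congr 2
    subst hlen
    simp
  refine ⟨U.submatrix e e, ⟨⟨_, hx.submatrix e⟩, δ / r, r :: List.replicate (n - 2) 1, hrts ▸ hr, ?_, hrts ▸ h0⟩, ?_⟩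
  · simp only [List.mem_cons, not_or]
    refine ⟨fun h => hr2 ?_, fun h => hr1 ?_⟩
    · rw [div_eq_iff hr0] at h; exact h.symm
    · have := List.eq_of_mem_replicate h
      rw [div_eq_one_iff_eq hr0] at this
      exact this.symm
  · rw [hr.det, hrts]; simp [hr0]

/-- A cyclic product of two conjugates makes five conjugates cover. -/
theorem Pairable.cover {A : Matrix ι ι F} (h4 : 4 ≤ Fintype.card F) (hn : 2 ≤ Fintype.card ι) (hA : IsUnit A.det)
    (hAn : NonScalar A) (h : Pairable A) {B : Matrix ι ι F} (hB : NonScalar B) (hd : B.det = A.det ^ 5) :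
    ∃ l : List (Matrix ι ι F), l.length = 5 ∧ (∀ X ∈ l, SCls A X) ∧ l.prod = B := by
  obtain ⟨Z, hu, hc, hp⟩ := h
  have hd0 := hA.ne_zero
  have hZd : Z.det = A.det * A.det := by
    obtain ⟨B1, B2, b1, b2, b12⟩ := hp Z (GCls.refl Z)
    rw [← b12, det_mul, b1.det_eq, b2.det_eq]
  obtain ⟨D, hD, hDd⟩ := exists_spl (ι := ι) h4 hn (pow_ne_zero 3 hd0)
  obtain ⟨X', D', hX', hD', hA'⟩ := two_cover hn hAn hA (hc.inv hu) hD (by
    rw [det_nonsing_inv, Ring.inverse_eq_inv', hZd, hDd]; field_simp)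
  have hX'u : IsUnit X'.det := by rw [hX'.det_eq]; exact isUnit_nonsing_inv_det _ hu
  have hg : GCls Z X'⁻¹ := by
    have := hX'.inv
    rwa [nonsing_inv_nonsing_inv _ hu] at this
  obtain ⟨C1, C2, c1, c2, c12⟩ := hp _ hg
  have hD'3 : C1 * C2 * A = D' := by rw [c12, ← hA', nonsing_inv_mul_cancel_left _ _ hX'u]
  obtain ⟨Z', D'', hZ', hD'', hB'⟩ := two_cover hn hB (by rw [hd]; exact hA.pow 5) hc hD (by rw [hZd, hDd, hd]; ring)
  obtain ⟨B1, B2, b1, b2, b12⟩ := hp _ hZ'
  obtain ⟨P, hP, e⟩ := (hD.fullDet.gcls hD').scls (hD'.symm.trans hD'')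
  have hPu : IsUnit P.det := by rw [hP]; exact isUnit_one
  have cj : ∀ W, SCls A W → SCls A (P * W * P⁻¹) := fun W hW =>
    hW.trans ⟨P, hP, by rw [Matrix.mul_assoc, nonsing_inv_mul _ hPu, Matrix.mul_one]⟩
  refine ⟨[B1, B2, P * C1 * P⁻¹, P * C2 * P⁻¹, P * A * P⁻¹], rfl, ?_, ?_⟩
  · simp only [List.mem_cons, List.not_mem_nil, or_false]
    rintro W (rfl | rfl | rfl | rfl | rfl)
    exacts [b1, b2, cj _ c1, cj _ c2, cj _ (SCls.refl A)]
  · simp only [List.prod_cons, List.prod_nil, mul_one, Matrix.mul_assoc, nonsing_inv_mul_cancel_left _ _ hPu]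
    rw [← Matrix.mul_assoc B1, b12, ← Matrix.mul_assoc C1, ← Matrix.mul_assoc (C1 * C2), hD'3, ← Matrix.mul_assoc P,
      ← e, Matrix.mul_assoc D'', mul_nonsing_inv _ hPu, Matrix.mul_one, hB']

end CfsgLib.SLCover
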