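import Cfsg.Agent.Lib.Classical.SLCover.Four

/-!
# Rank one classes

The matrix `L * U`, with `L` unit lower triangular, is a product of `n` matrices
differing from the identity in a single row.
-/

set_option autoImplicit false
set_option linter.unusedSectionVars false
set_option linter.unusedSimpArgs false

namespace CfsgLib.SLCover

open Matrix

variable {F : Type*} [Field F] [Fintype F] {ι : Type} [Fintype ι] [DecidableEq ι]

/-- A non-trivial pseudo-reflection with parameter `e`. -/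
def IsRefl (e : F) (X : Matrix ι ι F) : Prop :=
  ∃ x ψ : ι → F, x ≠ 0 ∧ ψ ≠ 0 ∧ ψ ⬝ᵥ x = e ∧ X = 1 + vecMulVec x ψ

theorem rankone_fullDet (hι : 3 ≤ Fintype.card ι) (c : F) {u φ : ι → F} (hu : u ≠ 0) (hφ : φ ≠ 0) :
    FullDet (c • 1 + vecMulVec u φ) := by
  obtain ⟨f⟩ : Nonempty (Fin 3 ↪ ι) := Function.Embedding.nonempty_of_card_le (by simpa using hι)
  have h01 : f 0 ≠ f 1 := by simp
  have h02 : f 0 ≠ f 2 := by simp
  have h12 : f 1 ≠ f 2 := by simp
  obtain ⟨ψ, hψ⟩ : ∃ ψ : ι → F, ψ = Pi.single (f 0) (φ ⬝ᵥ u) + Pi.single (f 1) 1 := ⟨_, rfl⟩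
  have hψ0 : ψ ≠ 0 := fun h => by simpa [hψ, h01.symm] using congrFun h (f 1)
  have hx : (Pi.single (f 0) 1 : ι → F) ≠ 0 := fun h => by simpa using congrFun h (f 0)
  have hd : ψ ⬝ᵥ Pi.single (f 0) 1 = φ ⬝ᵥ u := by simp [hψ, h01]
  refine FullDet.gcls ?_ (gcls_rankone (by omega) c hx hu hψ0 hφ hd)
  intro t _
  obtain ⟨D, hD⟩ : ∃ D : Matrix ι ι F, D = diagonal (Function.update (fun _ => 1) (f 2) t) := ⟨_, rfl⟩
  refine ⟨D, by rw [hD, det_diagonal, Finset.prod_update_of_mem (Finset.mem_univ _)]; simp, ?_⟩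
  have e1 : D *ᵥ Pi.single (f 0) 1 = Pi.single (f 0) 1 := by
    rw [hD, diagonal_mulVec_single, Function.update_of_ne h02, mul_one]
  have e2 : ψ ᵥ* D = ψ := by
    funext j
    rw [hD, vecMul_diagonal]
    rcases eq_or_ne j (f 2) with rfl | hj
    · simp [hψ, h02.symm, h12.symm]
    · rw [Function.update_of_ne hj, mul_one]
  rw [Matrix.mul_add, Matrix.add_mul, mul_vecMulVec, vecMulVec_mul, e1, e2, Matrix.mul_smul, Matrix.smul_mul,
    Matrix.one_mul, Matrix.mul_one]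

theorem low_one_inv {n : ℕ} {L : Matrix (Fin n) (Fin n) F} (hL : Low L fun _ => 1) :
    L⁻¹ * L = 1 ∧ Low L⁻¹ fun _ => 1 := by
  have hbt : BlockTriangular L OrderDual.toDual := fun i j h => hL.1 i j h
  have hdet : L.det = 1 := by
    rw [det_of_isLowerTriangular L hbt]; simp [hL.2]
  have hu : IsUnit L.det := hdet ▸ isUnit_one
  have hinv : L⁻¹ * L = 1 := nonsing_inv_mul _ hu
  haveI : Invertible L := L.invertibleOfIsUnitDet hu
  have hbt' : BlockTriangular L⁻¹ OrderDual.toDual := blockTriangular_inv_of_blockTriangular hbt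
  refine ⟨hinv, fun i j h => hbt' h, fun i => ?_⟩
  have h1 := congrFun (congrFun hinv i) i
  rw [Matrix.mul_apply, Finset.sum_eq_single i, hL.2, mul_one, one_apply_eq] at h1
  · exact h1
  · intro j _ hj
    rcases lt_or_gt_of_ne hj with h | h
    · rw [hL.1 j i h, mul_zero]
    · rw [hbt' (i := i) (j := j) h, zero_mul]
  · simp

/-- The row factorisation of `L * U`. -/
theorem exists_row_factors {n : ℕ} {L U : Matrix (Fin n) (Fin n) F} {q : F} (hL : Low L fun _ => 1)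
    (hU : Upp U fun _ => q) :
    ∃ l : List (Matrix (Fin n) (Fin n) F), l.length = n ∧ l.prod = L * U ∧
      ∀ X ∈ l, ∃ (i : Fin n) (ψ : Fin n → F), ψ i = q - 1 ∧ X = 1 + vecMulVec (Pi.single i 1) ψ := by
  obtain ⟨hinv, hI⟩ := low_one_inv hL
  obtain ⟨M, hM⟩ : ∃ M, M = L * U := ⟨_, rfl⟩
  have hLM : L⁻¹ * M = U := by rw [hM, ← Matrix.mul_assoc, hinv, Matrix.one_mul]
  suffices h : ∀ k, k ≤ n → ∃ l : List (Matrix (Fin n) (Fin n) F), l.length = k ∧
      l.prod = Matrix.of (fun i j : Fin n => if i.val < k then M i j else (1 : Matrix (Fin n) (Fin n) F) i j) ∧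
      ∀ X ∈ l, ∃ (i : Fin n) (ψ : Fin n → F), ψ i = q - 1 ∧ X = 1 + vecMulVec (Pi.single i 1) ψ by
    obtain ⟨l, h1, h2, h3⟩ := h n le_rfl
    refine ⟨l, h1, ?_, h3⟩
    rw [h2, ← hM]
    ext i j
    simp [i.isLt]
  intro k
  induction k with
  | zero => exact fun _ => ⟨[], rfl, by ext i j; simp, by simp⟩
  | succ k ih =>
    intro hk
    obtain ⟨l, h1, h2, h3⟩ := ih (by omega)
    obtain ⟨r, hr⟩ : ∃ r : Fin n, r.val = k := ⟨⟨k, hk⟩, rfl⟩
    obtain ⟨a, ha⟩ : ∃ a : Fin n → F, a = fun j => if j < r then -L⁻¹ r j else U r j := ⟨_, rfl⟩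
    obtain ⟨Q, hQ⟩ : ∃ Q : Matrix (Fin n) (Fin n) F,
        Q = Matrix.of (fun i j : Fin n => if i.val < k then M i j else (1 : Matrix (Fin n) (Fin n) F) i j) := ⟨_, rfl⟩
    have hrow : ∀ j, (a ᵥ* Q) j = M r j := by
      intro j
      have e : ∀ i, a i * Q i j =
          -(L⁻¹ r i * M i j) + (if i = r then M r j else 0) + U r i * (1 : Matrix (Fin n) (Fin n) F) i j := by
        intro i
        rcases lt_trichotomy i r with h | rfl | h
        · simp [ha, hQ, h, h.ne, hU.1 r i h, ← hr]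
        · simp [ha, hQ, hI.2, ← hr]
        · simp [ha, hQ, not_lt.2 h.le, h.ne', hI.1 r i h, ← hr]
      calc (a ᵥ* Q) j = ∑ i, a i * Q i j := rfl
        _ = -(L⁻¹ * M) r j + M r j + (U * (1 : Matrix (Fin n) (Fin n) F)) r j := by
          simp only [e, Finset.sum_add_distrib, Finset.sum_neg_distrib, Matrix.mul_apply, Finset.sum_ite_eq',
            Finset.mem_univ, if_true]
        _ = M r j := by rw [hLM, Matrix.mul_one]; ring
    refine ⟨(1 + vecMulVec (Pi.single r 1) (a - Pi.single r 1)) :: l, by simp [h1], ?_, ?_⟩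
    · rw [List.prod_cons, h2, ← hQ, Matrix.add_mul, Matrix.one_mul, vecMulVec_mul, sub_vecMul]
      ext i j
      simp only [Matrix.add_apply, vecMulVec_apply, Pi.sub_apply, Matrix.of_apply, hrow]
      rcases eq_or_ne i r with rfl | hi
      · simp [hQ, hr]
      · have : i.val ≠ k := fun h => hi (Fin.ext (h.trans hr.symm))
        have h' : (i.val < k + 1) = (i.val < k) := by simp; omega
        simp [hQ, hi, h']
    · simp only [List.mem_cons, forall_eq_or_imp]
      exact ⟨⟨r, _, by simp [ha, hU.2], rfl⟩, h3⟩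

theorem IsRefl.split (h4 : 4 ≤ Fintype.card F) {X : Matrix ι ι F} (h : IsRefl 0 X) :
    ∃ Y Z : Matrix ι ι F, IsRefl 0 Y ∧ IsRefl 0 Z ∧ Y * Z = X := by
  classical
  obtain ⟨x, ψ, hx, hψ, he, rfl⟩ := h
  obtain ⟨s, hs0, hs1⟩ : ∃ s : F, s ≠ 0 ∧ s ≠ 1 := by
    by_contra hc
    push Not at hc
    have : (Finset.univ : Finset F) ⊆ {0, 1} := fun s _ => by
      rcases eq_or_ne s 0 with h | h
      · simp [h]
      · simp [hc s h]
    have := (Finset.card_le_card this).trans Finset.card_le_two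
    simp at this
    omega
  refine ⟨1 + vecMulVec x (s • ψ), 1 + vecMulVec x ((1 - s) • ψ), ⟨x, _, hx, smul_ne_zero hs0 hψ, by simp [he], rfl⟩,
    ⟨x, _, hx, smul_ne_zero (sub_ne_zero.2 (Ne.symm hs1)) hψ, by simp [he], rfl⟩, ?_⟩
  rw [Matrix.add_mul, Matrix.one_mul, Matrix.mul_add, Matrix.mul_one, vecMulVec_mul_vecMulVec, smul_dotProduct, he,
    smul_zero, zero_smul, vecMulVec_zero, add_zero, add_assoc, ← vecMulVec_add, ← add_smul, sub_add_cancel, one_smul]

theorem refl_pad (h4 : 4 ≤ Fintype.card F) : ∀ (k : ℕ) (l : List (Matrix ι ι F)), l ≠ [] → (∀ X ∈ l, IsRefl 0 X) →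
    ∃ l' : List (Matrix ι ι F), l'.length = l.length + k ∧ l'.prod = l.prod ∧ ∀ X ∈ l', IsRefl 0 X := by
  intro k
  induction k with
  | zero => exact fun l _ h => ⟨l, rfl, rfl, h⟩
  | succ k ih =>
    intro l hne h
    obtain ⟨X, l₀, rfl⟩ := List.exists_cons_of_ne_nil hne
    obtain ⟨Y, Z, hY, hZ, e⟩ := (h X (by simp)).split h4
    obtain ⟨l', e1, e2, e3⟩ := ih (Y :: Z :: l₀) (by simp) (by
      simp only [List.mem_cons, forall_eq_or_imp]
      exact ⟨hY, hZ, fun W hW => h W (by simp [hW])⟩)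
    exact ⟨l', by rw [e1]; simp; omega, by rw [e2]; simp [← e, Matrix.mul_assoc], e3⟩

/-- `n` pseudo-reflections with any admissible `L * U` as product. -/
theorem exists_refl_factors (h4 : 4 ≤ Fintype.card F) {n : ℕ} (hn : 3 ≤ n) {L U : Matrix (Fin n) (Fin n) F} {e : F}
    (hL : Low L fun _ => 1) (hU : Upp U fun _ => 1 + e) :
    ∃ l : List (Matrix (Fin n) (Fin n) F), l.length = n ∧ l.prod = L * U ∧ ∀ X ∈ l, IsRefl e X := by
  obtain ⟨l, h1, h2, h3⟩ := exists_row_factors hL hU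
  simp only [add_sub_cancel_left] at h3
  have hs : ∀ i : Fin n, (Pi.single i 1 : Fin n → F) ≠ 0 := fun i h => by simpa using congrFun h i
  rcases ne_or_eq e 0 with he | rfl
  · refine ⟨l, h1, h2, fun X hX => ?_⟩
    obtain ⟨i, ψ, hψ, rfl⟩ := h3 X hX
    exact ⟨_, ψ, hs i, fun h => he (by rw [← hψ, h]; rfl), by simp [hψ], rfl⟩
  have key : ∀ m : List (Matrix (Fin n) (Fin n) F),
      (∀ X ∈ m, ∃ (i : Fin n) (ψ : Fin n → F), ψ i = 0 ∧ X = 1 + vecMulVec (Pi.single i 1) ψ) →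
      ∃ m' : List (Matrix (Fin n) (Fin n) F), m'.length ≤ m.length ∧ m'.prod = m.prod ∧ ∀ X ∈ m', IsRefl 0 X := by
    intro m
    induction m with
    | nil => exact fun _ => ⟨[], le_rfl, rfl, by simp⟩
    | cons X m ih =>
      intro hm
      obtain ⟨m', g1, g2, g3⟩ := ih fun Y hY => hm Y (by simp [hY])
      obtain ⟨i, ψ, hψ, rfl⟩ := hm X (by simp)
      rcases eq_or_ne ψ 0 with rfl | hψ0
      · exact ⟨m', by simp; omega, by simp [g2], g3⟩
      · refine ⟨(1 + vecMulVec (Pi.single i 1) ψ) :: m', by simp [g1], by simp [g2], ?_⟩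
        simp only [List.mem_cons, forall_eq_or_imp]
        exact ⟨⟨_, ψ, hs i, hψ0, by simp [hψ], rfl⟩, g3⟩
  obtain ⟨m, g1, g2, g3⟩ := key l h3
  rw [← h2, ← g2]
  rcases eq_or_ne m [] with rfl | hm
  · obtain ⟨i, j, hij⟩ : ∃ i j : Fin n, i ≠ j := ⟨⟨0, by omega⟩, ⟨1, by omega⟩, by simp⟩
    obtain ⟨a, ha⟩ : ∃ a : Fin n → F, a = Pi.single j 1 := ⟨_, rfl⟩
    have ha0 : a ≠ 0 := ha ▸ hs j
    have had : a ⬝ᵥ Pi.single i 1 = 0 := by simp [ha, hij]
    obtain ⟨l', e1, e2, e3⟩ := refl_pad h4 (n - 2)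
      [1 + vecMulVec (Pi.single i 1) a, 1 + vecMulVec (Pi.single i 1) (-a)] (by simp) (by
        simp only [List.mem_cons, List.not_mem_nil, or_false]
        rintro X (rfl | rfl)
        · exact ⟨_, a, hs i, ha0, had, rfl⟩
        · exact ⟨_, -a, hs i, neg_ne_zero.2 ha0, by rw [neg_dotProduct, had, neg_zero], rfl⟩)
    refine ⟨l', by rw [e1]; simp; omega, ?_, e3⟩
    rw [e2]
    simp only [List.prod_cons, List.prod_nil, mul_one]
    rw [Matrix.add_mul, Matrix.one_mul, Matrix.mul_add, Matrix.mul_one, vecMulVec_mul_vecMulVec, had, zero_smul,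
      vecMulVec_zero, add_zero, add_assoc, ← vecMulVec_add, neg_add_cancel, vecMulVec_zero, add_zero]
  · obtain ⟨l', e1, e2, e3⟩ := refl_pad h4 (n - m.length) m hm g3
    exact ⟨l', by omega, e2, e3⟩

/-- `n` conjugates of a rank one element reach every element up to a scalar. -/
theorem rankone_good (h4 : 4 ≤ Fintype.card F) {n : ℕ} (hn : 3 ≤ n) {A : Matrix (Fin n) (Fin n) F} (hA : A.det = 1)
    (hns : NonScalar A) {c : F} {u φ : Fin n → F} (hr : A = c • 1 + vecMulVec u φ) (B : Matrix (Fin n) (Fin n) F)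
    (hB : B.det = 1) :
    ∃ (d : F) (l : List (Matrix (Fin n) (Fin n) F)), l.length = n ∧ (∀ X ∈ l, SCls A X) ∧ l.prod = d • B := by
  classical
  have hu : u ≠ 0 := fun h => hns c (by rw [hr, h]; ext i j; simp [vecMulVec_apply])
  have hφ : φ ≠ 0 := fun h => hns c (by rw [hr, h]; ext i j; simp [vecMulVec_apply])
  have hc : c ≠ 0 := by
    rintro rfl
    obtain ⟨i, hi⟩ := Function.ne_iff.1 hu
    obtain ⟨v, hv, hv0⟩ : ∃ v : Fin n → F, φ ⬝ᵥ v = 0 ∧ v ≠ 0 := by
      obtain ⟨j, k, hjk⟩ : ∃ j k : Fin n, j ≠ k := ⟨⟨0, by omega⟩, ⟨1, by omega⟩, by simp⟩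
      rcases eq_or_ne (φ j) 0 with h | h
      · exact ⟨Pi.single j 1, by simp [h], fun e => by simpa using congrFun e j⟩
      · exact ⟨Pi.single k (φ j) - Pi.single j (φ k), by simp [dotProduct_sub, mul_comm],
          fun e => h (by simpa [hjk.symm] using congrFun e k)⟩
    have : A.det = 0 := exists_mulVec_eq_zero_iff.1 ⟨v, hv0, by rw [hr]; simp [vecMulVec_mulVec, hv]⟩
    exact one_ne_zero (hA.symm.trans this)
  obtain ⟨e, he⟩ : ∃ e, e = φ ⬝ᵥ u / c := ⟨_, rfl⟩
  have hdet : c ^ n * (1 + e) = 1 := by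
    have e1 : A = c • (1 + vecMulVec (c⁻¹ • u) φ) := by
      rw [hr, smul_add, ← smul_vecMulVec, smul_smul, mul_inv_cancel₀ hc, one_smul]
    rw [e1, det_smul, det_one_add_vec, dotProduct_smul, smul_eq_mul, Fintype.card_fin] at hA
    refine Eq.trans ?_ hA
    rw [he]; ring
  have hq : (1 + e) ≠ 0 := fun h => by simp [h] at hdet
  obtain ⟨d, P, L, U, hP, hL, hU, hPe⟩ : ∃ (d : F) (P L U : Matrix (Fin n) (Fin n) F), IsUnit P.det ∧
      Low L (fun _ => 1) ∧ Upp U (fun _ => 1 + e) ∧ ((1 + e) * d) • B * P = P * (L * U) := by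
    by_cases hns' : NonScalar B
    · refine ⟨1, ?_⟩
      rw [mul_one]
      refine exists_lu n (by omega) _ (Or.inr fun a ha => hns' ((1 + e)⁻¹ * a) ?_) ?_ _ _ (fun _ => one_ne_zero)
        (fun _ => hq) ?_
      · rw [← smul_smul, ← ha, smul_smul, inv_mul_cancel₀ hq, one_smul]
      · rw [det_smul, hB, mul_one]; exact isUnit_iff_ne_zero.2 (pow_ne_zero _ hq)
      · simp [hB]
    · obtain ⟨b, hb⟩ : ∃ b : F, B = b • 1 := by simpa [NonScalar] using hns'
      have hb0 : b ≠ 0 := fun h => by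
        haveI : Nonempty (Fin n) := ⟨⟨0, by omega⟩⟩
        rw [hb, h, zero_smul, det_zero] at hB
        exact zero_ne_one hB
      refine ⟨b⁻¹, 1, 1, (1 + e) • 1, by simp, ⟨fun i j h => Matrix.one_apply_ne h.ne, fun i => one_apply_eq i⟩,
        ⟨fun i j h => by simp [Matrix.one_apply_ne h.ne'], fun i => by simp⟩, ?_⟩
      rw [hb, smul_smul, mul_assoc, inv_mul_cancel₀ hb0, mul_one]; simp
  obtain ⟨R, hR1, hR2, hR3⟩ := exists_refl_factors h4 hn hL hU
  refine ⟨d, R.map fun X => P * (c • X) * P⁻¹, by simp [hR1], ?_, ?_⟩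
  · simp only [List.mem_map]
    rintro _ ⟨X, hX, rfl⟩
    obtain ⟨x, ψ, hx, hψ, hxe, rfl⟩ := hR3 X hX
    have hfd : FullDet A := hr ▸ rankone_fullDet (by simpa using hn) c hu hφ
    refine hfd.scls (GCls.trans ?_ (GCls.of_conj _ hP))
    rw [hr, smul_add, ← smul_vecMulVec]
    exact gcls_rankone (by simp; omega) c hu (smul_ne_zero hc hx) hφ hψ
      (by rw [dotProduct_smul, hxe, smul_eq_mul, he, mul_div_cancel₀ _ hc])
  · have key : ∀ m : List (Matrix (Fin n) (Fin n) F),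
        (m.map fun X => P * (c • X) * P⁻¹).prod = c ^ m.length • (P * m.prod * P⁻¹) := by
      intro m
      induction m with
      | nil => simp [mul_nonsing_inv _ hP]
      | cons X m ih =>
        rw [List.map_cons, List.prod_cons, ih, List.prod_cons, List.length_cons, pow_succ']
        simp only [Matrix.mul_smul, Matrix.smul_mul, smul_smul, Matrix.mul_assoc,
          nonsing_inv_mul_cancel_left _ _ hP]
        rw [mul_comm]
    rw [key, hR1, hR2, ← hPe, Matrix.mul_assoc, mul_nonsing_inv _ hP, Matrix.mul_one, smul_smul, ← mul_assoc, hdet,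
      one_mul]

end CfsgLib.SLCover
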