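import Cfsg.Agent.Lib.Classical.SLCover.Four

/-!
# Three conjugates in dimension three
-/

set_option autoImplicit false
set_option linter.unusedSectionVars false
set_option linter.unusedSimpArgs false

namespace CfsgLib.SLCover

open Matrix Polynomial

set_option maxHeartbeats 1000000

variable {F : Type*} [Field F]

local notation "M3" => Matrix (Fin 3) (Fin 3) F

/-- The sum of the principal minors of order two. -/
def sigTwo (A : Matrix (Fin 3) (Fin 3) F) : F :=
  A 0 0 * A 1 1 - A 0 1 * A 1 0 + (A 0 0 * A 2 2 - A 0 2 * A 2 0) + (A 1 1 * A 2 2 - A 1 2 * A 2 1)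

theorem charpoly_three (A : M3) :
    A.charpoly = X ^ 3 - C A.trace * X ^ 2 + C (sigTwo A) * X - C A.det := by
  simp [Matrix.charpoly, det_fin_three, trace_fin_three, sigTwo, charmatrix, Matrix.diagonal]
  ring

theorem hasRoots_three {A : M3} {a b c : F} (ht : A.trace = a + b + c) (hs : sigTwo A = a * b + a * c + b * c)
    (hd : A.det = a * b * c) : HasRoots A [a, b, c] := by
  rw [HasRoots, charpoly_three, ht, hs, hd]
  simp
  ring

theorem charpoly_rankone (c : F) (u φ : Fin 3 → F) :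
    (c • (1 : M3) + vecMulVec u φ).charpoly = (X - C c) * ((X - C c) * (X - C (c + φ ⬝ᵥ u))) := by
  rw [charpoly_three]
  simp [sigTwo, det_fin_three, trace_fin_three, vecMulVec_apply, dotProduct, Fin.sum_univ_three, map_ofNat]
  ring

theorem two_of_nodup {A : M3} {a b c : F} (h : HasRoots A [a, b, c]) (hab : a ≠ b) (hac : a ≠ c) (hbc : b ≠ c) :
    Two A := by
  intro e u φ hA
  rw [sub_eq_iff_eq_add'] at hA
  have hp := charpoly_rankone e u φ
  rw [← hA, h] at hp
  have h1 := congrArg (Polynomial.eval e) hp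
  have h2 := congrArg (fun p => Polynomial.eval e (derivative p)) hp
  simp [derivative_mul] at h1 h2
  rcases h1 with h1 | h1 | h1 <;> rw [sub_eq_zero] at h1 <;> subst h1 <;> simp [sub_eq_zero] at h2 <;> tauto

theorem exists_outer {N : M3} (h : Module.finrank F ↥(LinearMap.range (Matrix.toLin' N)) ≤ 1) :
    ∃ u φ : Fin 3 → F, N = vecMulVec u φ := by
  obtain ⟨u, hu⟩ := finrank_le_one_iff.1 h
  have : ∀ j, ∃ c : F, c • (u : Fin 3 → F) = fun i => N i j := fun j => by
    obtain ⟨c, hc⟩ := hu ⟨fun i => N i j, ⟨Pi.single j 1, by funext i; simp [Matrix.toLin'_apply]⟩⟩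
    exact ⟨c, congrArg Subtype.val hc⟩
  choose φ hφ using this
  refine ⟨u, φ, ?_⟩
  ext i j
  have := congrFun (hφ j) i
  simp only [Pi.smul_apply, smul_eq_mul] at this
  rw [vecMulVec_apply, ← this, mul_comm]

theorem cycV_of_indep {T : M3} {v : Fin 3 → F} (h : LinearIndependent F ![v, T *ᵥ v, T *ᵥ (T *ᵥ v)]) : CycV T v := by
  intro W hv hinv
  rw [eq_top_iff, ← h.span_eq_top_of_card_eq_finrank (by simp), Submodule.span_le]
  rintro _ ⟨i, rfl⟩
  fin_cases i
  exacts [hv, hinv _ hv, hinv _ (hinv _ hv)]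

theorem cycV_of_det {T : M3} {v : Fin 3 → F} (h : (Matrix.of ![v, T *ᵥ v, T *ᵥ (T *ᵥ v)] : M3).det ≠ 0) :
    CycV T v := by
  refine cycV_of_indep ?_
  exact Matrix.linearIndependent_rows_of_det_ne_zero h

theorem cyclic_of_no_root {T : M3} (h : ∀ r, T.charpoly.eval r ≠ 0) : Cyclic T := by
  refine ⟨Pi.single 0 1, cycV_of_indep ?_⟩
  rw [Fintype.linearIndependent_iff]
  intro g hg
  by_contra hne
  push Not at hne
  obtain ⟨p, hp⟩ : ∃ p : F[X], p = C (g 0) + C (g 1) * X + C (g 2) * X ^ 2 := ⟨_, rfl⟩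
  have hp0 : p ≠ 0 := by
    obtain ⟨i, hi⟩ := hne
    intro e
    have := congrArg (fun q => q.coeff (i : ℕ)) e
    rw [hp] at this
    fin_cases i <;> simp [coeff_X, coeff_C] at this hi <;> exact hi this
  have hirr : Irreducible T.charpoly := by
    refine (irreducible_iff_roots_eq_zero_of_degree_le_three ?_ ?_).2 ?_
    · rw [charpoly_natDegree_eq_dim]; simp
    · rw [charpoly_natDegree_eq_dim]; simp
    · rw [Multiset.eq_zero_iff_forall_notMem]
      intro r hr
      exact h r (mem_roots'.1 hr).2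
  have hdeg : p.natDegree ≤ 2 := by rw [hp]; compute_degree
  obtain ⟨a, b, hab⟩ : IsCoprime T.charpoly p := by
    refine (hirr.coprime_iff_not_dvd).2 fun hd => ?_
    have := natDegree_le_of_dvd hd hp0
    rw [charpoly_natDegree_eq_dim] at this
    simp at this
    omega
  have h1 : aeval T p *ᵥ (Pi.single 0 1 : Fin 3 → F) = 0 := by
    rw [← hg, hp, Fin.sum_univ_three]
    generalize (Pi.single 0 1 : Fin 3 → F) = e
    simp [Algebra.algebraMap_eq_smul_one, add_mulVec, smul_mulVec, ← mulVec_mulVec, pow_two]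
  have h2 := congrArg (fun q => aeval T q *ᵥ (Pi.single 0 1 : Fin 3 → F)) hab
  simp only [map_add, map_mul, map_one, aeval_self_charpoly, mul_zero, zero_add, one_mulVec, ← mulVec_mulVec, h1,
    mulVec_zero] at h2
  simpa using congrFun h2 0

theorem Two.cyclic {A : M3} (hA : Two A) : Cyclic A := by
  by_cases hr : ∀ r, A.charpoly.eval r ≠ 0
  · exact cyclic_of_no_root hr
  push Not at hr
  obtain ⟨r, hr⟩ := hr
  obtain ⟨N, hN⟩ : ∃ N : Matrix (Fin 3) (Fin 3) F, N = A - r • 1 := ⟨_, rfl⟩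
  have hsing : N.det = 0 := by
    rw [isRoot_of_det] at hr
    rw [hN, show A - r • 1 = -(r • 1 - A) by abel, det_neg, hr, mul_zero]
  obtain ⟨W, hW⟩ : ∃ W, W = LinearMap.range (Matrix.toLin' N) := ⟨_, rfl⟩
  have hmem : ∀ x, N *ᵥ x ∈ W := fun x => hW ▸ ⟨x, Matrix.toLin'_apply N x⟩
  have hge : 2 ≤ Module.finrank F ↥W := by
    by_contra hlt
    obtain ⟨u, φ, e⟩ := exists_outer (N := N) (by rw [← hW]; omega)
    exact hA r u φ (hN ▸ e)
  have hle : Module.finrank F ↥W ≤ 2 := by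
    obtain ⟨k, hk0, hk⟩ := exists_mulVec_eq_zero_iff.2 hsing
    have h1 := LinearMap.finrank_range_add_finrank_ker (Matrix.toLin' N)
    have h2 : 0 < Module.finrank F ↥(LinearMap.ker (Matrix.toLin' N)) :=
      Module.finrank_pos_iff_exists_ne_zero.2 ⟨⟨k, by simpa [Matrix.toLin'_apply] using hk⟩, by simpa using hk0⟩
    rw [← hW, Module.finrank_pi] at h1
    simp at h1
    omega
  obtain ⟨w, hw, hwi⟩ : ∃ w ∈ W, LinearIndependent F ![w, N *ᵥ w] := by
    by_contra hcon
    push Not at hcon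
    have hdep : ∀ w ∈ W, w ≠ 0 → ∃ s : F, N *ᵥ w = s • w := fun w hw hw0 => by
      have := hcon w hw
      rw [LinearIndependent.pair_iff' hw0] at this
      push Not at this
      obtain ⟨s, hs⟩ := this
      exact ⟨s, hs.symm⟩
    obtain ⟨w₁, hw₁, h10⟩ := W.exists_mem_ne_zero_of_ne_bot (fun e => by rw [e, finrank_bot] at hge; omega)
    obtain ⟨s, hs⟩ := hdep w₁ hw₁ h10
    have hall : ∀ w ∈ W, N *ᵥ w = s • w := by
      intro w hw
      by_cases hsp : ∃ t : F, t • w₁ = w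
      · obtain ⟨t, rfl⟩ := hsp; rw [mulVec_smul, hs, smul_comm]
      push Not at hsp
      have hi : LinearIndependent F ![w₁, w] := (LinearIndependent.pair_iff' h10).2 hsp
      obtain ⟨s₂, hs₂⟩ := hdep w hw (fun e => hsp 0 (by rw [e, zero_smul]))
      obtain ⟨s₃, hs₃⟩ := hdep (w₁ + w) (W.add_mem hw₁ hw) (fun e => hsp (-1) (by
        rw [neg_one_smul]; exact (eq_neg_of_add_eq_zero_right e).symm))
      rw [mulVec_add, hs, hs₂] at hs₃
      obtain ⟨h1, h2⟩ := LinearIndependent.pair_iff.1 hi (s - s₃) (s₂ - s₃) (by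
        rw [sub_smul, sub_smul, sub_add_sub_comm, hs₃, smul_add, sub_self])
      rw [hs₂, sub_eq_zero.1 h2, ← sub_eq_zero.1 h1]
    obtain ⟨u, φ, e⟩ := exists_outer (N := N - s • 1) (by
      have h1 := LinearMap.finrank_range_add_finrank_ker (Matrix.toLin' (N - s • 1))
      have h2 : W ≤ LinearMap.ker (Matrix.toLin' (N - s • 1)) := fun w hw => by
        rw [LinearMap.mem_ker, Matrix.toLin'_apply, sub_mulVec, hall w hw, smul_mulVec, one_mulVec, sub_self]
      have h3 := Submodule.finrank_mono h2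
      rw [Module.finrank_pi] at h1
      simp at h1 h3 ⊢
      omega)
    refine hA (r + s) u φ ?_
    rw [← e, hN, add_smul, sub_sub]
  have hspan : Submodule.span F (Set.range ![w, N *ᵥ w]) = W := by
    refine Submodule.eq_of_le_of_finrank_le ?_ ?_
    · rw [Submodule.span_le]; rintro _ ⟨i, rfl⟩; fin_cases i; exacts [hw, hmem _]
    · rw [finrank_span_eq_card hwi]; simpa using hle
  obtain ⟨v, hv, hvW⟩ : ∃ v, N *ᵥ v = w ∧ v ∉ W := by
    rw [hW] at hw
    obtain ⟨v, hv⟩ := hw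
    rw [Matrix.toLin'_apply] at hv
    obtain ⟨k, hk0, hk⟩ := exists_mulVec_eq_zero_iff.2 hsing
    by_cases hvW : v ∈ W
    · refine ⟨v + k, by rw [mulVec_add, hk, add_zero, hv], fun h => ?_⟩
      have hkW : k ∈ W := by simpa using W.sub_mem h hvW
      rw [← hspan, Matrix.range_cons_cons_empty, Submodule.mem_span_pair] at hkW hvW
      obtain ⟨a, b, hab⟩ := hkW
      obtain ⟨a', b', hab'⟩ := hvW
      have e1 : N *ᵥ (N *ᵥ w) ∈ W := hmem _
      rw [← hspan, Matrix.range_cons_cons_empty, Submodule.mem_span_pair] at e1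
      obtain ⟨p, q, hpq⟩ := e1
      have hn : ∀ a b : F, N *ᵥ (a • w + b • N *ᵥ w) = (b * p) • w + (a + b * q) • N *ᵥ w := fun a b => by
        rw [mulVec_add, mulVec_smul, mulVec_smul, ← hpq]; module
      rw [← hab, hn] at hk
      rw [← hab', hn] at hv
      obtain ⟨h1, h2⟩ := LinearIndependent.pair_iff.1 hwi _ _ hk
      obtain ⟨h3, h4⟩ := LinearIndependent.pair_iff.1 hwi (b' * p - 1) _ (by rw [sub_smul, one_smul, sub_add_eq_add_sub, hv, sub_self])
      have hb : b = 0 := by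
        linear_combination (-b) * h3 + b' * h1
      have ha : a = 0 := by rw [hb] at h2; simpa using h2
      exact hk0 (by rw [← hab, ha, hb]; simp)
    · exact ⟨v, hv, hvW⟩
  refine ⟨v, fun V hvV hinv => ?_⟩
  have hVN : ∀ y ∈ V, N *ᵥ y ∈ V := fun y hy => by
    rw [hN, sub_mulVec, smul_mulVec, one_mulVec]; exact V.sub_mem (hinv y hy) (V.smul_mem r hy)
  have hWV : W ≤ V := by
    rw [← hspan, Submodule.span_le]
    rintro _ ⟨i, rfl⟩
    have hwV : w ∈ V := hv ▸ hVN v hvV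
    fin_cases i
    exacts [hwV, hVN w hwV]
  refine Submodule.eq_top_of_finrank_eq ?_
  have h1 := Submodule.finrank_lt_finrank_of_lt (lt_of_le_of_ne hWV fun e => hvW (e ▸ hvV))
  have h2 := Submodule.finrank_le V
  rw [Module.finrank_pi] at h2 ⊢
  simp at h2 ⊢
  omega

/-! ### The three kinds of characteristic polynomial -/

theorem charpoly_cases (A : M3) :
    (∃ r p q : F, A.charpoly = (X - C r) * (X ^ 2 - C p * X + C q) ∧ r * r - p * r + q ≠ 0 ∧
      A.trace = r + p ∧ sigTwo A = r * p + q ∧ A.det = r * q) ∨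
    (∀ r, A.charpoly.eval r ≠ 0) ∨ ∃ a, A.charpoly = (X - C a) ^ 3 := by
  by_cases h : ∀ r, A.charpoly.eval r ≠ 0
  · exact Or.inr (Or.inl h)
  push Not at h
  obtain ⟨r, hr⟩ := h
  rw [charpoly_three] at hr
  simp at hr
  have key : ∀ r : F, r ^ 3 - A.trace * r ^ 2 + sigTwo A * r - A.det = 0 →
      A.charpoly = (X - C r) * (X ^ 2 - C (A.trace - r) * X + C (sigTwo A - r * (A.trace - r))) ∧
        A.det = r * (sigTwo A - r * (A.trace - r)) := by
    intro r hr
    have hd : A.det = r * (sigTwo A - r * (A.trace - r)) := by linear_combination -hr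
    refine ⟨?_, hd⟩
    rw [charpoly_three, hd]
    simp only [map_sub, map_mul]
    ring
  obtain ⟨k1, k2⟩ := key r hr
  obtain ⟨p, hp⟩ : ∃ p, p = A.trace - r := ⟨_, rfl⟩
  obtain ⟨q, hq⟩ : ∃ q, q = sigTwo A - r * (A.trace - r) := ⟨_, rfl⟩
  rw [← hp] at hq k1 k2
  rw [← hq] at k1 k2
  by_cases h1 : r * r - p * r + q = 0
  swap
  · exact Or.inl ⟨r, p, q, k1, h1, by rw [hp]; ring, by rw [hq]; ring, k2⟩
  by_cases h2 : p - r = r
  · refine Or.inr (Or.inr ⟨r, ?_⟩)
    rw [k1, show p = 2 * r by linear_combination h2, show q = r * r by linear_combination h1 + r * h2]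
    simp only [map_mul, map_ofNat]
    ring
  refine Or.inl ⟨p - r, 2 * r, r * r, ?_, ?_, by rw [hp]; ring, ?_, ?_⟩
  · have hq' : q = r * (p - r) := by linear_combination h1
    rw [k1, hq']
    simp only [map_sub, map_mul, map_ofNat]
    ring
  · intro e
    apply h2
    have : (p - r - r) * (p - r - r) = 0 := by linear_combination e
    exact sub_eq_zero.1 (mul_self_eq_zero.1 this)
  · rw [hq] at h1; linear_combination h1
  · rw [k2]; linear_combination r * h1

/-! ### The field model -/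

variable [Fintype F]

theorem field_model {A : M3} (h : ∀ r, A.charpoly.eval r ≠ 0) :
    FullDet A ∧ ∃ M : M3, GCls A M ∧ GCls A (M ^ Fintype.card F) ∧
      GCls A (M ^ Fintype.card F ^ 2) ∧ ∃ d : F, M * M ^ Fintype.card F * M ^ Fintype.card F ^ 2 = d • 1 := by
  classical
  have hirr : Irreducible A.charpoly := by
    refine (irreducible_iff_roots_eq_zero_of_degree_le_three ?_ ?_).2 ?_
    · rw [charpoly_natDegree_eq_dim]; simp
    · rw [charpoly_natDegree_eq_dim]; simp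
    · rw [Multiset.eq_zero_iff_forall_notMem]
      intro r hr
      exact h r (mem_roots'.1 hr).2
  haveI := Fact.mk hirr
  obtain ⟨pb, hpb⟩ : ∃ pb, pb = AdjoinRoot.powerBasis hirr.ne_zero := ⟨_, rfl⟩
  haveI : Module.Finite F (AdjoinRoot A.charpoly) := pb.finite
  haveI : Finite (AdjoinRoot A.charpoly) := Module.finite_of_finite F
  have hdim : pb.dim = 3 := by
    rw [hpb, AdjoinRoot.powerBasis_dim, charpoly_natDegree_eq_dim]; simp
  obtain ⟨b, hb⟩ : ∃ b, b = pb.basis.reindex (finCongr hdim) := ⟨_, rfl⟩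
  obtain ⟨φ, hφ⟩ : ∃ φ, φ = Algebra.leftMulMatrix b := ⟨_, rfl⟩
  have hφe : ∀ x, φ x = (Algebra.leftMulMatrix pb.basis x).submatrix (finCongr hdim).symm (finCongr hdim).symm := fun x => by
    ext i j
    simp [hφ, hb, Algebra.leftMulMatrix_apply, LinearMap.toMatrix_apply]
  obtain ⟨x, hx⟩ : ∃ x, x = AdjoinRoot.root A.charpoly := ⟨_, rfl⟩
  have hchar : (φ x).charpoly = A.charpoly := by
    rw [hφe, show (Algebra.leftMulMatrix pb.basis x).submatrix (finCongr hdim).symm (finCongr hdim).symm =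
      Matrix.reindex (finCongr hdim) (finCongr hdim) (Algebra.leftMulMatrix pb.basis x) from rfl, charpoly_reindex,
      show x = pb.gen by rw [hx, hpb, AdjoinRoot.powerBasis_gen], charpoly_leftMulMatrix, hpb, AdjoinRoot.powerBasis_gen,
      AdjoinRoot.minpoly_root hirr.ne_zero, A.charpoly_monic.leadingCoeff, inv_one, map_one, mul_one]
  have hcA : Cyclic A := cyclic_of_no_root h
  have hg : GCls A (φ x) := Cyclic.gcls_of_charpoly hcA (cyclic_of_no_root fun r => by rw [hchar]; exact h r) hchar.symm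
  refine ⟨FullDet.gcls (A := φ x) ?_ hg.symm, ?_⟩
  · intro t ht
    obtain ⟨z, hz⟩ := FiniteField.norm_surjective F (AdjoinRoot A.charpoly) t
    refine ⟨φ z, ?_, by rw [← map_mul, mul_comm, map_mul]⟩
    rw [hφ, ← Algebra.norm_eq_matrix_det, hz]
  have hq : ∀ M : M3, GCls A M → GCls A (M ^ Fintype.card F) := fun M hM => by
    have hc : (M ^ Fintype.card F).charpoly = A.charpoly := by
      rw [FiniteField.Matrix.charpoly_pow_card, hM.charpoly_eq]
    exact Cyclic.gcls_of_charpoly hcA (cyclic_of_no_root fun r => by rw [hc]; exact h r) hc.symm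
  have h2 : GCls A (φ x ^ Fintype.card F ^ 2) := by
    have := hq _ (hq _ hg)
    rwa [← pow_mul, ← pow_two] at this
  refine ⟨φ x, hg, hq _ hg, h2, Algebra.norm F x, ?_⟩
  have hn := FiniteField.algebraMap_norm_eq_pow (K := F) (K' := AdjoinRoot A.charpoly) (x := x)
  have he : (Nat.card (AdjoinRoot A.charpoly) - 1) / (Nat.card F - 1) =
      1 + Fintype.card F + Fintype.card F ^ 2 := by
    rw [Module.natCard_eq_pow_finrank (K := F), pb.finrank, hdim, Nat.card_eq_fintype_card]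
    obtain ⟨m, hm⟩ : ∃ m, Fintype.card F = m + 2 := ⟨Fintype.card F - 2, by have := Fintype.one_lt_card (α := F); omega⟩
    rw [hm]
    refine Nat.div_eq_of_eq_mul_left (by omega) ?_
    rw [show m + 2 - 1 = m + 1 by omega]
    apply Nat.sub_eq_of_eq_add
    ring
  rw [he] at hn
  rw [← Algebra.algebraMap_eq_smul_one, ← AlgHom.commutes φ, hn, map_pow, pow_add, pow_add, pow_one]

/-! ### Unipotent matrices -/

/-- Lower unitriangular. -/
def Lo (u v m : F) : Matrix (Fin 3) (Fin 3) F := !![1, 0, 0; u, 1, 0; m, v, 1]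

/-- Upper unitriangular. -/
def Up (x y z : F) : Matrix (Fin 3) (Fin 3) F := !![1, x, z; 0, 1, y; 0, 0, 1]

theorem scls_lo {α u v m k : F} (hα : α ≠ 0) (hk : k ≠ 0) (h : u ^ 2 * v = α * k ^ 3) :
    SCls (Lo 1 α 0) (Lo u v m) := by
  obtain ⟨s, hs⟩ : ∃ s, s = k⁻¹ := ⟨_, rfl⟩
  refine ⟨!![s, 0, 0; 0, s * u, 0; 0, s * m, s * u * v / α], ?_, ?_⟩
  · rw [det_fin_three]
    simp
    rw [hs]
    field_simp
    linear_combination h
  · ext i j
    fin_cases i <;> fin_cases j <;> simp [Lo, Matrix.mul_apply, Fin.sum_univ_three] <;> field_simp <;> ring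

theorem scls_up {α x y z k : F} (hα : α ≠ 0) (hk : k ≠ 0) (h : y ^ 2 * x = α * k ^ 3) :
    SCls (Lo 1 α 0) (Up x y z) := by
  obtain ⟨s, hs⟩ : ∃ s, s = -k⁻¹ := ⟨_, rfl⟩
  refine ⟨!![0, s * z, s * x * y / α; 0, s * y, 0; s, 0, 0], ?_, ?_⟩
  · rw [det_fin_three]
    simp
    rw [hs]
    field_simp
    linear_combination h
  · ext i j
    fin_cases i <;> fin_cases j <;> simp [Lo, Up, Matrix.mul_apply, Fin.sum_univ_three] <;> field_simp <;> ring

theorem up_mul (x y z x' y' z' : F) : Up x y z * Up x' y' z' = Up (x + x') (y + y') (z + z' + x * y') := by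
  ext i j
  fin_cases i <;> fin_cases j <;> simp [Up, Matrix.mul_apply, Fin.sum_univ_three] <;> ring

theorem lo_cyclic {α : F} (hα : α ≠ 0) : Cyclic (Lo 1 α 0) :=
  ⟨Pi.single 0 1, cycV_of_det (by
    simp [Lo, det_fin_three, mulVec, dotProduct, Fin.sum_univ_three, Matrix.vecHead, Matrix.vecTail, hα])⟩

theorem SCls.smul_mat {A X : M3} (c : F) (h : SCls A X) : SCls (c • A) (c • X) := by
  obtain ⟨P, hP, e⟩ := h
  exact ⟨P, hP, by rw [Matrix.smul_mul, e, Matrix.mul_smul]⟩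

theorem exists_normal {A : M3} {a : F} (hA : Two A) (ha : a ≠ 0) (hc : A.charpoly = (X - C a) ^ 3) :
    ∃ α : F, α ≠ 0 ∧ SCls A (a • Lo 1 α 0) := by
  have hcy : Cyclic (a • Lo (1 : F) 1 0) := (lo_cyclic one_ne_zero).imp fun _ hv => hv.smul_mat ha
  have hch : (a • Lo (1 : F) 1 0).charpoly = A.charpoly := by
    rw [hc, charpoly_three]
    simp [Lo, sigTwo, det_fin_three, trace_fin_three]
    ring
  obtain ⟨P, hP, e⟩ := Cyclic.gcls_of_charpoly hA.cyclic hcy hch.symm
  refine ⟨P.det⁻¹, inv_ne_zero hP.ne_zero, Matrix.diagonal ![1, 1, P.det⁻¹] * P, ?_, ?_⟩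
  · rw [det_mul, det_diagonal]
    simp [Fin.prod_univ_three, hP.ne_zero]
  · have e' : (a • Lo (1 : F) P.det⁻¹ 0) * Matrix.diagonal ![1, 1, P.det⁻¹] =
        Matrix.diagonal ![1, 1, P.det⁻¹] * (a • Lo (1 : F) 1 0) := by
      ext i j
      fin_cases i <;> fin_cases j <;> simp [Lo, Matrix.mul_apply, Fin.sum_univ_three] <;> ring
    rw [← Matrix.mul_assoc, e', Matrix.mul_assoc, e, Matrix.mul_assoc]

theorem exists_w (h4 : 4 ≤ Fintype.card F) : ∃ w : F, w ≠ 0 ∧ w ≠ 1 ∧ w * w ≠ 1 := by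
  classical
  obtain ⟨w, hw⟩ : ∃ w, w ∉ ({0, 1, -1} : Finset F) := by
    by_contra hcon
    push Not at hcon
    have : Fintype.card F ≤ ({0, 1, -1} : Finset F).card := Finset.card_le_card fun x _ => hcon x
    have := Finset.card_le_three (a := (0 : F)) (b := 1) (c := -1)
    omega
  simp at hw
  refine ⟨w, hw.1, hw.2.1, fun e => ?_⟩
  rcases mul_self_eq_one_iff.1 e with e | e
  exacts [hw.2.1 e, hw.2.2 e]

theorem spl_of_roots {D : M3} {w : F} (h0 : w ≠ 0) (h1 : w ≠ 1) (h2 : w * w ≠ 1)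
    (h : HasRoots D [1, w, w⁻¹]) : Spl D := by
  have e1 : (1 : F) ≠ w⁻¹ := fun e => h1 (inv_eq_one.1 e.symm)
  have e2 : w ≠ w⁻¹ := fun e => h2 (by nth_rw 2 [e]; exact mul_inv_cancel₀ h0)
  exact ⟨(two_of_nodup h (Ne.symm h1) e1 e2).cyclic, 1, [w, w⁻¹], h, by simp [Ne.symm h1, e1], by simp [Ne.symm h0]⟩

theorem unip_pair {α w : F} (hα : α ≠ 0) (h0 : w ≠ 0) (h1 : w ≠ 1) (h2 : w * w ≠ 1) :
    ∃ L U : M3, SCls (Lo 1 α 0) L ∧ SCls (Lo 1 α 0) U ∧ HasRoots (L * U) [1, w, w⁻¹] := by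
  by_cases hc : ∃ c : F, c ≠ 0 ∧ c ^ 3 + 1 ≠ 0
  · obtain ⟨c, hc0, hc⟩ := hc
    obtain ⟨τ, hτ⟩ : ∃ τ, τ = 1 + w + w⁻¹ - 3 := ⟨_, rfl⟩
    have hτ0 : τ ≠ 0 := by
      have : τ * w = (w - 1) ^ 2 := by rw [hτ]; field_simp; ring
      intro e
      rw [e, zero_mul] at this
      exact h1 (sub_eq_zero.1 (pow_eq_zero_iff two_ne_zero |>.1 this.symm))
    obtain ⟨y, hy⟩ : ∃ y, y = τ / (α * (c ^ 3 + 1)) := ⟨_, rfl⟩
    have hy0 : y ≠ 0 := by rw [hy]; exact div_ne_zero hτ0 (mul_ne_zero hα hc)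
    have key : α * y * c ^ 3 + α * y = τ := by rw [hy]; field_simp
    refine ⟨Lo 1 α 0, Up (α * y * c ^ 3) y (α * y * c ^ 3 * y), SCls.refl _,
      scls_up hα (mul_ne_zero hy0 hc0) (by ring), ?_⟩
    refine hasRoots_three ?_ ?_ ?_
    · simp [Lo, Up, Matrix.mul_apply, Fin.sum_univ_three, trace_fin_three]
      rw [hτ] at key
      linear_combination key
    · simp [Lo, Up, Matrix.mul_apply, Fin.sum_univ_three, sigTwo]
      rw [hτ] at key
      field_simp at key ⊢
      linear_combination key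
    · simp [Lo, Up, Matrix.mul_apply, Fin.sum_univ_three, det_fin_three, h0]
      ring
  push Not at hc
  have htwo : (2 : F) = 0 := by linear_combination hc 1 one_ne_zero
  have hw3 := hc w h0
  have hα3 := hc α hα
  have hw : w * w + w + 1 = 0 := by
    have : (w - 1) * (w * w + w + 1) = 0 := by linear_combination hw3 - htwo
    exact (mul_eq_zero.1 this).resolve_left (sub_ne_zero.2 h1)
  have hwi : w⁻¹ = w * w := inv_eq_of_mul_eq_one_right (by linear_combination hw3 - htwo)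
  refine ⟨Lo 1 α (α * w), Up 1 (α * α) (α * α * (w * w)), scls_lo hα one_ne_zero (by ring),
    scls_up hα one_ne_zero (by linear_combination α * hα3 - α * htwo), ?_⟩
  rw [hwi]
  refine hasRoots_three ?_ ?_ ?_
  · simp [Lo, Up, Matrix.mul_apply, Fin.sum_univ_three, trace_fin_three]
    linear_combination (w ^ 3 + 1) * hα3 - hw3 - hw + 2 * htwo
  · simp [Lo, Up, Matrix.mul_apply, Fin.sum_univ_three, sigTwo]
    linear_combination (2 - w - w ^ 2 + w ^ 3) * hα3 - 2 * hw3 + (2 : F) * htwo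
  · simp [Lo, Up, Matrix.mul_apply, Fin.sum_univ_three, det_fin_three]
    linear_combination -hw3 + htwo

theorem SCls.conjBy {A X P : M3} (hP : P.det = 1) (h : SCls A X) : SCls A (P * X * P⁻¹) :=
  h.trans ⟨P, hP, by rw [Matrix.mul_assoc, nonsing_inv_mul _ (by rw [hP]; exact isUnit_one), Matrix.mul_one]⟩

/-- A product of three conjugates. -/
theorem good_of {A B A₁ A₂ A₃ : M3} {d : F} (h₁ : SCls A A₁) (h₂ : SCls A A₂) (h₃ : SCls A A₃)
    (h : SCls (A₁ * A₂ * A₃) (d • B)) :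
    ∃ (d : F) (l : List M3), l.length = 3 ∧ (∀ X ∈ l, SCls A X) ∧ l.prod = d • B := by
  obtain ⟨P, hP, e⟩ := h
  have hu : IsUnit P.det := by rw [hP]; exact isUnit_one
  refine ⟨d, [P * A₁ * P⁻¹, P * A₂ * P⁻¹, P * A₃ * P⁻¹], rfl, ?_, ?_⟩
  · simp only [List.mem_cons, List.not_mem_nil, or_false]
    rintro X (rfl | rfl | rfl)
    exacts [h₁.conjBy hP, h₂.conjBy hP, h₃.conjBy hP]
  · calc _ = P * (A₁ * A₂ * A₃) * P⁻¹ := by
          simp only [List.prod_cons, List.prod_nil, mul_one, Matrix.mul_assoc, nonsing_inv_mul_cancel_left _ _ hu]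
      _ = d • B := by rw [← e, Matrix.mul_assoc, mul_nonsing_inv _ hu, Matrix.mul_one]

theorem fullDet_rankone {B : M3} {c : F} {u φ : Fin 3 → F} (hu : u ≠ 0) (h : B - c • 1 = vecMulVec u φ) :
    FullDet B := by
  intro t _
  obtain ⟨v, hv, hvu⟩ : ∃ v, φ ⬝ᵥ v = 0 ∧ v ∉ Submodule.span F {u} := by
    by_contra hcon
    push Not at hcon
    have h1 := Submodule.finrank_mono (show LinearMap.ker (dotProductBilin F F φ) ≤ Submodule.span F {u} from
      fun v hv => hcon v hv)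
    have h2 := LinearMap.finrank_range_add_finrank_ker (dotProductBilin F F φ)
    have h3 : Module.finrank F ↥(LinearMap.range (dotProductBilin F F φ)) ≤ 1 :=
      (Submodule.finrank_le _).trans (by simp)
    rw [finrank_span_singleton hu] at h1
    rw [Module.finrank_pi] at h2
    simp at h2
    omega
  have hi : LinearIndependent F ![u, v] :=
    (LinearIndependent.pair_iff' hu).2 fun a e => hvu (Submodule.mem_span_singleton.2 ⟨a, e⟩)
  obtain ⟨P, hP, p0, p1⟩ := exists_cols (i := (0 : Fin 3)) (j := 1) (by decide) hi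
  obtain ⟨ψ, hψ⟩ : ∃ ψ : Fin 3 → F, ψ = fun k => (t - 1) * P⁻¹ 1 k := ⟨_, rfl⟩
  have hk : ∀ i : Fin 3, ψ ⬝ᵥ (P *ᵥ Pi.single i 1) = (t - 1) * (1 : M3) 1 i := fun i => by
    rw [show ψ = (t - 1) • (P⁻¹ 1) from hψ, smul_dotProduct, smul_eq_mul, ← nonsing_inv_mul _ hP]
    congr 1
    simp [dotProduct, Matrix.mul_apply]
  have e0 : ψ ⬝ᵥ u = 0 := by rw [← p0, hk]; simp
  have e1 : ψ ⬝ᵥ v = t - 1 := by rw [← p1, hk]; simp
  refine ⟨1 + vecMulVec v ψ, by rw [det_one_add_vec, e1]; ring, ?_⟩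
  have hB : B = c • 1 + vecMulVec u φ := by rw [← h]; abel
  rw [hB, Matrix.mul_add, Matrix.add_mul, Matrix.add_mul, Matrix.add_mul, Matrix.mul_add, Matrix.mul_add,
    vecMulVec_mul_vecMulVec, vecMulVec_mul_vecMulVec, e0, hv]
  simp

/-- The unipotent class. -/
theorem good_unip (h4 : 4 ≤ Fintype.card F) {α : F} (hα : α ≠ 0) {B : M3} (hB : B.det = 1) :
    ∃ (d : F) (l : List M3), l.length = 3 ∧ (∀ X ∈ l, SCls (Lo 1 α 0) X) ∧ l.prod = d • B := by
  obtain ⟨w, h0, h1, h2⟩ := exists_w h4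
  by_cases hBn : NonScalar B
  swap
  · simp only [NonScalar, not_forall, not_not] at hBn
    obtain ⟨β, rfl⟩ := hBn
    have hβ : β ≠ 0 := by rintro rfl; simp at hB
    have hw1 : -1 - w ≠ 0 := fun e => h2 (by linear_combination (1 - w) * e)
    refine good_of (d := β⁻¹) (scls_up (x := α * 1) (y := 1) (z := -α * (w + 1 * (-1 - w) + w * (-1 - w))) hα one_ne_zero (by ring))
      (scls_up (x := α * w) (y := w) (z := 0) hα h0 (by ring))
      (scls_up (x := α * (-1 - w)) (y := -1 - w) (z := 0) hα hw1 (by ring)) ?_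
    rw [smul_smul, inv_mul_cancel₀ hβ, one_smul, up_mul, up_mul]
    convert SCls.refl (1 : M3) using 1
    ext i j
    fin_cases i <;> fin_cases j <;> simp [Up] <;> ring
  have hFull : FullDet B → ∃ (d : F) (l : List M3), l.length = 3 ∧ (∀ X ∈ l, SCls (Lo 1 α 0) X) ∧ l.prod = d • B := by
    intro hBF
    obtain ⟨L, U, hL, hU, hLU⟩ := unip_pair hα h0 h1 h2
    have hS := spl_of_roots h0 h1 h2 hLU
    obtain ⟨X', D', g1, g2, e⟩ := two_cover (D := L * U) (by simp) hBn (by rw [hB]; exact isUnit_one) (lo_cyclic hα) hS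
      (by rw [hLU.det, hB]; simp [Lo, det_fin_three, h0])
    obtain ⟨P, hP, ep⟩ := g1
    obtain ⟨S, hS', cS⟩ := hBF P.det⁻¹ (inv_ne_zero hP.ne_zero)
    have hSu : IsUnit S.det := by rw [hS']; exact isUnit_iff_ne_zero.2 (inv_ne_zero hP.ne_zero)
    have s1 : SCls (Lo 1 α 0) (S * X' * S⁻¹) := by
      refine ⟨S * P, by rw [det_mul, hS', inv_mul_cancel₀ hP.ne_zero], ?_⟩
      simp only [Matrix.mul_assoc, nonsing_inv_mul_cancel_left _ _ hSu, ep]
    obtain ⟨Q, hQ, eq'⟩ := hS.fullDet.scls (g2.trans (GCls.of_conj D' hSu))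
    refine good_of (d := 1) (B := B) s1 (hL.conjBy hQ) (hU.conjBy hQ) ?_
    have hQu : IsUnit Q.det := by rw [hQ]; exact isUnit_one
    convert SCls.refl B using 1
    · have e' : S * D' * S⁻¹ = Q * (L * U) * Q⁻¹ := by
        rw [← eq', mul_nonsing_inv_cancel_right _ _ hQu]
      calc _ = S * X' * S⁻¹ * (Q * (L * U) * Q⁻¹) := by
            simp only [Matrix.mul_assoc, nonsing_inv_mul_cancel_left _ _ hQu]
        _ = S * B * S⁻¹ := by
            rw [← e', ← e]; simp only [Matrix.mul_assoc, nonsing_inv_mul_cancel_left _ _ hSu]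
        _ = B := by rw [cS, Matrix.mul_assoc, mul_nonsing_inv _ hSu, Matrix.mul_one]
    · rw [one_smul]
  by_cases hT : Two B
  swap
  · simp only [Two, not_forall, not_not] at hT
    obtain ⟨c, u, φ, e⟩ := hT
    refine hFull (fullDet_rankone (fun hu => hBn c ?_) e)
    rw [hu, zero_vecMulVec, sub_eq_zero] at e
    exact e
  rcases charpoly_cases B with ⟨r, p, q, hg, hr, -, -, -⟩ | hno | ⟨b, hb⟩
  · exact hFull (fullDet_simple hg (by simpa [pow_two] using hr))
  · exact hFull (field_model hno).1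
  have hb0 : b ≠ 0 := by
    intro e
    have := det_eq_sign_charpoly_coeff B
    rw [hb, hB, e] at this
    simp at this
  obtain ⟨β, hβ, hB'⟩ := exists_normal hT hb0 hb
  have hgoal : ∀ M : M3, SCls (Lo 1 β 0) M → SCls M (b⁻¹ • B) := fun M hM => by
    refine hM.symm.trans ?_
    have := hB'.symm.smul_mat b⁻¹
    rwa [smul_smul, inv_mul_cancel₀ hb0, one_smul] at this
  by_cases hk : ∃ k : F, k ≠ 0 ∧ β = α * k ^ 3
  · obtain ⟨k, hk0, rfl⟩ := hk
    refine good_of (d := b⁻¹) (scls_up (x := α * 1) (y := 1) (z := 0) hα one_ne_zero (by ring))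
      (scls_up (x := α * 1) (y := 1) (z := 0) hα one_ne_zero (by ring))
      (scls_up (x := α * -1) (y := -1) (z := 0) hα (neg_ne_zero.2 one_ne_zero) (by ring)) (hgoal _ ?_)
    rw [up_mul, up_mul]
    exact scls_up (k := k⁻¹) hβ (inv_ne_zero hk0) (by field_simp; ring)
  push Not at hk
  obtain ⟨v, hv⟩ : ∃ v, v = β / α := ⟨_, rfl⟩
  have hv0 : v ≠ 0 := hv ▸ div_ne_zero hβ hα
  have hv1 : v ≠ 1 := fun e => hk 1 one_ne_zero (by rw [hv, div_eq_one_iff_eq hα] at e; rw [e]; ring)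
  have hv2 : v * v ≠ 1 := fun e => by
    rcases mul_self_eq_one_iff.1 e with e | e
    · exact hv1 e
    · exact hk (-1) (by simp) (by rw [hv, div_eq_iff hα] at e; rw [e]; ring)
  have hβe : β = α * v := by rw [hv, mul_div_cancel₀ _ hα]
  obtain ⟨y, hy⟩ : ∃ y, y = (2 - v - v⁻¹) / α := ⟨_, rfl⟩
  obtain ⟨z, hz⟩ : ∃ z, z = (v + (α * y + v⁻¹) + 1 - 3) / (α * v) := ⟨_, rfl⟩
  have hU : HasRoots (!![1, 0, z; 0, v, y; 0, 0, v⁻¹] : M3) [1, v, v⁻¹] := by
    refine hasRoots_three ?_ ?_ ?_ <;> simp [trace_fin_three, sigTwo, det_fin_three]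
  obtain ⟨L, U, hL, hU', hLU⟩ := unip_pair hα hv0 hv1 hv2
  have hS := spl_of_roots hv0 hv1 hv2 hLU
  obtain ⟨Q, hQ, eq'⟩ := hS.fullDet.scls (Cyclic.gcls_of_charpoly hS.1 (spl_of_roots hv0 hv1 hv2 hU).1
    (by rw [hLU, hU]))
  have hQu : IsUnit Q.det := by rw [hQ]; exact isUnit_one
  refine good_of (d := b⁻¹) (SCls.refl _) (hL.conjBy hQ) (hU'.conjBy hQ) (hgoal _ ?_)
  have e : Lo 1 α 0 * (Q * L * Q⁻¹) * (Q * U * Q⁻¹) = Lo 1 α 0 * !![1, 0, z; 0, v, y; 0, 0, v⁻¹] := by
    simp only [Matrix.mul_assoc, nonsing_inv_mul_cancel_left _ _ hQu]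
    congr 1
    rw [← Matrix.mul_assoc L, ← Matrix.mul_assoc, ← eq', Matrix.mul_assoc, mul_nonsing_inv _ hQu, Matrix.mul_one]
  rw [e]
  refine ⟨!![1, 0, 0; 0, 1, (v - 1) / β; 0, 0, 1], by simp [det_fin_three], ?_⟩
  subst hz hy hβe
  ext i j
  fin_cases i <;> fin_cases j <;> simp [Lo, Matrix.mul_apply, Fin.sum_univ_three, hα, hv0] <;> field_simp <;> ring

/-- A non-scalar matrix far from scalars has three conjugates multiplying to any target up to a scalar. -/
theorem three_good (h4 : 4 ≤ Fintype.card F) {A : M3} (hA : A.det = 1) (hT : Two A) (B : M3) (hB : B.det = 1) :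
    ∃ (d : F) (l : List M3), l.length = 3 ∧ (∀ X ∈ l, SCls A X) ∧ l.prod = d • B := by
  rcases charpoly_cases A with hs | hno | ⟨a, ha⟩
  rotate_left 2
  · have ha3 : a ^ 3 = 1 := by
      have := det_eq_sign_charpoly_coeff A
      rw [ha, hA] at this
      simp [coeff_zero_eq_eval_zero] at this
      linear_combination -this
    have ha0 : a ≠ 0 := by rintro rfl; simp at ha3
    obtain ⟨α, hα, hN⟩ := exists_normal hT ha0 ha
    obtain ⟨d, l, hl, hmem, hp⟩ := good_unip h4 hα hB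
    obtain ⟨x, y, z, rfl⟩ := List.length_eq_three.1 hl
    refine ⟨d, [a • x, a • y, a • z], rfl, ?_, ?_⟩
    · simp only [List.mem_cons, List.not_mem_nil, or_false]
      rintro X (rfl | rfl | rfl) <;> exact hN.trans ((hmem _ (by simp)).smul_mat a)
    · simp only [List.prod_cons, List.prod_nil, mul_one] at hp ⊢
      simp only [Matrix.smul_mul, Matrix.mul_smul, smul_smul]
      rw [hp, smul_smul]
      congr 1
      linear_combination d * ha3
  all_goals
  have hF : FullDet A := by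
    first
      | (obtain ⟨r, p, q, hg, hr, -, -, -⟩ := hs; exact fullDet_simple hg (by simpa [pow_two] using hr))
      | exact (field_model hno).1
  have hAu : IsUnit A.det := by rw [hA]; exact isUnit_one
  by_cases hBn : NonScalar B
  · obtain ⟨w, h0, h1, h2⟩ := exists_w h4
    have e1 : (1 : F) ≠ w⁻¹ := fun e => h1 (inv_eq_one.1 e.symm)
    obtain ⟨P, U, hP, hUc, hUr, hg⟩ := lev_list (by simp) hT.nonScalar hAu (hT.cyclic.inv hAu) (b := 1)
      (l := [w⁻¹, w]) (by simp) (by simp [Ne.symm h1, e1]) (by simp [Ne.symm h0])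
      (by rw [det_nonsing_inv, hA]; simp [h0])
    have hUs : Spl U := ⟨hUc, 1, [w⁻¹, w], hUr, by simp [Ne.symm h1, e1], by simp [Ne.symm h0]⟩
    have hUu := hUs.isUnit_det
    obtain ⟨C₁, hC₁⟩ : ∃ C₁, C₁ = P * A * P⁻¹ := ⟨_, rfl⟩
    rw [← hC₁] at hg
    have g1 : GCls A C₁ := hC₁ ▸ GCls.of_conj _ hP
    have hCu : IsUnit C₁.det := g1.det_eq ▸ hAu
    have g0 : GCls A (C₁ * U)⁻¹ := by
      have := hg.inv
      rwa [nonsing_inv_nonsing_inv _ hAu] at this
    obtain ⟨X', D', gX, gD, e⟩ := two_cover (D := U⁻¹) (by simp) hBn (by rw [hB]; exact isUnit_one) hT.cyclic hUs.inv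
      (by rw [det_nonsing_inv, hUr.det, hA, hB]; simp [h0])
    obtain ⟨Q, hQ, eQ⟩ := gD.exists_conj
    refine good_of (d := 1) (B := B) (hF.scls gX) (hF.scls (g0.trans (GCls.of_conj _ hQ)))
      (hF.scls (g1.trans (GCls.of_conj _ hQ))) ?_
    rw [one_smul]
    convert SCls.refl B using 1
    rw [← e, eQ, Matrix.mul_inv_rev]
    simp only [Matrix.mul_assoc, nonsing_inv_mul_cancel_left _ _ hQ, nonsing_inv_mul_cancel_left _ _ hCu]
  simp only [NonScalar, not_forall, not_not] at hBn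
  obtain ⟨β, rfl⟩ := hBn
  have hβ : β ≠ 0 := by rintro rfl; simp at hB
  first
    | -- a simple eigenvalue
      obtain ⟨r, p, q, hg, hr, htr, hsig, hdet⟩ := hs
      rw [hA] at hdet
      have hr0 : r ≠ 0 := by rintro rfl; simp at hdet
      have hq : q = r⁻¹ := (inv_eq_of_mul_eq_one_right hdet.symm).symm
      subst hq
      obtain ⟨A₀, hA₀⟩ : ∃ A₀ : M3, A₀ = !![r, 0, 0; 0, 0, -r⁻¹; 0, 1, p] := ⟨_, rfl⟩
      have hc₀ : Cyclic A₀ := ⟨![1, 1, 0], cycV_of_det (by
        rw [hA₀]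
        simp [det_fin_three, mulVec, dotProduct, Fin.sum_univ_three, Matrix.vecHead, Matrix.vecTail]
        intro e
        exact hr (by linear_combination e))⟩
      have hch : A.charpoly = A₀.charpoly := by
        rw [charpoly_three, charpoly_three, htr, hsig, hA, hA₀]
        simp [sigTwo, det_fin_three, trace_fin_three, hr0]
      have g₀ := Cyclic.gcls_of_charpoly hT.cyclic hc₀ hch
      obtain ⟨Y, hY⟩ : ∃ Y : M3, Y = !![-r⁻¹, 1, 0; -(r⁻¹ * r⁻¹), r⁻¹, 1; 1, 0, 0] := ⟨_, rfl⟩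
      have hY3 : Y * (Y * Y) = 1 := by
        rw [hY]
        ext i j
        fin_cases i <;> fin_cases j <;> simp [Matrix.mul_apply, Fin.sum_univ_three, hr0] <;> field_simp <;> ring
      have hAY : A₀ * Y * (A₀ * Y) * (A₀ * Y) = 1 := by
        rw [hY, hA₀]
        ext i j
        fin_cases i <;> fin_cases j <;> simp [Matrix.mul_apply, Fin.sum_univ_three, hr0] <;> field_simp <;> ring
      have hYu : IsUnit Y.det := (isUnit_iff_isUnit_det _).1 (IsUnit.of_mul_eq_one _ hY3)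
      have hYY : IsUnit (Y * Y).det := by rw [det_mul]; exact hYu.mul hYu
      refine good_of (d := β⁻¹) (hF.scls g₀) (hF.scls (g₀.trans (GCls.of_conj _ hYu)))
        (hF.scls (g₀.trans (GCls.of_conj _ hYY))) ?_
      rw [inv_eq_right_inv hY3, inv_eq_right_inv (show Y * Y * Y = 1 by rw [Matrix.mul_assoc]; exact hY3), smul_smul,
        inv_mul_cancel₀ hβ, one_smul]
      convert SCls.refl (1 : M3) using 1
      rw [← hAY]
      have h6 : Y * Y * (Y * Y) = Y := by rw [Matrix.mul_assoc, hY3, Matrix.mul_one]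
      calc _ = A₀ * Y * A₀ * (Y * Y * (Y * Y)) * A₀ * Y := by simp only [Matrix.mul_assoc]
        _ = _ := by rw [h6]; simp only [Matrix.mul_assoc]
    | -- irreducible
      obtain ⟨-, hM⟩ := field_model hno
      obtain ⟨M, g1, g2, g3, d, e⟩ := hM
      refine good_of (d := d * β⁻¹) (hF.scls g1) (hF.scls g2) (hF.scls g3) ?_
      rw [e, smul_smul, mul_assoc, inv_mul_cancel₀ hβ, mul_one]
      exact SCls.refl _

end CfsgLib.SLCover
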