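import Cfsg.Agent.Lib.Classical.SLCover.Five
import Cfsg.Agent.Lib.Classical.SLCover.RankOne
import Cfsg.Agent.Lib.Classical.SLCover.Three

/-!
# Covering the projective special linear group
-/

set_option autoImplicit false
set_option linter.unusedSectionVars false
set_option linter.unusedSimpArgs false

namespace CfsgLib.SLCover

open Matrix

set_option maxHeartbeats 1000000

variable {F : Type*} [Field F] [Fintype F]

/-- Products of `n` conjugates reach everything up to a scalar. -/
theorem mat_good (h4 : 4 ≤ Fintype.card F) {n : ℕ} (hn : 3 ≤ n) {A : Matrix (Fin n) (Fin n) F} (hA : A.det = 1)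
    (hns : NonScalar A) (B : Matrix (Fin n) (Fin n) F) (hB : B.det = 1) :
    ∃ (d : F) (l : List (Matrix (Fin n) (Fin n) F)), l.length = n ∧ (∀ X ∈ l, SCls A X) ∧ l.prod = d • B := by
  by_cases hT : Two A
  swap
  · simp only [Two, not_forall, not_not] at hT
    obtain ⟨c, u, φ, h⟩ := hT
    exact rankone_good h4 hn hA hns (c := c) (u := u) (φ := φ) (by rw [← h, add_sub_cancel]) B hB
  have hu : IsUnit A.det := by rw [hA]; exact isUnit_one
  rcases Nat.lt_or_ge n 4 with h3 | h4n
  · obtain rfl : n = 3 := by omega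
    exact three_good h4 hA hT B hB
  rcases Nat.lt_or_ge n 5 with h5 | h5
  · obtain rfl : n = 4 := by omega
    obtain ⟨e⟩ : Nonempty (I4 ≃ Fin 4) := ⟨finSumFinEquiv⟩
    have he : ∀ m : List (Matrix I4 I4 F),
        (m.map fun X => X.submatrix e.symm e.symm).prod = m.prod.submatrix e.symm e.symm := by
      intro m
      induction m with
      | nil => simp
      | cons X m ih => rw [List.map_cons, List.prod_cons, ih, List.prod_cons, submatrix_mul_equiv]
    obtain ⟨hcov, c0, l, l1, l2, l3⟩ := cov_four h4 (A := A.submatrix e e) (by rwa [det_submatrix_equiv_self]) (hT.submatrix e)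
    obtain ⟨d, l', m1, m2, m3⟩ : ∃ (d : F) (l' : List (Matrix I4 I4 F)), l'.length = 4 ∧
        (∀ X ∈ l', SCls (A.submatrix e e) X) ∧ l'.prod = d • B.submatrix e e := by
      by_cases hBn : NonScalar (B.submatrix e e)
      · obtain ⟨l', m1, m2, m3, -⟩ := hcov _ hBn (by
          rw [det_submatrix_equiv_self, det_submatrix_equiv_self, hA, hB, one_pow])
        exact ⟨1, l', m1, m2, by rw [m3, one_smul]⟩
      · obtain ⟨b, hb⟩ : ∃ b : F, B.submatrix e e = b • 1 := by simpa [NonScalar] using hBn
        have hb0 : b ≠ 0 := fun h => by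
          have h1 := det_submatrix_equiv_self e B
          rw [hb, h, zero_smul, det_zero, hB] at h1
          exact zero_ne_one h1
        exact ⟨c0 / b, l, l1, l2, by rw [l3, hb, smul_smul, div_mul_cancel₀ _ hb0]⟩
    refine ⟨d, l'.map fun X => X.submatrix e.symm e.symm, by simp [m1], ?_, ?_⟩
    · simp only [List.mem_map]
      rintro _ ⟨X, hX, rfl⟩
      simpa [submatrix_submatrix] using (m2 X hX).submatrix e.symm
    · rw [he, m3, submatrix_smul]
      simp [submatrix_submatrix]
  obtain ⟨l, l1, l2, l3⟩ := ((cov_pred h4 n h5 (Fin n) (by simp) A hu hT).covNS.pad (by simp; omega) hT.nonScalar hu) B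
    (by rw [hA, hB, one_pow])
  exact ⟨1, l, by omega, l2, by rw [l3, one_smul]⟩

/-- The upper bound for the covering number of `PSL(n, q)`. -/
theorem psl_covered (h4 : 4 ≤ Fintype.card F) (n : ℕ) (hn : 3 ≤ n)
    (x : Matrix.ProjectiveSpecialLinearGroup (Fin n) F) (hx : x ≠ 1)
    (g : Matrix.ProjectiveSpecialLinearGroup (Fin n) F) :
    ∃ f : Fin n → Matrix.ProjectiveSpecialLinearGroup (Fin n) F,
      g = (List.ofFn fun i => f i * x * (f i)⁻¹).prod := by
  classical
  obtain ⟨a, rfl⟩ := QuotientGroup.mk_surjective x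
  obtain ⟨b, rfl⟩ := QuotientGroup.mk_surjective g
  haveI : Nonempty (Fin n) := ⟨⟨0, by omega⟩⟩
  have hns : NonScalar (a : Matrix (Fin n) (Fin n) F) := by
    intro c hc
    refine hx ((QuotientGroup.eq_one_iff a).2 (Matrix.SpecialLinearGroup.mem_center_iff.2 ⟨c, ?_, ?_⟩))
    · have := a.2
      rw [hc, det_smul, det_one, mul_one] at this
      exact this
    · rw [scalar_apply, ← smul_one_eq_diagonal]; exact hc.symm
  obtain ⟨d, l, l1, l2, l3⟩ := mat_good h4 hn a.2 hns b b.2
  have hget : ∀ i : Fin n, SCls (a : Matrix (Fin n) (Fin n) F) (l.get (Fin.cast l1.symm i)) := fun i =>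
    l2 _ (List.get_mem l _)
  choose P hP hPX using hget
  obtain ⟨f, hf⟩ : ∃ f : Fin n → Matrix.SpecialLinearGroup (Fin n) F, ∀ i, (f i : Matrix (Fin n) (Fin n) F) = P i :=
    ⟨fun i => ⟨P i, hP i⟩, fun _ => rfl⟩
  obtain ⟨Q, hQ⟩ : ∃ Q, Q = (List.ofFn fun i => f i * a * (f i)⁻¹).prod := ⟨_, rfl⟩
  have hQm : (Q : Matrix (Fin n) (Fin n) F) = d • (b : Matrix (Fin n) (Fin n) F) := by
    have e1 : ∀ i, ((f i * a * (f i)⁻¹ : Matrix.SpecialLinearGroup (Fin n) F) : Matrix (Fin n) (Fin n) F) =
        l.get (Fin.cast l1.symm i) := fun i => by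
      have hinv : (f i : Matrix (Fin n) (Fin n) F) * ((f i)⁻¹ : Matrix.SpecialLinearGroup (Fin n) F) = 1 := by
        rw [← Matrix.SpecialLinearGroup.coe_mul, mul_inv_cancel, Matrix.SpecialLinearGroup.coe_one]
      rw [Matrix.SpecialLinearGroup.coe_mul, Matrix.SpecialLinearGroup.coe_mul, hf, ← hPX, Matrix.mul_assoc, ← hf,
        hinv, Matrix.mul_one]
    have e2 : ∀ L : List (Matrix.SpecialLinearGroup (Fin n) F), (L.prod : Matrix (Fin n) (Fin n) F) =
        (L.map fun X : Matrix.SpecialLinearGroup (Fin n) F => (X : Matrix (Fin n) (Fin n) F)).prod := by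
      intro L
      induction L with
      | nil => simp
      | cons X L ih => rw [List.prod_cons, Matrix.SpecialLinearGroup.coe_mul, ih, List.map_cons, List.prod_cons]
    have e3 : ∀ {m : ℕ} (L : List (Matrix (Fin n) (Fin n) F)) (h : L.length = m),
        List.ofFn (fun i : Fin m => L.get (Fin.cast h.symm i)) = L := by
      intro m L h
      subst h
      simp
    rw [hQ, e2, List.map_ofFn]
    simp only [Function.comp_def, e1]
    rw [e3 l l1, l3]
  have hd : d ^ n = 1 := by
    have := Q.2
    rw [hQm, det_smul, Fintype.card_fin, b.2, mul_one] at this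
    exact this
  refine ⟨fun i => QuotientGroup.mk (f i), ?_⟩
  have hmk : (QuotientGroup.mk Q : Matrix.ProjectiveSpecialLinearGroup (Fin n) F) =
      (List.ofFn fun i => (QuotientGroup.mk (f i) : Matrix.ProjectiveSpecialLinearGroup (Fin n) F) * QuotientGroup.mk a *
        (QuotientGroup.mk (f i))⁻¹).prod := by
    rw [hQ]
    show QuotientGroup.mk' _ _ = _
    rw [map_list_prod, List.map_ofFn]
    congr 2
  rw [← hmk, QuotientGroup.eq]
  refine Matrix.SpecialLinearGroup.mem_center_iff.2 ⟨d, by simpa using hd, ?_⟩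
  rw [Matrix.SpecialLinearGroup.coe_mul, hQm, Matrix.mul_smul, ← Matrix.SpecialLinearGroup.coe_mul, inv_mul_cancel,
    Matrix.SpecialLinearGroup.coe_one, scalar_apply, ← smul_one_eq_diagonal]

end CfsgLib.SLCover
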