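import Cfsg.Agent.Lib.Classical.SLCover.Cover

/-!
# Four conjugates from two kinds of pairs
-/

set_option autoImplicit false
set_option linter.unusedSectionVars false
set_option linter.unusedSimpArgs false

namespace CfsgLib.SLCover

open Matrix Polynomial

set_option maxHeartbeats 1000000

variable {F : Type*} [Field F] [Fintype F] {ι κ : Type} [Fintype ι] [DecidableEq ι] [Fintype κ] [DecidableEq κ]

/-- The whole class of `Z` consists of products of two conjugates of `A`. -/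
def InSq (A Z : Matrix ι ι F) : Prop :=
  ∀ Z', GCls Z Z' → ∃ B1 B2 : Matrix ι ι F, SCls A B1 ∧ SCls A B2 ∧ B1 * B2 = Z'

theorem InSq.of_scls {A A1 A2 Z : Matrix ι ι F} (hf : FullDet Z) (h1 : SCls A A1) (h2 : SCls A A2)
    (h : A1 * A2 = Z) : InSq A Z := by
  intro Z' hZ'
  obtain ⟨P, hP, e⟩ := hf.scls hZ'
  have hPu : IsUnit P.det := by rw [hP]; exact isUnit_one
  refine ⟨P * A1 * P⁻¹, P * A2 * P⁻¹, h1.trans ⟨P, hP, ?_⟩, h2.trans ⟨P, hP, ?_⟩, ?_⟩
  · rw [Matrix.mul_assoc, nonsing_inv_mul _ hPu, Matrix.mul_one]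
  · rw [Matrix.mul_assoc, nonsing_inv_mul _ hPu, Matrix.mul_one]
  · simp only [Matrix.mul_assoc, nonsing_inv_mul_cancel_left _ _ hPu]
    rw [← Matrix.mul_assoc A1, h, ← Matrix.mul_assoc, ← e, Matrix.mul_assoc, mul_nonsing_inv _ hPu, Matrix.mul_one]

theorem InSq.det_eq {A Z : Matrix ι ι F} (h : InSq A Z) : Z.det = A.det * A.det := by
  obtain ⟨B1, B2, b1, b2, b12⟩ := h Z (GCls.refl Z)
  rw [← b12, det_mul, b1.det_eq, b2.det_eq]

/-- The two kinds of pairs: only one eigenvalue, and split with that simple root. -/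
def TwoPairs (A : Matrix ι ι F) : Prop :=
  (∃ Z : Matrix ι ι F, InSq A Z ∧ Cyclic Z ∧ ∀ (c : F) (v : ι → F), Z *ᵥ v = c • v → v = 0 ∨ c = 1) ∧
  (∃ (Z : Matrix ι ι F) (l : List F), InSq A Z ∧ Cyclic Z ∧ HasRoots Z (1 :: l) ∧ (1 : F) ∉ l ∧ (0 : F) ∉ l)

theorem eigen_gcls {Z Z' : Matrix ι ι F} (h : GCls Z Z') {b : F}
    (he : ∀ (c : F) (v : ι → F), Z *ᵥ v = c • v → v = 0 ∨ c = b) :
    ∀ (c : F) (v : ι → F), Z' *ᵥ v = c • v → v = 0 ∨ c = b := by
  obtain ⟨P, hP, rfl⟩ := h.exists_conj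
  intro c v hv
  rcases he c (P⁻¹ *ᵥ v) (by
      have := congrArg (P⁻¹ *ᵥ ·) hv
      simpa only [mulVec_mulVec, mulVec_smul, ← Matrix.mul_assoc, nonsing_inv_mul _ hP, Matrix.one_mul] using this) with h0 | h0
  · left
    simpa [mulVec_mulVec, mul_nonsing_inv _ hP] using congrArg (P *ᵥ ·) h0
  · exact Or.inr h0

/-- The covering by two classes, with control of the eigenline of the simple root. -/
theorem two_cover_eig {Y X D : Matrix ι ι F} (hι : 2 ≤ Fintype.card ι) (hYn : NonScalar Y) (hY : IsUnit Y.det)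
    (hX : Cyclic X) (hD : Cyclic D) {b : F} {l : List F} (hr : HasRoots D (b :: l)) (hb : b ∉ l)
    (h0 : (0 : F) ∉ b :: l) (hdet : X.det * D.det = Y.det) :
    ∃ X' D' : Matrix ι ι F, GCls X X' ∧ GCls D D' ∧ X' * D' = Y ∧
      ∀ (c : F) (w : ι → F), X' *ᵥ w = c • w → D' *ᵥ w = b • w → w = 0 := by
  classical
  have hDu : IsUnit D.det := by
    rw [hr.det, isUnit_iff_ne_zero, Ne, List.prod_eq_zero_iff]; exact h0
  have hri := hr.inv hD h0
  have hDi := hD.inv hDu
  obtain ⟨li, hli⟩ : ∃ li, li = l.map (·⁻¹) := ⟨_, rfl⟩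
  rw [List.map_cons, ← hli] at hri
  simp only [List.mem_cons, not_or] at h0
  have hbi : b⁻¹ ∉ li := by simpa [hli] using hb
  have hb0 : b⁻¹ ≠ 0 := inv_ne_zero (Ne.symm h0.1)
  have hl0 : (0 : F) ∉ li := by simpa [hli] using h0.2
  have hlen : li.length + 1 = Fintype.card ι := by simpa using hri.length
  obtain ⟨e⟩ : Nonempty (Fin 1 ⊕ Fin li.length ≃ ι) := ⟨Fintype.equivOfCardEq (by simp; omega)⟩
  have hsub : ∀ M : Matrix ι ι F, (M.submatrix e e).charpoly = M.charpoly := fun M => by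
    have hs := charpoly_reindex e.symm M
    rwa [Matrix.reindex_apply, Equiv.symm_symm] at hs
  obtain ⟨P, U, hP, hUc, hUp, hUd, hx, hTp, hUe, hUline⟩ := lev_eig (m := li.length) (by omega) (hYn.submatrix e)
    (by rwa [det_submatrix_equiv_self]) hb0 (β := fun i => li.get i) (fun i h => hl0 (h ▸ List.get_mem li i))
    (fun i h => hbi (h ▸ List.get_mem li i)) (X.submatrix e e).charpoly_monic
    (by rw [charpoly_natDegree_eq_dim]; simp) (by
      rw [det_submatrix_equiv_self, ← List.prod_ofFn, List.ofFn_get, ← List.prod_cons, ← hri.det, det_nonsing_inv,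
        Ring.inverse_eq_inv', ← hdet, mul_assoc, mul_inv_cancel₀ hDu.ne_zero, mul_one,
        ← det_submatrix_equiv_self e X, det_eq_sign_charpoly_coeff (X.submatrix e e), ← mul_assoc, ← pow_add,
        show Fintype.card (Fin 1 ⊕ Fin li.length) = 1 + li.length by simp]
      simp)
  have hgU : GCls (D⁻¹.submatrix e e) U := by
    obtain ⟨y, hy⟩ := hDi
    refine Cyclic.gcls_of_charpoly ⟨_, hy.submatrix e⟩ hUc ?_
    rw [hsub, hUp, show D⁻¹.charpoly = _ from hri, List.map_cons, List.prod_cons]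
    congr 1
    rw [← List.prod_ofFn]
    congr 1
    conv_lhs => rw [← List.ofFn_get li]
    rw [List.map_ofFn]
    rfl
  obtain ⟨Yb, hYb⟩ : ∃ Yb, Yb = Y.submatrix e e := ⟨_, rfl⟩
  rw [← hYb] at hx hTp
  have hUu : IsUnit U.det := by
    rw [hgU.det_eq, det_submatrix_equiv_self]; exact isUnit_nonsing_inv_det _ hDu
  obtain ⟨T, hT⟩ : ∃ T, T = P * Yb * P⁻¹ * U := ⟨_, rfl⟩
  rw [← hT] at hx hTp
  have hgT : GCls (X.submatrix e e) T := by
    obtain ⟨y, hy⟩ := hX
    exact Cyclic.gcls_of_charpoly ⟨_, hy.submatrix e⟩ ⟨_, hx⟩ hTp.symm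
  have gsub : ∀ {M N : Matrix (Fin 1 ⊕ Fin li.length) (Fin 1 ⊕ Fin li.length) F}, GCls M N →
      GCls (M.submatrix e.symm e.symm) (N.submatrix e.symm e.symm) := by
    rintro M N ⟨R, hR, h⟩
    exact ⟨R.submatrix e.symm e.symm, by rwa [det_submatrix_equiv_self], by rw [submatrix_mul_equiv, submatrix_mul_equiv, h]⟩
  have hPi := isUnit_nonsing_inv_det _ hP
  refine ⟨(P⁻¹ * T * P).submatrix e.symm e.symm, (P⁻¹ * U⁻¹ * P).submatrix e.symm e.symm, ?_, ?_, ?_, ?_⟩
  · have := gsub (hgT.trans (GCls.of_conj T hPi))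
    simpa [submatrix_submatrix, nonsing_inv_nonsing_inv _ hP] using this
  · have := gsub (hgU.inv.trans (GCls.of_conj U⁻¹ hPi))
    simpa [submatrix_submatrix, inv_submatrix_equiv, nonsing_inv_nonsing_inv _ hP, nonsing_inv_nonsing_inv _ hDu] using this
  · rw [submatrix_mul_equiv, hT]
    simp only [Matrix.mul_assoc, mul_nonsing_inv_cancel_left _ _ hP, mul_nonsing_inv_cancel_left _ _ hUu,
      nonsing_inv_mul _ hP, Matrix.mul_one, nonsing_inv_mul_cancel_left _ _ hP]
    rw [hYb]; simp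
  · intro c w hXw hDw
    obtain ⟨p, hp⟩ : ∃ p, p = P *ᵥ (w ∘ e) := ⟨_, rfl⟩
    have hwp : w ∘ e = P⁻¹ *ᵥ p := by rw [hp, mulVec_mulVec, nonsing_inv_mul _ hP, one_mulVec]
    have pull : ∀ (M : Matrix (Fin 1 ⊕ Fin li.length) (Fin 1 ⊕ Fin li.length) F) (a : F),
        (P⁻¹ * M * P).submatrix e.symm e.symm *ᵥ w = a • w → M *ᵥ p = a • p := by
      intro M a h
      rw [submatrix_mulVec_equiv, Equiv.symm_symm] at h
      have h1 : (P⁻¹ * M * P) *ᵥ (w ∘ e) = a • (w ∘ e) := by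
        funext i
        simpa using congrFun h (e i)
      rw [← mulVec_mulVec, ← hp] at h1
      have h2 := congrArg (P *ᵥ ·) h1
      simp only [mulVec_mulVec, ← Matrix.mul_assoc, mul_nonsing_inv _ hP, Matrix.one_mul, mulVec_smul, ← hp] at h2
      exact h2
    have hTp' := pull T c hXw
    have hUp' := pull U⁻¹ b hDw
    have hUb : U *ᵥ p = b⁻¹ • p := by
      have h2 := congrArg (U *ᵥ ·) hUp'
      simp only [mulVec_mulVec, mul_nonsing_inv _ hUu, one_mulVec, mulVec_smul] at h2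
      rw [eq_inv_smul_iff₀ (Ne.symm h0.1)]
      exact h2.symm
    have hbot := hUline p hUb
    have hpe : p = p (.inl 0) • Sum.elim (fun _ => (1 : F)) 0 := by
      funext i
      rcases i with i | i
      · simp [Subsingleton.elim i 0]
      · simpa using congrFun hbot i
    suffices hp0 : p = 0 by
      funext i
      have := congrFun (hwp.trans (by rw [hp0, mulVec_zero])) (e.symm i)
      simpa using this
    by_contra hne
    have hs : p (.inl 0) ≠ 0 := fun h => hne (by rw [hpe, h, zero_smul])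
    have hev : T *ᵥ Sum.elim (fun _ => (1 : F)) 0 = c • Sum.elim (fun _ => (1 : F)) 0 := by
      rw [hpe, mulVec_smul, smul_comm c] at hTp'
      exact smul_right_injective _ hs hTp'
    have htop := hx (F ∙ Sum.elim (fun _ => (1 : F)) 0) (Submodule.mem_span_singleton_self _) fun y hy => by
      obtain ⟨t, rfl⟩ := Submodule.mem_span_singleton.1 hy
      rw [mulVec_smul, hev, smul_comm]
      exact Submodule.smul_mem _ _ (Submodule.smul_mem _ _ (Submodule.mem_span_singleton_self _))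
    have h1 := congrArg (fun S : Submodule F (Fin 1 ⊕ Fin li.length → F) => Module.finrank F ↥S) htop
    simp only [finrank_top, Module.finrank_pi] at h1
    rw [finrank_span_singleton (fun h => one_ne_zero (α := F) (congrFun h (.inl 0)))] at h1
    rw [Fintype.card_sum, Fintype.card_fin, Fintype.card_fin] at h1
    omega

/-- Four conjugates reach the non-scalar matrices, with no common eigenvector. -/
theorem TwoPairs.covA {A : Matrix ι ι F} (hι : 2 ≤ Fintype.card ι) (hu : IsUnit A.det) (h : TwoPairs A) : CovA A 4 := by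
  obtain ⟨⟨Z1, hq1, hc1, he1⟩, Z2, l, hq2, hc2, hr2, hl2, h02⟩ := h
  intro B hB hd
  obtain ⟨X', D', hX', hD', hXD, hev⟩ := two_cover_eig hι hB (hd ▸ hu.pow 4) hc1 hc2 hr2 hl2
    (by simp [h02]) (by rw [hq1.det_eq, hq2.det_eq, hd]; ring)
  obtain ⟨B1, B2, b1, b2, b12⟩ := hq1 X' hX'
  obtain ⟨B3, B4, b3, b4, b34⟩ := hq2 D' hD'
  refine ⟨[B1, B2, B3, B4], rfl, ?_, ?_, fun c w hw => ?_⟩
  · simp only [List.mem_cons, List.not_mem_nil, or_false]
    rintro W (rfl | rfl | rfl | rfl)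
    exacts [b1, b2, b3, b4]
  · simp only [List.prod_cons, List.prod_nil, mul_one]
    rw [← Matrix.mul_assoc, b12, b34, hXD]
  · have e1 : X' *ᵥ w = (c * c) • w := by
      rw [← b12, ← mulVec_mulVec, hw B2 (by simp), mulVec_smul, hw B1 (by simp), smul_smul]
    have e2 : D' *ᵥ w = (c * c) • w := by
      rw [← b34, ← mulVec_mulVec, hw B4 (by simp), mulVec_smul, hw B3 (by simp), smul_smul]
    rcases eigen_gcls hX' he1 _ w e1 with h0 | h0
    · exact h0
    · exact hev _ w e1 (h0 ▸ e2)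

/-- Scaling a class. -/
theorem CovA.of_smul {A : Matrix ι ι F} {t : F} (ht : t ≠ 0) {k : ℕ} (h : CovA (t • A) k) : CovA A k := by
  intro B hB hd
  have hB' : NonScalar (t ^ k • B) := fun c hc => hB ((t ^ k)⁻¹ * c) (by
    rw [← smul_smul, ← hc, smul_smul, inv_mul_cancel₀ (pow_ne_zero _ ht), one_smul])
  obtain ⟨l, l1, l2, l3, l4⟩ := h _ hB' (by
    rw [det_smul, det_smul, hd, mul_pow, ← pow_mul, ← pow_mul, mul_comm k])
  have hprod : ∀ m : List (Matrix ι ι F), (m.map fun X => t⁻¹ • X).prod = (t⁻¹) ^ m.length • m.prod := by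
    intro m
    induction m with
    | nil => simp
    | cons X m ih => rw [List.map_cons, List.prod_cons, ih, List.prod_cons, List.length_cons, Matrix.smul_mul,
        Matrix.mul_smul, smul_smul, pow_succ']
  refine ⟨l.map fun X => t⁻¹ • X, by simp [l1], ?_, ?_, fun c w hw => l4 (t * c) w fun X hX => ?_⟩
  · simp only [List.mem_map]
    rintro _ ⟨X, hX, rfl⟩
    obtain ⟨P, hP, e⟩ := l2 X hX
    refine ⟨P, hP, ?_⟩
    have := congrArg (fun M => t⁻¹ • M) e
    simpa [Matrix.mul_smul, Matrix.smul_mul, smul_smul, inv_mul_cancel₀ ht] using this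
  · rw [hprod, l3, l1, smul_smul, ← mul_pow, inv_mul_cancel₀ ht, one_pow, one_smul]
  · have := congrArg (fun v => t • v) (hw (t⁻¹ • X) (List.mem_map.2 ⟨X, hX, rfl⟩))
    simpa [smul_mulVec, smul_smul, mul_inv_cancel₀ ht] using this

end CfsgLib.SLCover
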