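import Cfsg.Agent.Lib.Classical.SLCover.Machine

/-!
# Peeling off an eigenvector
-/

set_option autoImplicit false
set_option linter.unusedSectionVars false
set_option linter.unusedSimpArgs false

namespace CfsgLib.SLCover

open Matrix Polynomial

set_option maxHeartbeats 1000000

variable {F : Type*} [Field F] [Fintype F] {ι κ : Type} [Fintype ι] [DecidableEq ι] [Fintype κ] [DecidableEq κ]

theorem Two.not_line {A : Matrix ι ι F} (hA : Two A) (c : F) (u : ι → F) :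
    ¬ ∀ x, (A - c • 1) *ᵥ x ∈ (F ∙ u) := by
  intro hall
  choose φ hφ using fun i => Submodule.mem_span_singleton.1 (hall (Pi.single i 1))
  refine hA c u φ (Matrix.ext fun i j => ?_)
  have := congrFun (hφ j) i
  simpa [vecMulVec_apply, mul_comm] using this.symm

theorem Two.two_le_range {A : Matrix ι ι F} (hA : Two A) (c : F) :
    2 ≤ Module.finrank F ↥(LinearMap.range (Matrix.toLin' (A - c • 1))) := by
  by_contra hlt
  push Not at hlt
  by_cases hbot : LinearMap.range (Matrix.toLin' (A - c • 1)) = ⊥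
  · refine hA.not_line c 0 fun x => ?_
    have : Matrix.toLin' (A - c • 1) x ∈ LinearMap.range (Matrix.toLin' (A - c • 1)) := LinearMap.mem_range_self _ x
    rw [hbot, Submodule.mem_bot, Matrix.toLin'_apply] at this
    rw [this]; exact Submodule.zero_mem _
  obtain ⟨u, hu, hu0⟩ := Submodule.exists_mem_ne_zero_of_ne_bot hbot
  refine hA.not_line c u fun x => ?_
  have heq : (F ∙ u) = LinearMap.range (Matrix.toLin' (A - c • 1)) :=
    Submodule.eq_of_le_of_finrank_le ((Submodule.span_singleton_le_iff_mem _ _).2 hu)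
      (by rw [finrank_span_singleton hu0]; omega)
  rw [heq]
  exact ⟨x, Matrix.toLin'_apply _ x⟩

theorem range_unique (hn : 5 ≤ Fintype.card ι) {A : Matrix ι ι F} {c c' : F}
    (h : Module.finrank F ↥(LinearMap.range (Matrix.toLin' (A - c • 1))) ≤ 2)
    (h' : Module.finrank F ↥(LinearMap.range (Matrix.toLin' (A - c' • 1))) ≤ 2) : c = c' := by
  by_contra hne
  have htop : LinearMap.range (Matrix.toLin' (A - c • 1)) ⊔ LinearMap.range (Matrix.toLin' (A - c' • 1)) = ⊤ := by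
    refine Submodule.eq_top_iff'.2 fun x => ?_
    have e : x = (c' - c)⁻¹ • ((A - c • 1) *ᵥ x) + (-(c' - c)⁻¹) • ((A - c' • 1) *ᵥ x) := by
      rw [neg_smul, ← sub_eq_add_neg, ← smul_sub, sub_mulVec, sub_mulVec, smul_mulVec, smul_mulVec, one_mulVec,
        sub_sub_sub_cancel_left, ← sub_smul, smul_smul, inv_mul_cancel₀ (sub_ne_zero.2 (Ne.symm hne)), one_smul]
    rw [e]
    exact Submodule.add_mem _ (Submodule.mem_sup_left (Submodule.smul_mem _ _ ⟨x, Matrix.toLin'_apply _ x⟩))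
      (Submodule.mem_sup_right (Submodule.smul_mem _ _ ⟨x, Matrix.toLin'_apply _ x⟩))
  have := Submodule.finrank_add_le_finrank_add_finrank (LinearMap.range (Matrix.toLin' (A - c • 1)))
    (LinearMap.range (Matrix.toLin' (A - c' • 1)))
  rw [htop, finrank_top, Module.finrank_pi] at this
  omega

/-- An eigenvector whose quotient stays far from the scalars. -/
theorem exists_quot {m : ℕ} (hm : 4 ≤ m) {A : Matrix (Fin 1 ⊕ Fin m) (Fin 1 ⊕ Fin m) F} (hA : Two A) (he : ¬ NoEig A) :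
    ∃ (Q : Matrix (Fin 1 ⊕ Fin m) (Fin 1 ⊕ Fin m) F) (lam : F) (r : Fin m → F) (A1 : Matrix (Fin m) (Fin m) F),
      IsUnit Q.det ∧ Q⁻¹ * A * Q = fromBlocks (lam • 1) (Matrix.replicateRow (Fin 1) r) 0 A1 ∧ Two A1 := by
  classical
  have hn : 5 ≤ Fintype.card (Fin 1 ⊕ Fin m) := by simp; omega
  obtain ⟨v, lam, hv0, hv, hgood⟩ : ∃ (v : Fin 1 ⊕ Fin m → F) (lam : F), v ≠ 0 ∧ A *ᵥ v = lam • v ∧
      ∀ c : F, Module.finrank F ↥(LinearMap.range (Matrix.toLin' (A - c • 1))) ≤ 2 →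
        v ∉ LinearMap.range (Matrix.toLin' (A - c • 1)) := by
    by_cases hex : ∃ c : F, Module.finrank F ↥(LinearMap.range (Matrix.toLin' (A - c • 1))) ≤ 2
    · obtain ⟨c, hc⟩ := hex
      have hker := LinearMap.finrank_range_add_finrank_ker (Matrix.toLin' (A - c • 1))
      rw [Module.finrank_pi] at hker
      obtain ⟨v, hv, hvR⟩ : ∃ v, v ∈ LinearMap.ker (Matrix.toLin' (A - c • 1)) ∧
          v ∉ LinearMap.range (Matrix.toLin' (A - c • 1)) := by
        by_contra hcon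
        push Not at hcon
        have := Submodule.finrank_mono (fun x hx => hcon x hx :
          LinearMap.ker (Matrix.toLin' (A - c • 1)) ≤ LinearMap.range (Matrix.toLin' (A - c • 1)))
        omega
      refine ⟨v, c, fun h => hvR (by rw [h]; exact Submodule.zero_mem _), ?_, fun c' hc' => range_unique hn hc hc' ▸ hvR⟩
      simpa [sub_mulVec, smul_mulVec, sub_eq_zero] using hv
    · obtain ⟨c, hc⟩ : ∃ c : F, (A - c • 1).det = 0 := by simpa [NoEig] using he
      obtain ⟨v, hv0, hv⟩ := exists_mulVec_eq_zero_iff.2 hc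
      exact ⟨v, c, hv0, by simpa [sub_mulVec, smul_mulVec, sub_eq_zero] using hv, fun c' hc' => absurd ⟨c', hc'⟩ hex⟩
  obtain ⟨Q, hQ, hQv⟩ := exists_col (i := (Sum.inl 0 : Fin 1 ⊕ Fin m)) (j := Sum.inr ⟨0, by omega⟩) (by simp) hv0
  obtain ⟨N, hN⟩ : ∃ N, N = Q⁻¹ * A * Q := ⟨_, rfl⟩
  have hcol : N *ᵥ Pi.single (.inl 0) 1 = lam • Pi.single (.inl 0) 1 := by
    rw [hN, ← mulVec_mulVec, hQv, ← mulVec_mulVec, hv, mulVec_smul]
    congr 1
    rw [← hQv, mulVec_mulVec, nonsing_inv_mul _ hQ, one_mulVec]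
  have hshape : N = fromBlocks (lam • 1) (Matrix.replicateRow (Fin 1) fun j => N (.inl 0) (.inr j)) 0 N.toBlocks₂₂ := by
    ext (i | i) (j | j)
    · simpa [Subsingleton.elim i 0, Subsingleton.elim j 0] using congrFun hcol (.inl i)
    · simp [Subsingleton.elim i 0]
    · simpa [Subsingleton.elim j 0] using congrFun hcol (.inr i)
    · simp [toBlocks₂₂]
  refine ⟨Q, lam, fun j => N (.inl 0) (.inr j), N.toBlocks₂₂, hQ, (by rw [← hN]; exact hshape), fun c u φ hc => ?_⟩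
  obtain ⟨u', hu'⟩ : ∃ u', u' = Q *ᵥ Sum.elim (0 : Fin 1 → F) u := ⟨_, rfl⟩
  have hle : LinearMap.range (Matrix.toLin' (A - c • 1)) ≤ (F ∙ v) ⊔ F ∙ u' := by
    rintro _ ⟨x, rfl⟩
    obtain ⟨p, hp⟩ : ∃ p, p = Q⁻¹ *ᵥ x := ⟨_, rfl⟩
    have hx : x = Q *ᵥ p := by rw [hp, mulVec_mulVec, mul_nonsing_inv _ hQ, one_mulVec]
    have hsplit : (N - c • 1) *ᵥ p = ((N - c • 1) *ᵥ p) (.inl 0) • Pi.single (.inl 0) 1 +
        (φ ⬝ᵥ (p ∘ Sum.inr)) • Sum.elim (0 : Fin 1 → F) u := by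
      funext i
      rcases i with i | i
      · simp [Subsingleton.elim i 0]
      · have h2 : ((N - c • 1) *ᵥ p) (.inr i) = ((N.toBlocks₂₂ - c • 1) *ᵥ (p ∘ Sum.inr)) i := by
          conv_lhs => rw [hshape]
          simp [mulVec, dotProduct, Fintype.sum_sum_type, Matrix.one_apply]
        rw [h2, hc, vecMulVec_mulVec, op_smul_eq_smul]
        simp
    have e1 : Matrix.toLin' (A - c • 1) x = Q *ᵥ ((N - c • 1) *ᵥ p) := by
      rw [Matrix.toLin'_apply, hx, sub_mulVec, sub_mulVec, mulVec_sub, smul_mulVec, smul_mulVec, one_mulVec, one_mulVec,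
        mulVec_smul, hN]
      simp only [mulVec_mulVec, Matrix.mul_assoc, mul_nonsing_inv_cancel_left _ _ hQ]
    rw [e1, hsplit, mulVec_add, mulVec_smul, mulVec_smul, hQv, ← hu']
    exact Submodule.add_mem _ (Submodule.mem_sup_left (Submodule.smul_mem _ _ (Submodule.mem_span_singleton_self v)))
      (Submodule.mem_sup_right (Submodule.smul_mem _ _ (Submodule.mem_span_singleton_self u')))
  have h2 : Module.finrank F ↥((F ∙ v) ⊔ F ∙ u') ≤ 2 := by
    refine (Submodule.finrank_add_le_finrank_add_finrank _ _).trans ?_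
    have h1 := finrank_span_singleton (K := F) hv0
    rcases eq_or_ne u' 0 with h | h
    · rw [h1, h, Submodule.span_zero_singleton, finrank_bot]; omega
    · rw [h1, finrank_span_singleton h]
  have hc2 := (Submodule.finrank_mono hle).trans h2
  refine hgood c hc2 ?_
  rw [Submodule.eq_of_le_of_finrank_le hle (h2.trans (hA.two_le_range c))]
  exact Submodule.mem_sup_left (Submodule.mem_span_singleton_self v)

theorem exists_good_x (hn : 5 ≤ Fintype.card ι) {A : Matrix ι ι F} (hA : Two A) :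
    ∃ x : ι → F, (∀ c : F, A *ᵥ x ≠ c • x) ∧
      ∀ c : F, ∃ y, A *ᵥ y - c • y ∉ (F ∙ x) ⊔ F ∙ (A *ᵥ x) := by
  classical
  obtain ⟨x0, hx0⟩ := hA.nonScalar.exists_vec
  by_cases hgood : ∀ c : F, ∃ y, A *ᵥ y - c • y ∉ (F ∙ x0) ⊔ F ∙ (A *ᵥ x0)
  · exact ⟨x0, hx0, hgood⟩
  push Not at hgood
  obtain ⟨c, hc⟩ := hgood
  obtain ⟨S, hS⟩ : ∃ S, S = (F ∙ x0) ⊔ F ∙ (A *ᵥ x0) := ⟨_, rfl⟩
  rw [← hS] at hc
  have hdim : ∀ x : ι → F, Module.finrank F ↥((F ∙ x) ⊔ F ∙ (A *ᵥ x)) ≤ 2 := fun x => by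
    refine (Submodule.finrank_add_le_finrank_add_finrank _ _).trans ?_
    have h1 : ∀ z : ι → F, Module.finrank F ↥(F ∙ z) ≤ 1 := fun z => by
      rcases eq_or_ne z 0 with h | h
      · rw [h, Submodule.span_zero_singleton, finrank_bot]; omega
      · rw [finrank_span_singleton h]
    have := h1 x; have := h1 (A *ᵥ x); omega
  have hStop : S ≠ ⊤ := fun h => by
    have := hdim x0
    rw [← hS, h, finrank_top, Module.finrank_pi] at this; omega
  obtain ⟨x, hxS, hx⟩ : ∃ x, x ∉ S ∧ ∀ a : F, A *ᵥ x ≠ a • x := by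
    by_contra hcon
    push Not at hcon
    obtain ⟨z, hz⟩ : ∃ z, z ∉ S := by
      by_contra h; push Not at h; exact hStop (Submodule.eq_top_iff'.2 h)
    obtain ⟨a, ha⟩ := hcon z hz
    have hall : ∀ s ∈ S, A *ᵥ s = a • s := by
      intro s hs
      obtain ⟨b, hb⟩ := hcon (z + s) fun h => hz (by simpa using S.sub_mem h hs)
      have hba : b = a := by
        by_contra hne
        refine hz ?_
        have h1 : A *ᵥ s - c • s ∈ S := hc s
        have h2 : A *ᵥ s ∈ S := by simpa using S.add_mem h1 (S.smul_mem c hs)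
        have e : z = (b - a)⁻¹ • (A *ᵥ s - b • s) := by
          rw [eq_inv_smul_iff₀ (sub_ne_zero.2 hne)]
          rw [mulVec_add, ha] at hb
          linear_combination (norm := module) hb.symm
        rw [e]; exact S.smul_mem _ (S.sub_mem h2 (S.smul_mem b hs))
      rw [mulVec_add, ha, hba, smul_add] at hb
      exact add_left_cancel hb
    exact hx0 a (hall x0 (hS ▸ Submodule.mem_sup_left (Submodule.mem_span_singleton_self x0)))
  refine ⟨x, hx, fun c' => ?_⟩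
  by_contra hcon
  push Not at hcon
  obtain ⟨S', hS'⟩ : ∃ S', S' = (F ∙ x) ⊔ F ∙ (A *ᵥ x) := ⟨_, rfl⟩
  rw [← hS'] at hcon
  rcases eq_or_ne c' c with rfl | hne
  · have hne' : S ⊓ S' ≠ S' := fun h => hxS
      ((inf_eq_right.1 h) (hS' ▸ Submodule.mem_sup_left (Submodule.mem_span_singleton_self x)))
    have h1 := Submodule.finrank_lt_finrank_of_lt (lt_of_le_of_ne inf_le_right hne')
    have h2 : Module.finrank F ↥S' ≤ 2 := hS' ▸ hdim x
    have h3 : LinearMap.range (Matrix.toLin' (A - c' • 1)) ≤ S ⊓ S' := by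
      rintro _ ⟨y, rfl⟩
      rw [Matrix.toLin'_apply, sub_mulVec, smul_mulVec, one_mulVec]
      exact ⟨hc y, hcon y⟩
    have h4 := hA.two_le_range c'
    have h5 := Submodule.finrank_mono h3
    omega
  · have htop : S ⊔ S' = ⊤ := by
      refine Submodule.eq_top_iff'.2 fun y => ?_
      have := Submodule.smul_mem (S ⊔ S') (c' - c)⁻¹ (Submodule.sub_mem _ (Submodule.mem_sup_left (hc y))
        (Submodule.mem_sup_right (hcon y)))
      rwa [sub_sub_sub_cancel_left, ← sub_smul, smul_smul, inv_mul_cancel₀ (sub_ne_zero.2 hne), one_smul] at this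
    have h1 := Submodule.finrank_add_le_finrank_add_finrank S S'
    rw [htop, finrank_top, Module.finrank_pi] at h1
    have h2 : Module.finrank F ↥S ≤ 2 := hS ▸ hdim x0
    have h3 : Module.finrank F ↥S' ≤ 2 := hS' ▸ hdim x
    omega

/-- The first factor can be chosen so that the rest is not scalar modulo the fixed line. -/
theorem exists_first (hn : 5 ≤ Fintype.card ι) {A B : Matrix ι ι F} (hA : Two A) (hAu : IsUnit A.det)
    (hB : NonScalar B) (hBu : IsUnit B.det) {μ : F} (hμ : μ ≠ 0) :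
    ∃ (A' : Matrix ι ι F) (v : ι → F), SCls A A' ∧ v ≠ 0 ∧ (A'⁻¹ * B) *ᵥ v = μ • v ∧ (∀ c : F, A' *ᵥ v ≠ c • v) ∧
      ∀ c : F, ∃ z, (A'⁻¹ * B) *ᵥ z - c • z ∉ (F ∙ v) := by
  classical
  obtain ⟨v, hv⟩ := hB.exists_vec
  have hv0 : v ≠ 0 := fun h => hv 0 (by simp [h])
  obtain ⟨u, hu⟩ : ∃ u, u = μ⁻¹ • (B *ᵥ v) := ⟨_, rfl⟩
  have hvu : ∀ c : F, u ≠ c • v := fun c h => hv (μ * c) (by
    rw [← smul_smul, ← h, hu, smul_smul, mul_inv_cancel₀ hμ, one_smul])
  have hli : LinearIndependent F ![v, u] := (LinearIndependent.pair_iff' hv0).2 fun c => (hvu c).symm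
  obtain ⟨x, hx, hgood⟩ := exists_good_x hn hA
  obtain ⟨P, hP, p1, p2⟩ := exists_move (by omega) (indep_of_vec hx) hli
  have hPu : IsUnit P.det := by rw [hP]; exact isUnit_one
  obtain ⟨A', hA'⟩ : ∃ A', A' = P * A * P⁻¹ := ⟨_, rfl⟩
  have hcls : SCls A A' := ⟨P, hP, by rw [hA', Matrix.mul_assoc, nonsing_inv_mul _ hPu, Matrix.mul_one]⟩
  have hA'v : A' *ᵥ v = u := by
    rw [hA', ← p1, mulVec_mulVec, Matrix.mul_assoc, nonsing_inv_mul _ hPu, Matrix.mul_one, ← mulVec_mulVec, p2]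
  have key : ∀ A'' : Matrix ι ι F, SCls A A'' → A'' *ᵥ v = u →
      (A''⁻¹ * B) *ᵥ v = μ • v ∧ ∀ c : F, A'' *ᵥ v ≠ c • v := fun A'' h h' => by
    have hu' : IsUnit A''.det := by rw [h.det_eq]; exact hAu
    have e : B *ᵥ v = μ • u := by rw [hu, smul_smul, mul_inv_cancel₀ hμ, one_smul]
    refine ⟨?_, fun c => h' ▸ hvu c⟩
    rw [← mulVec_mulVec, e, mulVec_smul, ← h', mulVec_mulVec, nonsing_inv_mul _ hu', one_mulVec]
  by_cases h1 : ∀ c : F, ∃ z, (A'⁻¹ * B) *ᵥ z - c • z ∉ (F ∙ v)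
  · exact ⟨A', v, hcls, hv0, (key A' hcls hA'v).1, (key A' hcls hA'v).2, h1⟩
  push Not at h1
  obtain ⟨c, hc⟩ := h1
  obtain ⟨S, hS⟩ : ∃ S, S = (F ∙ v) ⊔ F ∙ u := ⟨_, rfl⟩
  have hSdim : Module.finrank F ↥S = 2 := by
    rw [hS, finrank_sup_single (fun h => by
      obtain ⟨a, ha⟩ := Submodule.mem_span_singleton.1 h
      exact hvu a ha.symm), finrank_span_singleton hv0]
  have hA'u : IsUnit A'.det := by rw [hcls.det_eq]; exact hAu
  obtain ⟨y, hyS, hy⟩ : ∃ y, y ∉ S ∧ A'⁻¹ *ᵥ y ∉ S ⊔ F ∙ y := by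
    by_contra hcon
    push Not at hcon
    obtain ⟨d, hd⟩ := exists_scalar_mod (by omega) hcon
    have hd' : ∀ z, z - d • (A' *ᵥ z) ∈ S := fun z => by
      have := hd (A' *ᵥ z)
      rwa [mulVec_mulVec, nonsing_inv_mul _ hA'u, one_mulVec] at this
    rcases eq_or_ne d 0 with rfl | hd0
    · have htop : S = ⊤ := Submodule.eq_top_iff'.2 fun z => by simpa using hd' z
      rw [htop, finrank_top, Module.finrank_pi] at hSdim
      omega
    obtain ⟨w, hw⟩ := hgood d⁻¹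
    refine hw ?_
    have h2 := S.smul_mem (-d⁻¹) (hd' (P *ᵥ w))
    have hSP : ∀ s ∈ S, P⁻¹ *ᵥ s ∈ (F ∙ x) ⊔ F ∙ (A *ᵥ x) := by
      intro s hs
      rw [hS] at hs
      obtain ⟨a, ha, b, hb, rfl⟩ := Submodule.mem_sup.1 hs
      obtain ⟨a', rfl⟩ := Submodule.mem_span_singleton.1 ha
      obtain ⟨b', rfl⟩ := Submodule.mem_span_singleton.1 hb
      rw [mulVec_add, mulVec_smul, mulVec_smul, ← p2, ← p1]
      simp only [mulVec_mulVec, ← Matrix.mul_assoc, nonsing_inv_mul _ hPu, Matrix.one_mul, one_mulVec]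
      exact Submodule.add_mem _ (Submodule.mem_sup_left (Submodule.smul_mem _ _ (Submodule.mem_span_singleton_self x)))
        (Submodule.mem_sup_right (Submodule.smul_mem _ _ (Submodule.mem_span_singleton_self _)))
    have := hSP _ h2
    rw [smul_sub, smul_smul, neg_mul, inv_mul_cancel₀ hd0, neg_smul, neg_smul, one_smul, mulVec_sub, mulVec_neg,
      mulVec_neg, mulVec_smul, hA'] at this
    simp only [mulVec_mulVec, ← Matrix.mul_assoc, nonsing_inv_mul _ hPu, Matrix.one_mul] at this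
    simp only [Matrix.mul_assoc, nonsing_inv_mul _ hPu, Matrix.mul_one, one_mulVec] at this
    convert this using 1
    abel
  obtain ⟨ψ₀, hψ₀, hψle⟩ : ∃ ψ₀ : (ι → F) →ₗ[F] F, ψ₀ (A'⁻¹ *ᵥ y) ≠ 0 ∧ S ⊔ F ∙ y ≤ LinearMap.ker ψ₀ := by
    obtain ⟨f, hf1, hf2⟩ := Submodule.exists_dual_map_eq_bot_of_notMem hy inferInstance
    exact ⟨f, hf1, Submodule.map_le_iff_le_comap.1 hf2.le⟩
  obtain ⟨ψ, hψ⟩ : ∃ ψ : ι → F, ∀ z, ψ ⬝ᵥ z = ψ₀ z := ⟨fun i => ψ₀ (Pi.single i 1), fun z => by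
    conv_rhs => rw [show z = ∑ i, z i • Pi.single (M := fun _ => F) i 1 from (pi_eq_sum_univ' z)]
    simp [dotProduct, mul_comm]⟩
  have hψk : ∀ s ∈ S ⊔ F ∙ y, ψ ⬝ᵥ s = 0 := fun s hs => (hψ s).trans (hψle hs)
  have hψy : ψ ⬝ᵥ y = 0 := hψk _ (Submodule.mem_sup_right (Submodule.mem_span_singleton_self y))
  obtain ⟨R, hR⟩ : ∃ R, R = 1 + Matrix.vecMulVec y ψ := ⟨_, rfl⟩
  have hRd : R.det = 1 := by rw [hR, det_one_add_vec, hψy, add_zero]
  have hRu : IsUnit R.det := by rw [hRd]; exact isUnit_one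
  have hRz : ∀ z, R *ᵥ z = z + (ψ ⬝ᵥ z) • y := fun z => by
    rw [hR, add_mulVec, one_mulVec, vecMulVec_mulVec, op_smul_eq_smul]
  have hRi : R⁻¹ = 1 - Matrix.vecMulVec y ψ := inv_eq_right_inv (by
    rw [hR, Matrix.mul_sub, Matrix.mul_one, Matrix.add_mul, Matrix.one_mul, vecMulVec_mul_vecMulVec, hψy]
    ext i j; simp [vecMulVec_apply])
  have hRiz : ∀ z, ψ ⬝ᵥ z = 0 → R⁻¹ *ᵥ z = z := fun z hz => by
    rw [hRi, sub_mulVec, one_mulVec, vecMulVec_mulVec, hz]; simp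
  obtain ⟨A'', hA''⟩ : ∃ A'', A'' = R * A' * R⁻¹ := ⟨_, rfl⟩
  have hcls' : SCls A A'' := hcls.trans ⟨R, hRd, by rw [hA'', Matrix.mul_assoc, nonsing_inv_mul _ hRu, Matrix.mul_one]⟩
  have hvS : v ∈ S := hS ▸ Submodule.mem_sup_left (Submodule.mem_span_singleton_self v)
  have hA''v : A'' *ᵥ v = u := by
    rw [hA'', ← mulVec_mulVec, ← mulVec_mulVec, hRiz v (hψk _ (Submodule.mem_sup_left hvS)), hA'v, hRz,
      hψk _ (Submodule.mem_sup_left (hS ▸ Submodule.mem_sup_right (Submodule.mem_span_singleton_self u))), zero_smul,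
      add_zero]
  refine ⟨A'', v, hcls', hv0, (key A'' hcls' hA''v).1, (key A'' hcls' hA''v).2, ?_⟩
  by_contra h2
  push Not at h2
  obtain ⟨c', hc'⟩ := h2
  have hA''i : A''⁻¹ = R * A'⁻¹ * R⁻¹ := by
    rw [hA'', Matrix.mul_inv_rev, Matrix.mul_inv_rev, nonsing_inv_nonsing_inv _ hRu, Matrix.mul_assoc]
  have hdiff : ∀ z, ψ ⬝ᵥ (B *ᵥ z) = 0 →
      (ψ ⬝ᵥ (A'⁻¹ *ᵥ (B *ᵥ z))) • y - (c' - c) • z ∈ (F ∙ v) := by
    intro z hz
    have e1 := Submodule.sub_mem _ (hc' z) (hc z)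
    rw [hA''i, ← mulVec_mulVec, ← mulVec_mulVec, ← mulVec_mulVec, ← mulVec_mulVec, hRiz _ hz, hRz] at e1
    convert e1 using 1
    module
  have hBy : B *ᵥ (B⁻¹ *ᵥ y) = y := by rw [mulVec_mulVec, mul_nonsing_inv _ hBu, one_mulVec]
  have hcc : c' = c := by
    by_contra hne
    obtain ⟨L, hL⟩ : ∃ L : (ι → F) →ₗ[F] F × F,
        L = (dotProductBilin F F (ψ ᵥ* B)).prod (dotProductBilin F F (ψ ᵥ* (A'⁻¹ * B))) := ⟨_, rfl⟩
    obtain ⟨z, hz, hzv⟩ : ∃ z, z ∈ LinearMap.ker L ∧ z ∉ (F ∙ v) := by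
      by_contra hcon
      push Not at hcon
      have h3 := Submodule.finrank_mono (fun z hz => hcon z hz : LinearMap.ker L ≤ (F ∙ v))
      have h4 := LinearMap.finrank_range_add_finrank_ker L
      have h5 := Submodule.finrank_le (LinearMap.range L)
      rw [finrank_span_singleton hv0] at h3
      rw [Module.finrank_pi] at h4
      rw [Module.finrank_prod, Module.finrank_self] at h5
      omega
    rw [hL, LinearMap.mem_ker] at hz
    simp [Prod.ext_iff] at hz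
    have := hdiff z (by rw [dotProduct_mulVec]; exact hz.1)
    rw [dotProduct_mulVec, dotProduct_mulVec, vecMul_vecMul, hz.2, zero_smul, zero_sub] at this
    refine hzv ?_
    have := Submodule.smul_mem (F ∙ v) (-(c' - c)⁻¹) this
    simpa [smul_smul, sub_ne_zero.2 hne] using this
  have := hdiff (B⁻¹ *ᵥ y) (by rw [hBy]; exact hψy)
  rw [hBy, hcc, sub_self, zero_smul, sub_zero] at this
  have h6 := Submodule.smul_mem (F ∙ v) (ψ ⬝ᵥ (A'⁻¹ *ᵥ y))⁻¹ this
  rw [smul_smul, inv_mul_cancel₀ (by rw [hψ]; exact hψ₀), one_smul] at h6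
  exact hyS (hS ▸ Submodule.mem_sup_left h6)

/-- Lifting a factorisation of the quotient. -/
theorem exists_lifts {m : ℕ} {lam : F} (hlam : lam ≠ 0) {r : Fin m → F} {A1 : Matrix (Fin m) (Fin m) F}
    (l : List (Matrix (Fin m) (Fin m) F)) (hl : ∀ X ∈ l, SCls A1 X) :
    ∃ (ρ₀ : Fin m → F) (W : Submodule F (Fin m → F)),
      (∀ w : Fin m → F, (∀ ρ ∈ W, ρ ⬝ᵥ w = 0) → ∀ X ∈ l, X *ᵥ w = lam • w) ∧
      ∀ ρ, ρ - ρ₀ ∈ W → ∃ L : List (Matrix (Fin 1 ⊕ Fin m) (Fin 1 ⊕ Fin m) F), L.length = l.length ∧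
        (∀ Y ∈ L, SCls (fromBlocks (lam • 1) (Matrix.replicateRow (Fin 1) r) 0 A1) Y) ∧
        L.prod = fromBlocks (lam ^ l.length • 1) (Matrix.replicateRow (Fin 1) ρ) 0 l.prod ∧
        ∀ X ∈ l, ∃ a, fromBlocks (lam • 1) a 0 X ∈ L := by
  induction l with
  | nil =>
    refine ⟨0, ⊥, fun w _ X hX => by simp at hX, fun ρ hρ => ⟨[], rfl, by simp, ?_, by simp⟩⟩
    simp [sub_eq_zero] at hρ
    simp [hρ]
  | cons X l ih =>
    obtain ⟨ρ₀, W, hW, hlift⟩ := ih fun Y hY => hl Y (List.mem_cons_of_mem _ hY)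
    obtain ⟨P, hP, hPX⟩ := hl X (by simp)
    have hPu : IsUnit P.det := by rw [hP]; exact isUnit_one
    refine ⟨lam • ρ₀ + (r ᵥ* P⁻¹) ᵥ* l.prod,
      W.map (lam • LinearMap.id) ⊔ LinearMap.range (Matrix.vecMulLinear ((X - lam • 1) * l.prod)),
      fun w hw Y hY => ?_, fun ρ hρ => ?_⟩
    · have htail : ∀ Y ∈ l, Y *ᵥ w = lam • w := hW w fun ρ hρ => by
        have := hw _ (Submodule.mem_sup_left (Submodule.mem_map_of_mem (f := lam • LinearMap.id) hρ))
        simpa [hlam] using this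
      have hprod : ∀ l' : List (Matrix (Fin m) (Fin m) F), (∀ Y ∈ l', Y *ᵥ w = lam • w) →
          l'.prod *ᵥ w = lam ^ l'.length • w := by
        intro l'
        induction l' with
        | nil => simp
        | cons Z l' ih' =>
          intro h
          rw [List.prod_cons, ← mulVec_mulVec, ih' fun Y hY => h Y (List.mem_cons_of_mem _ hY), mulVec_smul,
            h Z (by simp), smul_smul, List.length_cons, pow_succ]
      rcases List.mem_cons.1 hY with rfl | hY'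
      · have h0 : ((Y - lam • 1) * l.prod) *ᵥ w = 0 := by
          refine dotProduct_eq_zero _ fun u => ?_
          have := hw _ (Submodule.mem_sup_right (LinearMap.mem_range_self (Matrix.vecMulLinear ((Y - lam • 1) * l.prod)) u))
          rw [dotProduct_comm]
          simpa [dotProduct_mulVec] using this
        rw [← mulVec_mulVec, hprod l htail, mulVec_smul, smul_eq_zero] at h0
        have := h0.resolve_left (pow_ne_zero _ hlam)
        simpa [sub_mulVec, smul_mulVec, sub_eq_zero] using this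
      · exact htail Y hY'
    · obtain ⟨p, hp, q, hq, hpq⟩ := Submodule.mem_sup.1 hρ
      obtain ⟨w1, hw1, rfl⟩ := Submodule.mem_map.1 hp
      obtain ⟨t, rfl⟩ := hq
      obtain ⟨L, L1, L2, L3, L4⟩ := hlift (ρ₀ + w1) (by simpa using hw1)
      obtain ⟨a, ha⟩ : ∃ a, a = r ᵥ* P⁻¹ + t ᵥ* (X - lam • 1) := ⟨_, rfl⟩
      refine ⟨fromBlocks (lam • 1) (Matrix.replicateRow (Fin 1) a) 0 X :: L, by simp [L1], ?_, ?_, ?_⟩
      · intro Y hY
        rcases List.mem_cons.1 hY with rfl | hY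
        swap; · exact L2 Y hY
        refine ⟨fromBlocks 1 (Matrix.replicateRow (Fin 1) (t ᵥ* P)) 0 P, by rw [det_fromBlocks_zero₂₁, det_one, hP, one_mul], ?_⟩
        rw [fromBlocks_multiply, fromBlocks_multiply]
        simp only [Matrix.mul_zero, Matrix.zero_mul, Matrix.mul_one, Matrix.one_mul, add_zero, zero_add]
        rw [fromBlocks_inj]
        refine ⟨rfl, ?_, rfl, hPX⟩
        rw [Matrix.smul_mul, Matrix.one_mul, ← replicateRow_vecMul, ← replicateRow_vecMul]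
        ext i j
        have e : (a ᵥ* P) = r + (t ᵥ* P) ᵥ* A1 - lam • (t ᵥ* P) := by
          rw [ha, add_vecMul, vecMul_sub, sub_vecMul, vecMul_vecMul _ X, hPX, ← vecMul_vecMul, vecMul_vecMul r,
            nonsing_inv_mul _ hPu, vecMul_one, vecMul_smul, vecMul_one, smul_vecMul]
          abel
        simp [e]
      · rw [List.prod_cons, L3, fromBlocks_multiply, List.length_cons, List.prod_cons, pow_succ']
        simp only [Matrix.mul_zero, Matrix.zero_mul, add_zero, zero_add]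
        rw [fromBlocks_inj]
        refine ⟨by simp [smul_smul, mul_comm], ?_, rfl, rfl⟩
        rw [Matrix.smul_mul, Matrix.one_mul, ← replicateRow_vecMul]
        have hρ' : ρ = lam • (ρ₀ + w1) + a ᵥ* l.prod := by
          rw [ha, add_vecMul, smul_add, vecMul_vecMul, vecMul_vecMul]
          simp at hpq
          linear_combination (norm := module) -hpq
        ext i j
        simp [hρ']
      · intro Y hY
        rcases List.mem_cons.1 hY with rfl | hY
        · exact ⟨_, List.mem_cons_self⟩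
        · obtain ⟨b, hb⟩ := L4 Y hY
          exact ⟨b, List.mem_cons_of_mem _ hb⟩

theorem list_prod_conj {Q : Matrix ι ι F} (hQ : IsUnit Q.det) (L : List (Matrix ι ι F)) :
    (L.map fun Y => Q * Y * Q⁻¹).prod = Q * L.prod * Q⁻¹ := by
  induction L with
  | nil => simp [mul_nonsing_inv _ hQ]
  | cons Y L ih =>
    rw [List.map_cons, List.prod_cons, List.prod_cons, ih]
    simp only [Matrix.mul_assoc, nonsing_inv_mul_cancel_left _ _ hQ]

theorem CovA.conj {A Q : Matrix ι ι F} {k : ℕ} (hQ : IsUnit Q.det) (h : CovA A k) : CovA (Q * A * Q⁻¹) k := by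
  intro B hB hd
  have hQi := isUnit_nonsing_inv_det _ hQ
  have hB' : NonScalar (Q⁻¹ * B * Q) := fun c hc => hB c (by
    have := congrArg (fun M => Q * M * Q⁻¹) hc
    simp only [Matrix.mul_assoc, mul_nonsing_inv _ hQ, mul_nonsing_inv_cancel_left _ _ hQ, Matrix.mul_one] at this
    rw [this, Matrix.smul_mul, Matrix.mul_smul, Matrix.one_mul, mul_nonsing_inv _ hQ])
  obtain ⟨l, l1, l2, l3, l4⟩ := h _ hB' (by
    rw [det_mul, det_mul, hd, det_conj ((isUnit_iff_isUnit_det _).2 hQ), det_nonsing_inv, Ring.inverse_eq_inv',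
      mul_comm, ← mul_assoc, mul_inv_cancel₀ hQ.ne_zero, one_mul])
  refine ⟨l.map fun X => Q * X * Q⁻¹, by simp [l1], ?_, ?_, fun c w hw => ?_⟩
  · simp only [List.mem_map]
    rintro _ ⟨X, hX, rfl⟩
    exact (l2 X hX).conj_both hQ
  · rw [list_prod_conj hQ, l3]
    simp [Matrix.mul_assoc, mul_nonsing_inv _ hQ, mul_nonsing_inv_cancel_left _ _ hQ]
  · have := l4 c (Q⁻¹ *ᵥ w) fun X hX => by
      have h' := congrArg (fun z => Q⁻¹ *ᵥ z) (hw (Q * X * Q⁻¹) (List.mem_map.2 ⟨X, hX, rfl⟩))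
      simp only [mulVec_mulVec, mulVec_smul] at h'
      simpa [← Matrix.mul_assoc, nonsing_inv_mul _ hQ, mulVec_mulVec] using h'
    simpa [mulVec_mulVec, mul_nonsing_inv _ hQ] using congrArg (Q *ᵥ ·) this

/-- The step from the quotient. -/
theorem peel_gen {m k : ℕ} (hm : 4 ≤ m) {lam : F} {r : Fin m → F} {A1 : Matrix (Fin m) (Fin m) F}
    (hA : Two (fromBlocks (lam • 1) (Matrix.replicateRow (Fin 1) r) 0 A1))
    (hu : IsUnit (fromBlocks (lam • (1 : Matrix (Fin 1) (Fin 1) F)) (Matrix.replicateRow (Fin 1) r) 0 A1).det)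
    (h : CovA A1 k) : CovA (fromBlocks (lam • 1) (Matrix.replicateRow (Fin 1) r) 0 A1) (k + 1) := by
  classical
  obtain ⟨A, hAdef⟩ : ∃ A, A = fromBlocks (lam • (1 : Matrix (Fin 1) (Fin 1) F)) (Matrix.replicateRow (Fin 1) r) 0 A1 :=
    ⟨_, rfl⟩
  rw [← hAdef] at hA hu ⊢
  have hAd : A.det = lam * A1.det := by
    rw [hAdef, det_fromBlocks_zero₂₁]; simp
  have hlam : lam ≠ 0 := fun h0 => hu.ne_zero (by rw [hAd, h0, zero_mul])
  intro B hB hd
  have hBu : IsUnit B.det := by rw [hd]; exact hu.pow _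
  obtain ⟨A', v, hcls, hv0, hev, hA'v, hns⟩ :=
    exists_first (by simp; omega) hA hu hB hBu (pow_ne_zero k hlam)
  obtain ⟨Q₀, hQ₀, q0⟩ := exists_col (i := (Sum.inl 0 : Fin 1 ⊕ Fin m)) (j := Sum.inr ⟨0, by omega⟩) (by simp) hv0
  obtain ⟨Q, hQd, hQv⟩ : ∃ Q : Matrix (Fin 1 ⊕ Fin m) (Fin 1 ⊕ Fin m) F, Q.det = 1 ∧ Q *ᵥ Pi.single (.inl 0) 1 = v := by
    refine ⟨Q₀ * diagonal (Function.update (fun _ => 1) (Sum.inr ⟨0, by omega⟩) Q₀.det⁻¹), ?_, ?_⟩
    · rw [det_mul, det_diagonal, Finset.prod_update_of_mem (Finset.mem_univ _)]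
      simp [hQ₀.ne_zero]
    · rw [← mulVec_mulVec, diagonal_mulVec_single, Function.update_of_ne (by simp), mul_one, q0]
  have hQ : IsUnit Q.det := by rw [hQd]; exact isUnit_one
  obtain ⟨N, hN⟩ : ∃ N, N = Q⁻¹ * (A'⁻¹ * B) * Q := ⟨_, rfl⟩
  have hcol : N *ᵥ Pi.single (.inl 0) 1 = lam ^ k • Pi.single (.inl 0) 1 := by
    rw [hN, ← mulVec_mulVec, hQv, ← mulVec_mulVec, hev, mulVec_smul]
    congr 1
    rw [← hQv, mulVec_mulVec, nonsing_inv_mul _ hQ, one_mulVec]
  obtain ⟨ρ, hρ⟩ : ∃ ρ : Fin m → F, ρ = fun j => N (.inl 0) (.inr j) := ⟨_, rfl⟩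
  have hshape : N = fromBlocks (lam ^ k • 1) (Matrix.replicateRow (Fin 1) ρ) 0 N.toBlocks₂₂ := by
    ext (i | i) (j | j)
    · simpa [Subsingleton.elim i 0, Subsingleton.elim j 0] using congrFun hcol (.inl i)
    · simp [hρ, Subsingleton.elim i 0]
    · simpa [Subsingleton.elim j 0] using congrFun hcol (.inr i)
    · simp [toBlocks₂₂]
  have hB1 : NonScalar N.toBlocks₂₂ := by
    intro c hc
    obtain ⟨z, hz⟩ := hns c
    refine hz (Submodule.mem_span_singleton.2 ⟨((N - c • 1) *ᵥ (Q⁻¹ *ᵥ z)) (.inl 0), ?_⟩)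
    have e1 : (A'⁻¹ * B) *ᵥ z - c • z = Q *ᵥ ((N - c • 1) *ᵥ (Q⁻¹ *ᵥ z)) := by
      rw [hN, sub_mulVec, mulVec_sub, smul_mulVec, one_mulVec, mulVec_smul]
      simp only [mulVec_mulVec, Matrix.mul_assoc, mul_nonsing_inv _ hQ, Matrix.mul_one,
        mul_nonsing_inv_cancel_left _ _ hQ, one_mulVec]
    rw [e1, ← hQv, ← mulVec_smul]
    congr 1
    funext i
    rcases i with i | i
    · simp [Subsingleton.elim i 0]
    · conv_rhs => rw [hshape, hc]
      simp [mulVec, dotProduct, Fintype.sum_sum_type, Matrix.one_apply]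
  have hdet1 : N.toBlocks₂₂.det = A1.det ^ k := by
    have h1 : N.det = lam ^ k * N.toBlocks₂₂.det := by
      conv_lhs => rw [hshape, det_fromBlocks_zero₂₁]
      simp
    have h2 : N.det = A.det ^ k := by
      rw [hN, det_mul, det_mul, det_mul, det_nonsing_inv, det_nonsing_inv, hQd, hcls.det_eq, hd,
        Ring.inverse_eq_inv', inv_one, one_mul, mul_one, pow_succ']
      rw [← mul_assoc, inv_mul_cancel₀ hu.ne_zero, one_mul]
    rw [h2, hAd, mul_pow] at h1
    exact (mul_left_cancel₀ (pow_ne_zero _ hlam) h1).symm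
  obtain ⟨l, l1, l2, l3, l4⟩ := h _ hB1 hdet1
  obtain ⟨ρ₀, W, hW, hlift⟩ := exists_lifts hlam (r := r) l l2
  have htop : W = ⊤ := by
    by_contra hne
    obtain ⟨φ, hφ, hφW⟩ := Submodule.exists_le_ker_of_lt_top W (lt_top_iff_ne_top.2 hne)
    have e : ∀ y, y ⬝ᵥ (fun i => φ (Pi.single i 1)) = φ y := fun y => by
      conv_rhs => rw [show y = ∑ i, y i • Pi.single (M := fun _ => F) i 1 from (pi_eq_sum_univ' y)]
      simp [dotProduct]
    have hw0 := l4 lam _ (hW (fun i => φ (Pi.single i 1)) fun y hy => (e y).trans (hφW hy))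
    exact hφ (LinearMap.ext fun y => by rw [← e, hw0]; simp)
  obtain ⟨L, L1, L2, L3, L4⟩ := hlift ρ (htop ▸ Submodule.mem_top)
  refine ⟨A' :: L.map fun Y => Q * Y * Q⁻¹, by simp [L1, l1], ?_, ?_, fun c w hw => ?_⟩
  · intro X hX
    rcases List.mem_cons.1 hX with rfl | hX
    · exact hcls
    obtain ⟨Y, hY, rfl⟩ := List.mem_map.1 hX
    exact (hAdef ▸ L2 Y hY : SCls A Y).trans ⟨Q, hQd, by rw [Matrix.mul_assoc, nonsing_inv_mul _ hQ, Matrix.mul_one]⟩
  · rw [List.prod_cons, list_prod_conj hQ, L3, l1, l3, ← hshape, hN]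
    have hA'u : IsUnit A'.det := by rw [hcls.det_eq]; exact hu
    simp [Matrix.mul_assoc, mul_nonsing_inv _ hQ, mul_nonsing_inv_cancel_left _ _ hQ,
      mul_nonsing_inv_cancel_left _ _ hA'u]
  · obtain ⟨p, hp⟩ : ∃ p, p = Q⁻¹ *ᵥ w := ⟨_, rfl⟩
    have hwp : w = Q *ᵥ p := by rw [hp, mulVec_mulVec, mul_nonsing_inv _ hQ, one_mulVec]
    have hbot : p ∘ Sum.inr = 0 := l4 c _ fun X hX => by
      obtain ⟨a, ha⟩ := L4 X hX
      have h1 := hw _ (List.mem_cons_of_mem _ (List.mem_map.2 ⟨_, ha, rfl⟩))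
      have h2 := congrArg (fun z => Q⁻¹ *ᵥ z) h1
      simp only [hwp, mulVec_mulVec, mulVec_smul, ← Matrix.mul_assoc, nonsing_inv_mul _ hQ, Matrix.one_mul] at h2
      rw [Matrix.mul_assoc, nonsing_inv_mul _ hQ, Matrix.mul_one, one_mulVec] at h2
      funext i
      have h3 := congrFun h2 (.inr i)
      simpa [mulVec, dotProduct, Fintype.sum_sum_type] using h3
    have hp' : p = p (.inl 0) • Pi.single (.inl 0) 1 := by
      funext i
      rcases i with i | i
      · simp [Subsingleton.elim i 0]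
      · simpa using congrFun hbot i
    have hwv : w = p (.inl 0) • v := by rw [hwp, hp', mulVec_smul, hQv]; simp
    by_contra hne
    have h1 := hw A' (by simp)
    rw [hwv, mulVec_smul, smul_comm c] at h1
    exact hA'v c (smul_right_injective _ (fun h0 => hne (by rw [hwv, h0, zero_smul])) h1)

/-- The step from the quotient, at the dimension. -/
theorem peel {m : ℕ} (hm : 4 ≤ m) {lam : F} {r : Fin m → F} {A1 : Matrix (Fin m) (Fin m) F}
    (hA : Two (fromBlocks (lam • 1) (Matrix.replicateRow (Fin 1) r) 0 A1))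
    (hu : IsUnit (fromBlocks (lam • (1 : Matrix (Fin 1) (Fin 1) F)) (Matrix.replicateRow (Fin 1) r) 0 A1).det)
    (h : CovA A1 m) : CovA (fromBlocks (lam • 1) (Matrix.replicateRow (Fin 1) r) 0 A1) (m + 1) :=
  peel_gen hm hA hu h

/-- Every conjugate of the same determinant moves any factor off the scalars. -/
theorem exists_pad (hn : 3 ≤ Fintype.card ι) {A : Matrix ι ι F} (hA : NonScalar A) (hu : IsUnit A.det)
    {B : Matrix ι ι F} (hB : IsUnit B.det) : ∃ A' : Matrix ι ι F, SCls A A' ∧ NonScalar (A'⁻¹ * B) := by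
  by_cases h : NonScalar (A⁻¹ * B)
  · exact ⟨A, SCls.refl A, h⟩
  obtain ⟨c, hc⟩ : ∃ c : F, A⁻¹ * B = c • 1 := by simpa [NonScalar] using h
  obtain ⟨x, hx⟩ := hA.exists_vec
  have hli := indep_of_vec hx
  have hli' : LinearIndependent F ![x, A *ᵥ x + x] := by
    rw [LinearIndependent.pair_iff] at hli ⊢
    intro a b hab
    obtain ⟨h1, h2⟩ := hli (a + b) b (by rw [← hab]; module)
    exact ⟨by simpa [h2] using h1, h2⟩
  obtain ⟨P, hP, p1, p2⟩ := exists_move hn hli hli'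
  have hPu : IsUnit P.det := by rw [hP]; exact isUnit_one
  refine ⟨P * A * P⁻¹, ⟨P, hP, by rw [Matrix.mul_assoc, nonsing_inv_mul _ hPu, Matrix.mul_one]⟩, fun c' hc' => ?_⟩
  have hA'u : IsUnit (P * A * P⁻¹).det := by rwa [det_conj ((isUnit_iff_isUnit_det _).2 hPu)]
  have e1 : B = c • A := by
    have := congrArg (fun M => A * M) hc
    simpa [mul_nonsing_inv_cancel_left _ _ hu, Matrix.mul_smul] using this
  have e2 : B = c' • (P * A * P⁻¹) := by
    have := congrArg (fun M => (P * A * P⁻¹) * M) hc'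
    simp only [mul_nonsing_inv_cancel_left _ _ hA'u, Matrix.mul_smul, Matrix.mul_one] at this
    exact this
  have e3 := congrArg (fun M => M *ᵥ x) (e1.symm.trans e2)
  have hPx : (P * A * P⁻¹) *ᵥ x = A *ᵥ x + x := by
    conv_lhs => rw [← p1]
    rw [mulVec_mulVec, Matrix.mul_assoc, nonsing_inv_mul _ hPu, Matrix.mul_one, ← mulVec_mulVec, p2]
  simp only [smul_mulVec, hPx] at e3
  obtain ⟨h1, h2⟩ := (LinearIndependent.pair_iff.1 hli) c' (c' - c) (by
    rw [sub_smul, e3, smul_add]; module)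
  refine hB.ne_zero ?_
  have hc0 : c = 0 := by linear_combination h1 - h2
  haveI : Nonempty ι := Fintype.card_pos_iff.1 (by omega)
  rw [e1, hc0, zero_smul, det_zero]

end CfsgLib.SLCover
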