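import Cfsg.Agent.Lib.Classical.SLCover.Basic

/-!
# Triangular factorisation with prescribed diagonals
-/

set_option autoImplicit false
set_option linter.unusedSectionVars false
set_option linter.unusedSimpArgs false

namespace CfsgLib.SLCover

open Matrix

variable {F : Type*} [Field F]

/-- Lower triangular with a given diagonal. -/
def Low {n : ℕ} (L : Matrix (Fin n) (Fin n) F) (β : Fin n → F) : Prop :=
  (∀ i j : Fin n, i < j → L i j = 0) ∧ ∀ i, L i i = β i

/-- Upper triangular with a given diagonal. -/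
def Upp {n : ℕ} (U : Matrix (Fin n) (Fin n) F) (γ : Fin n → F) : Prop :=
  (∀ i j : Fin n, j < i → U i j = 0) ∧ ∀ i, U i i = γ i

/-- One step of the factorisation. -/
theorem lu_step {m : ℕ} (hm : 1 ≤ m) {M : Matrix (Fin 1 ⊕ Fin m) (Fin 1 ⊕ Fin m) F} (hM : NonScalar M)
    (hd : IsUnit M.det) {a : F} (ha : a ≠ 0) :
    ∃ (P : Matrix (Fin 1 ⊕ Fin m) (Fin 1 ⊕ Fin m) F) (r : Matrix (Fin 1) (Fin m) F) (c : Matrix (Fin m) (Fin 1) F)
      (S : Matrix (Fin m) (Fin m) F), IsUnit P.det ∧ M * P = P * fromBlocks (a • 1) r c S ∧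
      (m = 1 ∨ NonScalar (S - a⁻¹ • (c * r))) := by
  classical
  obtain ⟨v, hv⟩ := hM.exists_vec
  obtain ⟨i₁, hi₁⟩ : ∃ i₁ : Fin m, i₁ = ⟨0, hm⟩ := ⟨_, rfl⟩
  have hind : LinearIndependent F ![v, M *ᵥ v - a • v] := by
    refine (LinearIndependent.pair_iff' (fun e => hv 0 (by rw [e]; simp))).2 fun c e => hv (a + c) ?_
    rw [add_smul, e]; abel
  obtain ⟨P, hP, p1, p2⟩ := exists_cols (i := (Sum.inl 0 : Fin 1 ⊕ Fin m)) (j := Sum.inr i₁) (by simp) hind
  obtain ⟨N, hN⟩ : ∃ N, N = P⁻¹ * M * P := ⟨_, rfl⟩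
  have hMP : M * P = P * N := by
    rw [hN, ← Matrix.mul_assoc, ← Matrix.mul_assoc, mul_nonsing_inv _ hP, Matrix.one_mul]
  have hcol : N *ᵥ Pi.single (Sum.inl 0) 1 = a • Pi.single (Sum.inl 0) 1 + Pi.single (Sum.inr i₁) 1 := by
    have e : P *ᵥ (a • Pi.single (Sum.inl 0) 1 + Pi.single (Sum.inr i₁) 1) = M *ᵥ v := by
      rw [mulVec_add, mulVec_smul, p1, p2]; abel
    rw [hN, ← mulVec_mulVec, ← mulVec_mulVec, p1, ← e, mulVec_mulVec, nonsing_inv_mul _ hP, one_mulVec]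
  obtain ⟨r, hr⟩ : ∃ r, r = N.toBlocks₁₂ := ⟨_, rfl⟩
  obtain ⟨S, hS⟩ : ∃ S, S = N.toBlocks₂₂ := ⟨_, rfl⟩
  obtain ⟨c, hc⟩ : ∃ c : Matrix (Fin m) (Fin 1) F, c = Matrix.of fun i _ => if i = i₁ then 1 else 0 := ⟨_, rfl⟩
  have hshape : N = fromBlocks (a • 1) r c S := by
    ext (i | i) (j | j)
    · simpa [mulVec_single, Subsingleton.elim i 0, Subsingleton.elim j 0] using congrFun hcol (.inl 0)
    · simp [hr, toBlocks₁₂]
    · simpa [mulVec_single, Subsingleton.elim j 0, hc, Pi.single_apply] using congrFun hcol (.inr i)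
    · simp [hS, toBlocks₂₂]
  by_cases hgood : m = 1 ∨ NonScalar (S - a⁻¹ • (c * r))
  · exact ⟨P, r, c, S, hP, hshape ▸ hMP, hgood⟩
  push Not at hgood
  obtain ⟨hm1, hsc⟩ := hgood
  obtain ⟨s, hs⟩ : ∃ s : F, S - a⁻¹ • (c * r) = s • (1 : Matrix (Fin m) (Fin m) F) := by
    simpa [NonScalar] using hsc
  have hs0 : s ≠ 0 := by
    intro h0
    rw [h0, zero_smul, sub_eq_zero] at hs
    have hz : N * fromBlocks 1 (-(a⁻¹ • r)) 0 1 = fromBlocks (a • 1) 0 c 0 := by
      rw [hshape, fromBlocks_multiply, fromBlocks_inj]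
      simp [smul_smul, ha, hs, ← sub_eq_neg_add]
    have hne : Nonempty (Fin m) := ⟨i₁⟩
    have := congrArg det hz
    rw [det_mul, det_fromBlocks_zero₂₁, det_one, det_one, mul_one, mul_one, det_fromBlocks_zero₁₂, det_zero,
      mul_zero, hN, det_mul, det_mul] at this
    exact mul_ne_zero (mul_ne_zero (isUnit_nonsing_inv_det _ hP).ne_zero hd.ne_zero) hP.ne_zero this
  obtain ⟨i₂, hi₂⟩ : ∃ i₂ : Fin m, i₂ ≠ i₁ := by
    haveI : Nontrivial (Fin m) := Fin.nontrivial_iff_two_le.2 (by omega)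
    exact exists_ne i₁
  obtain ⟨y, hy⟩ : ∃ y : Matrix (Fin 1) (Fin m) F, y = Matrix.of fun _ j => if j = i₂ then 1 else 0 := ⟨_, rfl⟩
  have hyc : y * c = 0 := by
    ext i j
    simp [hy, hc, Matrix.mul_apply, hi₂, Ne.symm hi₂]
  obtain ⟨Q, hQ⟩ : ∃ Q : Matrix (Fin 1 ⊕ Fin m) (Fin 1 ⊕ Fin m) F, Q = fromBlocks 1 y 0 1 := ⟨_, rfl⟩
  refine ⟨P * Q, r + a • y - y * S, c, S + c * y, ?_, ?_, Or.inr fun t ht => ?_⟩
  · rw [det_mul, hQ, det_fromBlocks_zero₂₁, det_one, det_one]; simpa using hP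
  · rw [← Matrix.mul_assoc, hMP, Matrix.mul_assoc, Matrix.mul_assoc, hshape, hQ, fromBlocks_multiply, fromBlocks_multiply]
    congr 1
    rw [fromBlocks_inj]
    simp only [Matrix.mul_one, Matrix.one_mul, Matrix.mul_zero, Matrix.zero_mul, add_zero, zero_add, Matrix.mul_add,
      Matrix.smul_mul, hyc, ← Matrix.mul_assoc]
    constructorm* _ ∧ _ <;> first | trivial | abel
  have hyS : y * S = s • y := by
    have := congrArg (fun X => y * X) hs
    simp only [Matrix.mul_sub, Matrix.mul_smul, ← Matrix.mul_assoc, hyc, Matrix.zero_mul, smul_zero, sub_zero,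
      Matrix.mul_one] at this
    exact this
  have e : S + c * y - a⁻¹ • (c * (r + a • y - y * S)) = s • 1 + (a⁻¹ * s) • (c * y) := by
    rw [hyS, ← hs, Matrix.mul_sub, Matrix.mul_add, Matrix.mul_smul, Matrix.mul_smul, smul_sub, smul_add, smul_smul,
      smul_smul, inv_mul_cancel₀ ha, one_smul]
    abel
  rw [e] at ht
  have h1 := congrFun (congrFun ht i₁) i₂
  simp [hc, hy, Matrix.mul_apply, Matrix.one_apply, Ne.symm hi₂, ha, hs0] at h1

/-- The factorisation. -/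
theorem exists_lu : ∀ n : ℕ, 1 ≤ n → ∀ M : Matrix (Fin n) (Fin n) F, (n = 1 ∨ NonScalar M) → IsUnit M.det →
    ∀ β γ : Fin n → F, (∀ i, β i ≠ 0) → (∀ i, γ i ≠ 0) → (∏ i, β i) * ∏ i, γ i = M.det →
      ∃ P L U : Matrix (Fin n) (Fin n) F, IsUnit P.det ∧ Low L β ∧ Upp U γ ∧ M * P = P * (L * U) := by
  intro n
  induction n using Nat.strong_induction_on with
  | _ n ih =>
    intro hn M hM hd β γ hβ hγ hprod
    rcases Nat.eq_or_lt_of_le hn with rfl | hn2
    · refine ⟨1, Matrix.of fun _ _ => β 0, Matrix.of fun _ _ => γ 0, by simp, ⟨fun i j h => ?_, fun i => ?_⟩,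
        ⟨fun i j h => ?_, fun i => ?_⟩, ?_⟩
      · exact absurd h (by rw [Subsingleton.elim i j]; exact lt_irrefl _)
      · rw [Subsingleton.elim i 0]; rfl
      · exact absurd h (by rw [Subsingleton.elim i j]; exact lt_irrefl _)
      · rw [Subsingleton.elim i 0]; rfl
      · ext i j
        rw [Subsingleton.elim i 0, Subsingleton.elim j 0, Matrix.mul_one, Matrix.one_mul, Matrix.mul_apply]
        simp at hprod ⊢
        linear_combination -hprod
    obtain ⟨m, rfl⟩ : ∃ m, n = 1 + m := ⟨n - 1, by omega⟩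
    have hM' : NonScalar (M.submatrix finSumFinEquiv finSumFinEquiv) :=
      (hM.resolve_left (by omega)).submatrix finSumFinEquiv
    obtain ⟨e, he⟩ : ∃ e : Fin 1 ⊕ Fin m ≃ Fin (1 + m), e = finSumFinEquiv := ⟨_, rfl⟩
    rw [← he] at hM'
    obtain ⟨a, ha⟩ : ∃ a, a = β (e (.inl 0)) * γ (e (.inl 0)) := ⟨_, rfl⟩
    have ha0 : a ≠ 0 := ha ▸ mul_ne_zero (hβ _) (hγ _)
    have hd' : IsUnit (M.submatrix e e).det := by rwa [det_submatrix_equiv_self]
    obtain ⟨P, r, c, S, hP, hPe, hS⟩ := lu_step (by omega) hM' hd' ha0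
    obtain ⟨S', hS'⟩ : ∃ S', S' = S - a⁻¹ • (c * r) := ⟨_, rfl⟩
    rw [← hS'] at hS
    have hfac : fromBlocks (a • 1) r c S =
        fromBlocks (β (e (.inl 0)) • 1) 0 ((γ (e (.inl 0)))⁻¹ • c) 1 *
          fromBlocks (γ (e (.inl 0)) • 1) ((β (e (.inl 0)))⁻¹ • r) 0 S' := by
      rw [fromBlocks_multiply, fromBlocks_inj]
      refine ⟨?_, ?_, ?_, ?_⟩
      · simp [ha, smul_smul, mul_comm]
      · simp [smul_smul, hβ]
      · simp [smul_smul, hγ]
      · simp [hS', ha, smul_smul, mul_comm]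
    have hdetS : (∏ i, β (e (.inr i))) * ∏ i, γ (e (.inr i)) = S'.det := by
      have h1 := congrArg det hPe
      rw [det_mul, det_mul, hfac, det_mul, det_fromBlocks_zero₁₂, det_fromBlocks_zero₂₁, det_submatrix_equiv_self,
        mul_comm M.det] at h1
      have h2 := mul_left_cancel₀ hP.ne_zero h1
      rw [← hprod, ← e.prod_comp, ← e.prod_comp, Fintype.prod_sum_type, Fintype.prod_sum_type] at h2
      simp at h2
      refine mul_left_cancel₀ ha0 ?_
      rw [ha]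
      linear_combination h2
    have hS'u : IsUnit S'.det := by
      rw [← hdetS, isUnit_iff_ne_zero]
      exact mul_ne_zero (Finset.prod_ne_zero_iff.2 fun i _ => hβ _) (Finset.prod_ne_zero_iff.2 fun i _ => hγ _)
    obtain ⟨P₁, L₁, U₁, hP₁, hL₁, hU₁, hP₁e⟩ := ih m (by omega) (by omega) S' hS hS'u (fun i => β (e (.inr i)))
      (fun i => γ (e (.inr i))) (fun i => hβ _) (fun i => hγ _) hdetS
    obtain ⟨Q, hQ⟩ : ∃ Q : Matrix (Fin 1 ⊕ Fin m) (Fin 1 ⊕ Fin m) F, Q = fromBlocks 1 0 0 P₁ := ⟨_, rfl⟩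
    obtain ⟨L, hL⟩ : ∃ L : Matrix (Fin 1 ⊕ Fin m) (Fin 1 ⊕ Fin m) F,
        L = fromBlocks (β (e (.inl 0)) • 1) 0 (P₁⁻¹ * ((γ (e (.inl 0)))⁻¹ • c)) L₁ := ⟨_, rfl⟩
    obtain ⟨U, hU⟩ : ∃ U : Matrix (Fin 1 ⊕ Fin m) (Fin 1 ⊕ Fin m) F,
        U = fromBlocks (γ (e (.inl 0)) • 1) ((β (e (.inl 0)))⁻¹ • r * P₁) 0 U₁ := ⟨_, rfl⟩
    have hkey : fromBlocks (a • 1) r c S * Q = Q * (L * U) := by
      rw [hQ, hL, hU, hfac, fromBlocks_multiply, fromBlocks_multiply, fromBlocks_multiply, fromBlocks_multiply,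
        fromBlocks_inj]
      refine ⟨by simp, by simp [Matrix.mul_assoc], ?_, ?_⟩
      · simp [← Matrix.mul_assoc, mul_nonsing_inv _ hP₁]
      · simp only [smul_zero, add_zero, Matrix.mul_add, ← Matrix.mul_assoc, Matrix.add_mul, Matrix.zero_mul, Matrix.one_mul, zero_add,
          Matrix.mul_zero, Matrix.mul_smul, Matrix.smul_mul, mul_nonsing_inv _ hP₁, hP₁e]
    refine ⟨(P * Q).submatrix e.symm e.symm, L.submatrix e.symm e.symm, U.submatrix e.symm e.symm, ?_, ⟨?_, ?_⟩,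
      ⟨?_, ?_⟩, ?_⟩
    · rw [det_submatrix_equiv_self, det_mul, hQ, det_fromBlocks_zero₂₁, det_one, one_mul]; exact hP.mul hP₁
    · intro i j hij
      obtain ⟨i, rfl⟩ := e.surjective i
      obtain ⟨j, rfl⟩ := e.surjective j
      simp only [submatrix_apply, Equiv.symm_apply_apply]
      rw [he] at hij
      rcases i with i | i <;> rcases j with j | j <;>
        simp only [finSumFinEquiv_apply_left, finSumFinEquiv_apply_right, Fin.lt_def, Fin.val_castAdd,
          Fin.val_natAdd] at hij <;>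
        simp only [hL, fromBlocks_apply₁₁, fromBlocks_apply₁₂, fromBlocks_apply₂₁, fromBlocks_apply₂₂]
      · omega
      · rfl
      · omega
      · exact hL₁.1 i j (Fin.lt_def.2 (by omega))
    · intro i
      obtain ⟨i, rfl⟩ := e.surjective i
      rcases i with i | i
      · simp [hL, Subsingleton.elim i 0]
      · simpa [hL] using hL₁.2 i
    · intro i j hij
      obtain ⟨i, rfl⟩ := e.surjective i
      obtain ⟨j, rfl⟩ := e.surjective j
      simp only [submatrix_apply, Equiv.symm_apply_apply]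
      rw [he] at hij
      rcases i with i | i <;> rcases j with j | j <;>
        simp only [finSumFinEquiv_apply_left, finSumFinEquiv_apply_right, Fin.lt_def, Fin.val_castAdd,
          Fin.val_natAdd] at hij <;>
        simp only [hU, fromBlocks_apply₁₁, fromBlocks_apply₁₂, fromBlocks_apply₂₁, fromBlocks_apply₂₂]
      · omega
      · omega
      · rfl
      · exact hU₁.1 i j (Fin.lt_def.2 (by omega))
    · intro i
      obtain ⟨i, rfl⟩ := e.surjective i
      rcases i with i | i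
      · simp [hU, Subsingleton.elim i 0]
      · simpa [hU] using hU₁.2 i
    · have : M.submatrix e e * (P * Q) = (P * Q) * (L * U) := by
        rw [← Matrix.mul_assoc, hPe, Matrix.mul_assoc, hkey, ← Matrix.mul_assoc]
      rw [submatrix_mul_equiv L U e.symm e.symm e.symm, submatrix_mul_equiv _ _ e.symm e.symm e.symm, ← this,
        ← submatrix_mul_equiv (M.submatrix e e) (P * Q) e.symm e.symm e.symm, submatrix_submatrix,
        Equiv.self_comp_symm, submatrix_id_id]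

end CfsgLib.SLCover
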