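import Cfsg.Agent.Lib.Classical.SLCover.Lev

/-!
# Split cyclic matrices
-/

set_option autoImplicit false
set_option linter.unusedSectionVars false
set_option linter.unusedSimpArgs false

namespace CfsgLib.SLCover

open Matrix Polynomial

variable {F : Type*} [Field F] {ι κ : Type} [Fintype ι] [DecidableEq ι] [Fintype κ] [DecidableEq κ]

theorem GCls.trans {A X Y : Matrix ι ι F} : GCls A X → GCls X Y → GCls A Y := by
  rintro ⟨P, hP, h⟩ ⟨Q, hQ, h'⟩
  exact ⟨Q * P, by rw [det_mul]; exact hQ.mul hP,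
    by rw [← Matrix.mul_assoc, h', Matrix.mul_assoc, h, Matrix.mul_assoc]⟩

theorem GCls.symm {A X : Matrix ι ι F} : GCls A X → GCls X A := by
  rintro ⟨P, hP, h⟩
  refine ⟨P⁻¹, isUnit_nonsing_inv_det _ hP, ?_⟩
  calc A * P⁻¹ = P⁻¹ * (P * A) * P⁻¹ := by rw [← Matrix.mul_assoc P⁻¹, nonsing_inv_mul _ hP, Matrix.one_mul]
    _ = P⁻¹ * X := by rw [← h, Matrix.mul_assoc, Matrix.mul_assoc, mul_nonsing_inv _ hP, Matrix.mul_one]

theorem GCls.of_conj (A : Matrix ι ι F) {P : Matrix ι ι F} (hP : IsUnit P.det) : GCls A (P * A * P⁻¹) :=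
  ⟨P, hP, by rw [Matrix.mul_assoc, nonsing_inv_mul _ hP, Matrix.mul_one]⟩

theorem GCls.exists_conj {A X : Matrix ι ι F} (h : GCls A X) :
    ∃ P : Matrix ι ι F, IsUnit P.det ∧ X = P * A * P⁻¹ := by
  obtain ⟨P, hP, e⟩ := h
  exact ⟨P, hP, by rw [← e, Matrix.mul_assoc, mul_nonsing_inv _ hP, Matrix.mul_one]⟩

theorem GCls.charpoly_eq {A X : Matrix ι ι F} (h : GCls A X) : X.charpoly = A.charpoly := by
  obtain ⟨P, hP, rfl⟩ := h.exists_conj
  obtain ⟨Q, rfl⟩ := (isUnit_iff_isUnit_det _).2 hP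
  exact Matrix.charpoly_units_conj Q A

theorem GCls.inv {A X : Matrix ι ι F} (h : GCls A X) : GCls A⁻¹ X⁻¹ := by
  obtain ⟨P, hP, rfl⟩ := h.exists_conj
  rw [Matrix.mul_inv_rev, Matrix.mul_inv_rev, nonsing_inv_nonsing_inv _ hP, ← Matrix.mul_assoc]
  exact GCls.of_conj _ hP

/-- Every determinant occurs in the centralizer. -/
def FullDet (A : Matrix ι ι F) : Prop := ∀ t : F, t ≠ 0 → ∃ S : Matrix ι ι F, S.det = t ∧ S * A = A * S

theorem FullDet.scls {A X : Matrix ι ι F} (hA : FullDet A) (h : GCls A X) : SCls A X := by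
  obtain ⟨P, hP, e⟩ := h
  obtain ⟨S, hS, c⟩ := hA P.det⁻¹ (inv_ne_zero hP.ne_zero)
  exact ⟨P * S, by rw [det_mul, hS, mul_inv_cancel₀ hP.ne_zero],
    by rw [← Matrix.mul_assoc, e, Matrix.mul_assoc, ← c, Matrix.mul_assoc]⟩

theorem FullDet.gcls {A X : Matrix ι ι F} (hA : FullDet A) (h : GCls A X) : FullDet X := by
  obtain ⟨P, hP, rfl⟩ := h.exists_conj
  intro t ht
  obtain ⟨S, hS, c⟩ := hA t ht
  refine ⟨P * S * P⁻¹, by rw [det_conj ((isUnit_iff_isUnit_det _).2 hP), hS], ?_⟩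
  simp only [Matrix.mul_assoc, nonsing_inv_mul_cancel_left _ _ hP]
  rw [← Matrix.mul_assoc S, c, Matrix.mul_assoc]

/-- The roots of the characteristic polynomial. -/
def HasRoots (T : Matrix ι ι F) (l : List F) : Prop :=
  T.charpoly = (l.map fun a => Polynomial.X - C a).prod

theorem HasRoots.length {T : Matrix ι ι F} {l : List F} (h : HasRoots T l) : l.length = Fintype.card ι := by
  rw [← charpoly_natDegree_eq_dim T, h, ← Multiset.prod_coe, ← Multiset.map_coe,
    natDegree_multiset_prod_X_sub_C_eq_card, Multiset.coe_card]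

theorem HasRoots.det {T : Matrix ι ι F} {l : List F} (h : HasRoots T l) : T.det = l.prod := by
  have hl := h.length
  rw [det_eq_sign_charpoly_coeff, h, coeff_zero_eq_eval_zero, eval_list_prod, ← hl]
  clear h hl
  induction l with
  | nil => simp
  | cons a l ih =>
    rw [List.map_cons, List.map_cons, List.prod_cons, List.prod_cons, List.length_cons, pow_succ, ← ih]
    simp
    ring

theorem HasRoots.gcls {A X : Matrix ι ι F} {l : List F} (h : HasRoots A l) (hX : GCls A X) : HasRoots X l :=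
  hX.charpoly_eq.trans h

variable [Fintype F]

theorem hasRoots_upp {n : ℕ} {U : Matrix (Fin n) (Fin n) F} {β : Fin n → F} (h : Upp U β) :
    HasRoots U (List.ofFn β) := by
  rw [HasRoots, charpoly_of_upp h, List.map_ofFn, List.prod_ofFn]; rfl

theorem CycV.inv {T : Matrix ι ι F} {x : ι → F} (hT : IsUnit T.det) (h : CycV T x) : CycV T⁻¹ x := by
  intro W hx hinv
  refine h W hx fun y hy => ?_
  obtain ⟨f, hf⟩ : ∃ f : W → W, ∀ y : W, (f y : ι → F) = T⁻¹ *ᵥ (y : ι → F) :=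
    ⟨fun y => ⟨_, hinv _ y.2⟩, fun _ => rfl⟩
  have hinj : Function.Injective f := fun a b hab => Subtype.ext
    (Matrix.mulVec_injective_iff_isUnit.2 ((isUnit_iff_isUnit_det _).2 (isUnit_nonsing_inv_det _ hT))
      (by rw [← hf, ← hf, hab]))
  obtain ⟨z, hz⟩ := Finite.injective_iff_surjective.1 hinj ⟨y, hy⟩
  have e : T⁻¹ *ᵥ (z : ι → F) = y := by rw [← hf, hz]
  rw [← e, mulVec_mulVec, mul_nonsing_inv _ hT, one_mulVec]
  exact z.2

/-- An upper triangular cyclic matrix with prescribed diagonal. -/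
theorem exists_upp (n : ℕ) (hn : 1 ≤ n) (β : Fin n → F) (hβ : ∀ i, β i ≠ 0) :
    ∃ U : Matrix (Fin n) (Fin n) F, Upp U β ∧ Cyclic U := by
  obtain ⟨-, U, -, hU, hc, -⟩ := exists_cyc n 1 (by simp) (Pi.single ⟨0, hn⟩ 1) (by simp) β hβ
  exact ⟨U, hU, hc⟩

/-- A cyclic split matrix is upper triangular up to conjugation. -/
theorem exists_upp_gcls {T : Matrix ι ι F} {l : List F} (hc : Cyclic T) (hl : HasRoots T l) (h0 : (0 : F) ∉ l)
    (hne : l ≠ []) : ∃ (e : ι ≃ Fin l.length) (U : Matrix (Fin l.length) (Fin l.length) F),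
      Upp U (fun i => l.get i) ∧ GCls T (U.submatrix e e) := by
  obtain ⟨U, hU, hUc⟩ := exists_upp l.length (List.length_pos_iff.2 hne) (fun i => l.get i)
    fun i h => h0 (h ▸ List.get_mem l i)
  obtain ⟨e⟩ : Nonempty (ι ≃ Fin l.length) := ⟨Fintype.equivFinOfCardEq hl.length.symm⟩
  obtain ⟨x, hx⟩ := hUc
  refine ⟨e, U, hU, Cyclic.gcls_of_charpoly hc ⟨_, hx.submatrix e⟩ ?_⟩
  have hs := charpoly_reindex e.symm U
  rw [Matrix.reindex_apply, Equiv.symm_symm] at hs
  rw [hs, show U.charpoly = _ from hasRoots_upp hU, List.ofFn_get]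
  exact hl

theorem upp_inv {n : ℕ} {U : Matrix (Fin n) (Fin n) F} {β : Fin n → F} (h : Upp U β) (hβ : ∀ i, β i ≠ 0) :
    Upp U⁻¹ fun i => (β i)⁻¹ := by
  have hu : IsUnit U.det := by
    rw [det_of_upp h, isUnit_iff_ne_zero]; exact Finset.prod_ne_zero_iff.2 fun i _ => hβ i
  letI := invertibleOfIsUnitDet U hu
  have hb : BlockTriangular U id := fun i j hij => h.1 i j hij
  have hi : BlockTriangular U⁻¹ id := blockTriangular_inv_of_blockTriangular hb
  refine ⟨fun i j hij => hi hij, fun i => ?_⟩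
  have h1 := congrFun (congrFun (mul_nonsing_inv _ hu) i) i
  rw [Matrix.mul_apply, Finset.sum_eq_single i] at h1
  · rw [h.2 i, one_apply_eq] at h1
    exact eq_inv_of_mul_eq_one_right h1
  · intro j _ hj
    rcases lt_or_gt_of_ne hj with hlt | hgt
    · rw [h.1 i j hlt, zero_mul]
    · rw [hi hgt, mul_zero]
  · simp

theorem HasRoots.inv {T : Matrix ι ι F} {l : List F} (hc : Cyclic T) (hl : HasRoots T l) (h0 : (0 : F) ∉ l) :
    HasRoots T⁻¹ (l.map (·⁻¹)) := by
  rcases eq_or_ne l [] with rfl | hne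
  · haveI : IsEmpty ι := Fintype.card_eq_zero_iff.1 hl.length.symm
    simp [HasRoots, Matrix.charpoly, Matrix.det_isEmpty]
  obtain ⟨e, U, hU, hg⟩ := exists_upp_gcls hc hl h0 hne
  have h1 := hasRoots_upp (upp_inv hU fun i h => h0 (h ▸ List.get_mem l i))
  refine HasRoots.gcls ?_ hg.inv.symm
  have hs := charpoly_reindex e.symm U⁻¹
  rw [Matrix.reindex_apply, Equiv.symm_symm] at hs
  rw [HasRoots, inv_submatrix_equiv, hs, show U⁻¹.charpoly = _ from h1]
  congr 1
  rw [show (fun i => (l.get i)⁻¹) = (·⁻¹) ∘ l.get from rfl, ← List.map_ofFn, List.ofFn_get]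

/-- Split, cyclic, with a simple root. -/
def Spl (D : Matrix ι ι F) : Prop :=
  Cyclic D ∧ ∃ (b : F) (l : List F), HasRoots D (b :: l) ∧ b ∉ l ∧ (0 : F) ∉ b :: l

theorem Spl.gcls {D X : Matrix ι ι F} (h : Spl D) (hX : GCls D X) : Spl X := by
  obtain ⟨hc, b, l, h1, h2, h3⟩ := h
  exact ⟨hc.gcls hX, b, l, h1.gcls hX, h2, h3⟩

theorem Spl.isUnit_det {D : Matrix ι ι F} (h : Spl D) : IsUnit D.det := by
  obtain ⟨-, b, l, h1, -, h3⟩ := h
  rw [h1.det, isUnit_iff_ne_zero, Ne, List.prod_eq_zero_iff]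
  exact h3

theorem Spl.inv {D : Matrix ι ι F} (h : Spl D) : Spl D⁻¹ := by
  have hu := h.isUnit_det
  obtain ⟨hc, b, l, h1, h2, h3⟩ := h
  obtain ⟨x, hx⟩ := hc
  refine ⟨⟨x, hx.inv hu⟩, b⁻¹, l.map (·⁻¹), by simpa using h1.inv ⟨x, hx⟩ h3, ?_, ?_⟩
  · simpa using h2
  · simpa [List.mem_cons] using h3

theorem Spl.fullDet {D : Matrix ι ι F} (h : Spl D) : FullDet D := by
  obtain ⟨hc, b, l, h1, h2, h3⟩ := h
  obtain ⟨e, U, hU, hg⟩ := exists_upp_gcls hc h1 h3 (by simp)
  refine FullDet.gcls ?_ hg.symm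
  intro t ht
  obtain ⟨e', he'⟩ : ∃ e' : Fin 1 ⊕ Fin l.length ≃ Fin (b :: l).length,
      e' = finSumFinEquiv.trans (finCongr (Nat.add_comm 1 l.length)) := ⟨_, rfl⟩
  obtain ⟨M, hM⟩ : ∃ M, M = U.submatrix e' e' := ⟨_, rfl⟩
  have h21 : M.toBlocks₂₁ = 0 := by
    ext i j
    simp only [hM, toBlocks₂₁, of_apply, submatrix_apply, Matrix.zero_apply]
    refine hU.1 _ _ (Fin.lt_def.2 ?_)
    simp [he', Subsingleton.elim j 0]
  have h11 : M.toBlocks₁₁ = b • 1 := by
    ext i j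
    simp [hM, toBlocks₁₁, Subsingleton.elim i 0, Subsingleton.elim j 0, hU.2, he']
  have hB : IsUnit (M.toBlocks₂₂ - b • 1).det := by
    rw [det_of_upperTriangular (fun i j hij => ?_), isUnit_iff_ne_zero]
    · refine Finset.prod_ne_zero_iff.2 fun i _ => ?_
      simp [hM, toBlocks₂₂, hU.2, he', sub_ne_zero]
      exact fun h => h2 (h ▸ List.getElem_mem _)
    · have hne : i ≠ j := fun h => by simp [h] at hij
      simp only [hM, toBlocks₂₂, Matrix.sub_apply, of_apply, submatrix_apply, Matrix.smul_apply, one_apply_ne hne, smul_zero, sub_zero]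
      refine hU.1 _ _ (Fin.lt_def.2 ?_)
      change (j : ℕ) < i at hij
      simp only [he', Equiv.trans_apply, finCongr_apply, Fin.val_cast, finSumFinEquiv_apply_right, Fin.val_natAdd]
      omega
  have hMU : U.submatrix e e = M.submatrix (e.trans e'.symm) (e.trans e'.symm) := by
    rw [hM, submatrix_submatrix]; congr 1 <;> funext i <;> simp
  rw [hMU]
  obtain ⟨S, hS⟩ : ∃ S : Matrix (Fin 1 ⊕ Fin l.length) (Fin 1 ⊕ Fin l.length) F,
      S = fromBlocks (t • 1) ((1 - t) • (M.toBlocks₁₂ * (M.toBlocks₂₂ - b • 1)⁻¹)) 0 1 := ⟨_, rfl⟩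
  refine ⟨S.submatrix (e.trans e'.symm) (e.trans e'.symm), ?_, ?_⟩
  · rw [det_submatrix_equiv_self, hS, det_fromBlocks_zero₂₁]; simp
  · rw [submatrix_mul_equiv, submatrix_mul_equiv]
    congr 1
    have hM' : M = fromBlocks (b • 1) M.toBlocks₁₂ 0 M.toBlocks₂₂ := by
      conv_lhs => rw [← fromBlocks_toBlocks M, h11, h21]
    have key : (M.toBlocks₁₂ * (M.toBlocks₂₂ - b • 1)⁻¹) * M.toBlocks₂₂ =
        b • (M.toBlocks₁₂ * (M.toBlocks₂₂ - b • 1)⁻¹) + M.toBlocks₁₂ := by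
      have h := congrArg (fun X => M.toBlocks₁₂ * X) (nonsing_inv_mul _ hB)
      simp only [Matrix.mul_one, ← Matrix.mul_assoc, Matrix.mul_sub, Matrix.mul_smul] at h
      exact sub_eq_iff_eq_add'.1 h
    conv_lhs => rw [hM', hS, fromBlocks_multiply]
    conv_rhs => rw [hM', hS, fromBlocks_multiply]
    rw [fromBlocks_inj]
    refine ⟨by simp [smul_smul, mul_comm], ?_, by simp, by simp⟩
    simp only [Matrix.smul_mul, Matrix.one_mul, Matrix.mul_one, Matrix.mul_smul, key]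
    simp only [smul_add, smul_smul, sub_smul, one_smul]
    abel

/-- Lev's theorem on arbitrary index types. -/
theorem lev_list (hι : 2 ≤ Fintype.card ι) {Y X : Matrix ι ι F} (hYn : NonScalar Y) (hY : IsUnit Y.det) (hX : Cyclic X)
    {b : F} {l : List F} (hl : l.length + 1 = Fintype.card ι) (hb : b ∉ l) (h0 : (0 : F) ∉ b :: l)
    (hdet : X.det = Y.det * (b * l.prod)) :
    ∃ P U : Matrix ι ι F, IsUnit P.det ∧ Cyclic U ∧ HasRoots U (b :: l) ∧ GCls X (P * Y * P⁻¹ * U) := by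
  obtain ⟨e⟩ : Nonempty (Fin 1 ⊕ Fin l.length ≃ ι) := ⟨Fintype.equivOfCardEq (by simp; omega)⟩
  simp only [List.mem_cons, not_or] at h0
  have hdeg : X.charpoly.natDegree = 1 + l.length := by rw [charpoly_natDegree_eq_dim]; omega
  obtain ⟨P, U, hP, hUc, hUp, -, hTc, hTp⟩ := lev (m := l.length) (by omega) (hYn.submatrix e)
    (by rwa [det_submatrix_equiv_self]) (Ne.symm h0.1) (β := fun i => l.get i) (fun i h => h0.2 (h ▸ List.get_mem l i))
    (fun i h => hb (h ▸ List.get_mem l i)) X.charpoly_monic hdeg (by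
      rw [det_submatrix_equiv_self, ← List.prod_ofFn, List.ofFn_get, ← hdet, det_eq_sign_charpoly_coeff X, ← mul_assoc,
        ← pow_add, show Fintype.card ι = 1 + l.length by omega]
      simp)
  have hsub : ∀ M : Matrix (Fin 1 ⊕ Fin l.length) (Fin 1 ⊕ Fin l.length) F,
      (M.submatrix e.symm e.symm).charpoly = M.charpoly := fun M => by
    have hs := charpoly_reindex e M
    rwa [Matrix.reindex_apply] at hs
  refine ⟨P.submatrix e.symm e.symm, U.submatrix e.symm e.symm, by rwa [det_submatrix_equiv_self], ?_, ?_, ?_⟩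
  · obtain ⟨x, hx⟩ := hUc; exact ⟨_, hx.submatrix e.symm⟩
  · rw [HasRoots, hsub, hUp, List.map_cons, List.prod_cons]
    congr 1
    rw [← List.prod_ofFn]
    congr 1
    conv_rhs => rw [← List.ofFn_get l]
    rw [List.map_ofFn]
    rfl
  · have e2 : P.submatrix e.symm e.symm * Y * (P.submatrix e.symm e.symm)⁻¹ * U.submatrix e.symm e.symm =
        (P * Y.submatrix e e * P⁻¹ * U).submatrix e.symm e.symm := by
      rw [inv_submatrix_equiv]
      conv_lhs => rw [show Y = (Y.submatrix e e).submatrix e.symm e.symm by simp]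
      rw [submatrix_mul_equiv, submatrix_mul_equiv, submatrix_mul_equiv]
    rw [e2]
    obtain ⟨x, hx⟩ := hTc
    exact Cyclic.gcls_of_charpoly hX ⟨_, hx.submatrix e.symm⟩ (by rw [hsub, hTp])

/-- Products of two classes cover the non-scalar matrices. -/
theorem two_cover {Y X D : Matrix ι ι F} (hι : 2 ≤ Fintype.card ι) (hYn : NonScalar Y) (hY : IsUnit Y.det)
    (hX : Cyclic X) (hD : Spl D) (hdet : X.det * D.det = Y.det) :
    ∃ X' D' : Matrix ι ι F, GCls X X' ∧ GCls D D' ∧ X' * D' = Y := by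
  have hu := hD.isUnit_det
  obtain ⟨hic, b, l, hr, hb, h0⟩ := hD.inv
  obtain ⟨P, U, hP, hUc, hUr, hT⟩ := lev_list hι hYn hY hX (by simpa using hr.length) hb h0 (by
    rw [← List.prod_cons, ← hr.det, det_nonsing_inv, Ring.inverse_eq_inv', ← hdet,
      mul_assoc, mul_inv_cancel₀ hu.ne_zero, mul_one])
  have hgU : GCls D⁻¹ U := Cyclic.gcls_of_charpoly hic hUc (by rw [hr, hUr])
  have hUu : IsUnit U.det := by rw [hgU.det_eq]; exact isUnit_nonsing_inv_det _ hu
  obtain ⟨T, hTdef⟩ : ∃ T, T = P * Y * P⁻¹ * U := ⟨_, rfl⟩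
  rw [← hTdef] at hT
  refine ⟨P⁻¹ * T * P⁻¹⁻¹, P⁻¹ * U⁻¹ * P⁻¹⁻¹, hT.trans (GCls.of_conj _ (isUnit_nonsing_inv_det _ hP)), ?_, ?_⟩
  · have := hgU.inv
    rw [nonsing_inv_nonsing_inv _ hu] at this
    exact this.trans (GCls.of_conj _ (isUnit_nonsing_inv_det _ hP))
  · rw [nonsing_inv_nonsing_inv _ hP, hTdef]
    simp only [Matrix.mul_assoc, mul_nonsing_inv_cancel_left _ _ hP, mul_nonsing_inv_cancel_left _ _ hUu,
      nonsing_inv_mul _ hP, Matrix.mul_one, nonsing_inv_mul_cancel_left _ _ hP]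

/-- Affine functions in small number have a common non-zero point. -/
theorem exists_avoid {M A : Type*} [AddCommGroup M] [Module F M] [Finite M] [Fintype A]
    (hA : Fintype.card A < Fintype.card F) (f : A → M →ₗ[F] F) (c : A → F) (h : ∀ a, f a ≠ 0 ∨ c a ≠ 0) :
    ∃ x, ∀ a, f a x + c a ≠ 0 := by
  classical
  haveI := Fintype.ofFinite M
  by_contra hcon
  push Not at hcon
  have hfib : ∀ a, (Finset.univ.filter fun x => f a x + c a = 0).card * Fintype.card F ≤ Fintype.card M := by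
    intro a
    rcases eq_or_ne (f a) 0 with hf | hf
    · have := (h a).resolve_left (not_not.2 hf)
      simp [hf, this]
    obtain ⟨u, hu⟩ : ∃ u, f a u = 1 := by
      obtain ⟨v, hv⟩ : ∃ v, f a v ≠ 0 := by
        by_contra hv
        push Not at hv
        exact hf (LinearMap.ext hv)
      exact ⟨(f a v)⁻¹ • v, by simp [hv]⟩
    rw [← Finset.card_univ (α := F), ← Finset.card_product, ← Finset.card_univ (α := M)]
    refine Finset.card_le_card_of_injOn (fun p => p.1 + p.2 • u) (by simp [Set.mapsTo_univ_iff]) ?_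
    rintro ⟨x, s⟩ hx ⟨y, t⟩ hy hxy
    simp at hx hy hxy
    have := congrArg (f a) hxy
    simp [hu] at this
    have hst : s = t := by linear_combination this - hx + hy
    subst hst
    simpa using hxy
  have hsub : (Finset.univ : Finset M) ⊆ Finset.univ.biUnion fun a => Finset.univ.filter fun x => f a x + c a = 0 := by
    intro x _
    obtain ⟨a, ha⟩ := hcon x
    simp only [Finset.mem_biUnion, Finset.mem_filter, Finset.mem_univ, true_and]
    exact ⟨a, ha⟩
  have h1 := (Finset.card_le_card hsub).trans Finset.card_biUnion_le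
  have h2 : Fintype.card M * Fintype.card F ≤ Fintype.card A * Fintype.card M := by
    calc Fintype.card M * Fintype.card F
        ≤ (∑ a, (Finset.univ.filter fun x => f a x + c a = 0).card) * Fintype.card F :=
          Nat.mul_le_mul_right _ (by simpa using h1)
      _ = ∑ a, (Finset.univ.filter fun x => f a x + c a = 0).card * Fintype.card F := Finset.sum_mul _ _ _
      _ ≤ ∑ _a : A, Fintype.card M := Finset.sum_le_sum fun a _ => hfib a
      _ = Fintype.card A * Fintype.card M := by simp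
  have hM : 0 < Fintype.card M := Fintype.card_pos
  nlinarith

theorem exists_left_eigen {T : Matrix ι ι F} {W : Submodule F (ι → F)} :
    ∀ (l : List F) (η : ι → F), η ∈ W → η ≠ 0 → (∀ y ∈ W, y ᵥ* T ∈ W) →
      η ᵥ* (l.map fun a => T - a • 1).prod = 0 → ∃ a : F, ∃ ζ ∈ W, ζ ≠ 0 ∧ ζ ᵥ* T = a • ζ := by
  intro l
  induction l with
  | nil => intro η _ h _ h0; simp at h0; exact absurd h0 h
  | cons a l ih =>
    intro η hη hne hinv h0
    rw [List.map_cons, List.prod_cons, ← vecMul_vecMul] at h0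
    by_cases hz : η ᵥ* (T - a • 1) = 0
    · exact ⟨a, η, hη, hne, by rwa [vecMul_sub, vecMul_smul, vecMul_one, sub_eq_zero] at hz⟩
    · refine ih _ ?_ hz hinv h0
      rw [vecMul_sub, vecMul_smul, vecMul_one]
      exact W.sub_mem (hinv η hη) (W.smul_mem a hη)

/-- A split matrix is cyclic when its left eigenspaces are lines. -/
theorem cyclic_of_left {T : Matrix ι ι F} {l : List F} (hl : HasRoots T l) (h0 : (0 : F) ∉ l)
    (h : ∀ (a : F) (η η' : ι → F), η ≠ 0 → η ᵥ* T = a • η → η' ᵥ* T = a • η' → ∃ t : F, η' = t • η) : Cyclic T := by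
  classical
  obtain ⟨η₀, hη₀⟩ : ∃ η₀ : F → ι → F, ∀ a, (∃ η, η ≠ 0 ∧ η ᵥ* T = a • η) → η₀ a ≠ 0 ∧ η₀ a ᵥ* T = a • η₀ a :=
    ⟨fun a => if h : ∃ η, η ≠ 0 ∧ η ᵥ* T = a • η then h.choose else 0, fun a ha => by
      simp only [dif_pos ha]; exact ha.choose_spec⟩
  obtain ⟨A, hA⟩ : ∃ A : Finset F, ∀ a, a ∈ A ↔ a ≠ 0 ∧ ∃ η, η ≠ 0 ∧ η ᵥ* T = a • η :=
    ⟨Finset.univ.filter fun a => a ≠ 0 ∧ ∃ η, η ≠ 0 ∧ η ᵥ* T = a • η, by simp⟩
  obtain ⟨x, hx⟩ := exists_avoid (A := A) (M := ι → F) (by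
      rw [Fintype.card_coe, ← Finset.card_univ]
      refine Finset.card_lt_card ((Finset.ssubset_iff_of_subset (Finset.subset_univ _)).2 ⟨0, Finset.mem_univ _, ?_⟩)
      simp [hA])
    (fun a => dotProductBilin F F (η₀ a.1)) (fun _ => 0) (fun a => Or.inl fun h' => by
      refine (hη₀ a.1 ((hA _).1 a.2).2).1 (dotProduct_eq_zero _ fun v => ?_)
      exact congrArg (fun f => f v) h')
  refine ⟨x, fun W hW hinv => ?_⟩
  by_contra hne
  obtain ⟨A', hA'⟩ : ∃ A' : Submodule F (ι → F), ∀ η, η ∈ A' ↔ ∀ y ∈ W, η ⬝ᵥ y = 0 :=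
    ⟨{ carrier := {η | ∀ y ∈ W, η ⬝ᵥ y = 0}
       add_mem' := fun ha hb y hy => by rw [add_dotProduct, ha y hy, hb y hy, add_zero]
       zero_mem' := fun y _ => zero_dotProduct y
       smul_mem' := fun c a ha y hy => by rw [smul_dotProduct, ha y hy, smul_zero] }, fun _ => Iff.rfl⟩
  obtain ⟨η, hη, hηne⟩ : ∃ η ∈ A', η ≠ 0 := by
    obtain ⟨φ, hφ, hW'⟩ := Submodule.exists_le_ker_of_lt_top W (lt_top_iff_ne_top.2 hne)
    refine ⟨fun i => φ (Pi.single i 1), ?_, ?_⟩
    · rw [hA']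
      intro y hy
      have e : φ y = (fun i => φ (Pi.single i 1)) ⬝ᵥ y := by
        conv_lhs => rw [show y = ∑ i, y i • Pi.single (M := fun _ => F) i 1 from (pi_eq_sum_univ' y)]
        simp [dotProduct, mul_comm]
      rw [← e]
      exact hW' hy
    · intro h'
      refine hφ (LinearMap.pi_ext fun i t => ?_)
      rw [show Pi.single (M := fun _ => F) i t = t • Pi.single i 1 by rw [← Pi.single_smul]; simp, map_smul]
      simp [congrFun h' i]
  have hCH : (l.map fun a => T - a • 1).prod = 0 := by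
    have := aeval_self_charpoly T
    rw [hl, map_list_prod, List.map_map] at this
    rw [← this]
    congr 1
    refine List.map_congr_left fun a _ => ?_
    simp [Algebra.algebraMap_eq_smul_one]
  obtain ⟨a, ζ, hζ, hζne, hζa⟩ := exists_left_eigen l η hη hηne (fun y hy => (hA' _).2 fun v hv => by
    rw [← dotProduct_mulVec]; exact (hA' y).1 hy _ (hinv v hv)) (by rw [hCH, vecMul_zero])
  have ha0 : a ≠ 0 := by
    rintro rfl
    rw [zero_smul] at hζa
    have hu : IsUnit T.det := by rw [hl.det, isUnit_iff_ne_zero, Ne, List.prod_eq_zero_iff]; exact h0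
    exact hζne (by simpa [vecMul_vecMul, mul_nonsing_inv _ hu] using congrArg (· ᵥ* T⁻¹) hζa)
  have hex : ∃ η, η ≠ 0 ∧ η ᵥ* T = a • η := ⟨ζ, hζne, hζa⟩
  obtain ⟨t, rfl⟩ := h a (η₀ a) ζ (hη₀ a hex).1 (hη₀ a hex).2 hζa
  have ht : t ≠ 0 := fun h' => hζne (by simp [h'])
  have := (hA' _).1 hζ x hW
  rw [smul_dotProduct, smul_eq_zero] at this
  exact hx ⟨a, (hA a).2 ⟨ha0, hex⟩⟩ (by simpa using this.resolve_left ht)

theorem left_eigen_line {T : Matrix ι ι F} (hT : Cyclic T) {a : F} {η η' : ι → F} (hη : η ≠ 0)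
    (h : η ᵥ* T = a • η) (h' : η' ᵥ* T = a • η') : ∃ t : F, η' = t • η := by
  obtain ⟨x, hx⟩ := hT
  have key : ∀ ζ : ι → F, ζ ᵥ* T = a • ζ → ζ ⬝ᵥ x = 0 → ζ = 0 := by
    intro ζ hζ h0
    refine dotProduct_eq_zero _ fun v => ?_
    obtain ⟨W, hW⟩ : ∃ W : Submodule F (ι → F), W = LinearMap.ker (dotProductBilin F F ζ) := ⟨_, rfl⟩
    have : W = ⊤ := hx W (by simp [hW, h0]) fun y hy => by
      simp [hW] at hy ⊢
      rw [dotProduct_mulVec, hζ, smul_dotProduct, hy, smul_zero]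
    have hv : v ∈ W := this ▸ Submodule.mem_top
    simpa [hW] using hv
  have hne : η ⬝ᵥ x ≠ 0 := fun h0 => hη (key η h h0)
  refine ⟨(η' ⬝ᵥ x) / (η ⬝ᵥ x), sub_eq_zero.1 (key _ ?_ ?_)⟩
  · rw [sub_vecMul, smul_vecMul, h, h', smul_sub, smul_comm]
  · rw [sub_dotProduct, smul_dotProduct, smul_eq_mul, div_mul_cancel₀ _ hne, sub_self]

end CfsgLib.SLCover
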